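import Mathlib
import Cfsg.Agent.F4M.OctDefs

set_option autoImplicit false

/-!
# S2108, Part II (kernel of order prime to `p`): abstract data of the `BN`-lifting in ARBITRARY rank

General-rank version of `F4M/OctDefs.lean` (S2114).  Rank-one data `R1 G` are those of `F4M/OctDefs.lean` (`X`, `Y`, `T`, `n = x₁ y₀ x₂`,
`R1.Ok`).  `BnDat ι G` = the unipotent group `U`, for every fundamental index `i : ι` a complement `Uc i` of `X_i` in `U` and a rank-one datum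
`R i`; `H = ⨆ T_i`, `N = ⟨H, n_i⟩`.  The Weyl group is described by a Coxeter matrix `M : CoxeterMatrix ι`:

* `cox` : a homomorphism `φ : N →* M.Group` with `φ n_i = s_i` and kernel `H`;
* `braid_*` (for `i < j`, `m = M i j`): the element `w_ij = wd M i j` (`n_j (n_i n_j)^(m/2 - 1)` for even `m`, `(n_i n_j)^(m/2)` for odd `m`)
  conjugates `X_i, Y_i` into `X_k, Y_k` and `n_i` into `T_k n_k`, `k = bk M i j` (`= i` for even `m`, `= j` for odd `m`).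
  Upstairs this gives the braid relation `(q_i q_j)^m = 1` in `Ñ / H̃`.

Upstairs (unique `p`-lifts `L : PLift σ p` of `CtRecT/TPL.lean`): `Ut`, `Ht = ⨆ T̃_i`, `Nt`, `gent`, `wdt`, `Btset`, `cells`, `Up`.
-/

namespace Cfsg.Agent.E6M

open Cfsg.Agent.CtRecT Cfsg.Agent.F4M

variable {ι : Type*} {G : Type*} [Group G]

/-- the data of the `BN`-lifting argument in arbitrary rank. -/
structure BnDat (ι : Type*) (G : Type*) [Group G] where
  /-- the unipotent group -/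
  U : Subgroup G
  /-- the complement of `X_i` in `U` -/
  Uc : ι → Subgroup G
  /-- the rank-one datum of the fundamental index `i` -/
  R : ι → R1 G

namespace BnDat

/-- the torus `⨆ T_i`. -/
def H (D : BnDat ι G) : Subgroup G := ⨆ i, (D.R i).T

/-- the group `N = ⟨H, n_i⟩`. -/
def N (D : BnDat ι G) : Subgroup G := Subgroup.closure ((D.H : Set G) ∪ Set.range fun i => (D.R i).n)

/-- the subgroup generated by all rank-one groups. -/
def gen (D : BnDat ι G) : Subgroup G := ⨆ i, (D.R i).L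

/-- the braid element `w_ij`: `n_j (n_i n_j)^(m/2 - 1)` for even `m = M i j`, `(n_i n_j)^(m/2)` for odd `m`. -/
def wd (D : BnDat ι G) (M : CoxeterMatrix ι) (i j : ι) : G :=
  if Even (M i j) then (D.R j).n * ((D.R i).n * (D.R j).n) ^ (M i j / 2 - 1)
  else ((D.R i).n * (D.R j).n) ^ (M i j / 2)

/-- the index `k` with `w_ij s_i w_ij⁻¹ = s_k`: `i` for even `M i j`, `j` for odd `M i j`. -/
def bk (M : CoxeterMatrix ι) (i j : ι) : ι := if Even (M i j) then i else j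

/-- the axioms. -/
structure Ok [LinearOrder ι] (D : BnDat ι G) (M : CoxeterMatrix ι) : Prop where
  ok : ∀ i, (D.R i).Ok
  X_le : ∀ i, (D.R i).X ≤ D.U
  Uc_le : ∀ i, D.Uc i ≤ D.U
  dec : ∀ i, ∀ u ∈ D.U, ∃ v ∈ D.Uc i, ∃ x ∈ (D.R i).X, u = v * x
  n_Uc : ∀ i, ∀ v ∈ D.Uc i, (D.R i).n * v * (D.R i).n⁻¹ ∈ D.U
  H_U : ∀ h ∈ D.H, ∀ u ∈ D.U, h * u * h⁻¹ ∈ D.U
  H_X : ∀ i, ∀ h ∈ D.H, ∀ x ∈ (D.R i).X, h * x * h⁻¹ ∈ (D.R i).X
  H_Y : ∀ i, ∀ h ∈ D.H, ∀ y ∈ (D.R i).Y, h * y * h⁻¹ ∈ (D.R i).Y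
  T_comm : ∀ i j, ∀ s ∈ (D.R i).T, ∀ t ∈ (D.R j).T, s * t = t * s
  n_T : ∀ i j, i ≠ j → ∀ t ∈ (D.R j).T, (D.R i).n * t * (D.R i).n⁻¹ * t⁻¹ ∈ (D.R i).T
  braid_X : ∀ i j, i < j → ∀ x ∈ (D.R i).X, D.wd M i j * x * (D.wd M i j)⁻¹ ∈ (D.R (bk M i j)).X
  braid_Y : ∀ i j, i < j → ∀ y ∈ (D.R i).Y, D.wd M i j * y * (D.wd M i j)⁻¹ ∈ (D.R (bk M i j)).Y
  braid_n : ∀ i j, i < j →
    D.wd M i j * (D.R i).n * (D.wd M i j)⁻¹ * (D.R (bk M i j)).n⁻¹ ∈ (D.R (bk M i j)).T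
  cox : ∃ φ : ↥D.N →* M.Group, (∀ i (hi : (D.R i).n ∈ D.N), φ ⟨(D.R i).n, hi⟩ = M.simple i) ∧
    ∀ g : ↥D.N, φ g = 1 ↔ (g : G) ∈ D.H
  dich : ∀ i, ∀ n ∈ D.N, (∀ x ∈ (D.R i).X, n⁻¹ * x * n ∈ D.U) ∨
    (∀ x ∈ (D.R i).X, ((D.R i).n⁻¹ * n)⁻¹ * x * ((D.R i).n⁻¹ * n) ∈ D.U)
  U_inf_H : ∀ u ∈ D.U, u ∈ D.H → u = 1
  B_inf_N : ∀ u ∈ D.U, ∀ h ∈ D.H, u * h ∈ D.N → u = 1
  top : D.gen = ⊤

variable {E : Type*} [Group E] {σ : E →* G} {p : ℕ}

/-- the lifted unipotent group. -/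
def Ut (D : BnDat ι G) (L : PLift σ p) : Subgroup E := Subgroup.closure (L.pl '' (D.U : Set G))

/-- the lifted torus `⨆ T̃_i`. -/
def Ht (D : BnDat ι G) (L : PLift σ p) : Subgroup E := ⨆ i, (D.R i).Tt L

/-- the lifted group `N`. -/
def Nt (D : BnDat ι G) (L : PLift σ p) : Subgroup E :=
  Subgroup.closure ((D.Ht L : Set E) ∪ Set.range fun i => (D.R i).nt L)

/-- the group generated by the lifted rank-one groups. -/
def gent (D : BnDat ι G) (L : PLift σ p) : Subgroup E := ⨆ i, (D.R i).Lt L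

/-- the lifted braid element. -/
def wdt (D : BnDat ι G) (M : CoxeterMatrix ι) (L : PLift σ p) (i j : ι) : E :=
  if Even (M i j) then (D.R j).nt L * ((D.R i).nt L * (D.R j).nt L) ^ (M i j / 2 - 1)
  else ((D.R i).nt L * (D.R j).nt L) ^ (M i j / 2)

/-- the lifted Borel subgroup `Ũ H̃` (as a set of products). -/
def Btset (D : BnDat ι G) (L : PLift σ p) : Set E := {e | ∃ u ∈ D.Ut L, ∃ h ∈ D.Ht L, e = u * h}

/-- the cells `B̃ Ñ B̃`. -/
def cells (D : BnDat ι G) (L : PLift σ p) : Set E :=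
  {e | ∃ b₁ ∈ D.Btset L, ∃ m ∈ D.Nt L, ∃ b₂ ∈ D.Btset L, e = b₁ * m * b₂}

/-- the standing hypotheses upstairs: the axioms, `U` a `p`-group, and the rank-one triviality for every `i`. -/
structure Up [LinearOrder ι] (D : BnDat ι G) (M : CoxeterMatrix ι) (L : PLift σ p) : Prop where
  ok : D.Ok M
  hU : IsPGroup p D.U
  inj : ∀ i, ∀ e ∈ (D.R i).Lt L, σ e = 1 → e = 1

end BnDat

end Cfsg.Agent.E6M
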