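import Mathlib
import Cfsg.Agent.E6M.BnDefs
import Cfsg.Agent.F4M.OctTorH

set_option autoImplicit false
set_option linter.unusedSectionVars false
set_option linter.unusedVariables false

/-! S2108 package B1 (file `Cfsg/Agent/E6M/BnTorH.lean`): the lifted torus `H̃ = ⨆ T̃_i` in arbitrary rank; general-rank port of the second
half of `F4M/OctTorH.lean` (the `R1`-level lemmas of that file — `f4m_mem_closure_pl`, `f4m_map_nt`, `f4m_map_Lt`, `f4m_conj_Lt`,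
`f4m_nt_conj_Xt`, `f4m_torh_mem_Tt`, `f4m_nt_mem_Lt`, `f4m_Y_isPGroup`, … — are generic in `R : R1 G` and are used as they are).
Blueprint `notes/S2108_blueprint_lead.md` §B1.  Prefix for extra helpers: `e6m_torh_`. -/

namespace Cfsg.Agent.E6M

open Cfsg.Agent.CtRecT Cfsg.Agent.F4M

variable {ι : Type*} [LinearOrder ι] {G E : Type*} [Group G] [Group E] {σ : E →* G} {p : ℕ}
  (D : BnDat ι G) (M : CoxeterMatrix ι) (L : PLift σ p)

/-- an element of `E` whose image conjugates `X, Y` of one rank-one datum into `X', Y'` of another conjugates the lifted rank-one group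
into the other lifted rank-one group. -/
theorem e6m_torh_conj_Lt2 {R R' : R1 G} (hR : R.Ok) (hX : IsPGroup p R.X) {g : E}
    (hgX : ∀ x ∈ R.X, σ g * x * (σ g)⁻¹ ∈ R'.X) (hgY : ∀ y ∈ R.Y, σ g * y * (σ g)⁻¹ ∈ R'.Y) :
    ∀ e ∈ R.Lt L, g * e * g⁻¹ ∈ R'.Lt L := by
  have hY := f4m_Y_isPGroup hR hX
  intro e he
  have he' : e ∈ Subgroup.closure ((L.pl '' (R.X : Set G)) ∪ (L.pl '' (R.Y : Set G))) := by
    rw [Subgroup.closure_union]; exact he
  refine f4m_torh_conj_closure ?_ e he'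
  rintro s (⟨x, hx, rfl⟩ | ⟨y, hy, rfl⟩)
  · rw [L.conj_pl g (f4m_torh_pel hX hx)]
    exact f4m_torh_Xt_le_Lt L R' (f4m_torh_pl_mem_Xt L (hgX x hx))
  · rw [L.conj_pl g (f4m_torh_pel hY hy)]
    exact f4m_torh_Yt_le_Lt L R' (f4m_torh_pl_mem_Yt L (hgY y hy))

theorem e6m_X_isPGroup (hup : D.Up M L) (i : ι) : IsPGroup p (D.R i).X := hup.hU.to_le (hup.ok.X_le i)

theorem e6m_T_le_H (i : ι) : (D.R i).T ≤ D.H := le_iSup (fun i => (D.R i).T) i

theorem e6m_Tt_le_Ht (i : ι) : (D.R i).Tt L ≤ D.Ht L := le_iSup (fun i => (D.R i).Tt L) i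

/-- an element above `H` normalizes every `L̃_i`. -/
theorem e6m_conj_Lt (hup : D.Up M L) {g : E} (hg : σ g ∈ D.H) (i : ι) :
    ∀ e ∈ (D.R i).Lt L, g * e * g⁻¹ ∈ (D.R i).Lt L :=
  f4m_conj_Lt L (hup.ok.ok i) (e6m_X_isPGroup D M L hup i) (fun x hx => hup.ok.H_X i _ hg x hx)
    (fun y hy => hup.ok.H_Y i _ hg y hy)

/-- `σ` maps `L̃_i` onto `L_i`. -/
theorem e6m_map_Lt_eq (hup : D.Up M L) (i : ι) : ((D.R i).Lt L).map σ = (D.R i).L := by
  have hX := e6m_X_isPGroup D M L hup i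
  have hY := f4m_Y_isPGroup (hup.ok.ok i) hX
  apply le_antisymm
  · rw [Subgroup.map_le_iff_le_comap]
    intro e he
    exact f4m_map_Lt L (hup.ok.ok i) hX he
  · unfold R1.L
    refine sup_le ?_ ?_
    · intro x hx
      exact Subgroup.mem_map.mpr ⟨L.pl x, f4m_torh_Xt_le_Lt L _ (f4m_torh_pl_mem_Xt L hx),
        L.map_pl _ (f4m_torh_pel hX hx)⟩
    · intro y hy
      exact Subgroup.mem_map.mpr ⟨L.pl y, f4m_torh_Yt_le_Lt L _ (f4m_torh_pl_mem_Yt L hy),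
        L.map_pl _ (f4m_torh_pel hY hy)⟩

/-- `σ` maps `T̃_i` bijectively onto `T_i`. -/
theorem e6m_exists_Tt (hup : D.Up M L) (i : ι) {t : G} (ht : t ∈ (D.R i).T) : ∃ s ∈ (D.R i).Tt L, σ s = t := by
  have h1 : t ∈ ((D.R i).Lt L).map σ := by
    rw [e6m_map_Lt_eq D M L hup i]
    exact (hup.ok.ok i).T_le ht
  obtain ⟨s, hs, rfl⟩ := Subgroup.mem_map.mp h1
  exact ⟨s, (f4m_torh_mem_Tt L).mpr ⟨hs, ht⟩, rfl⟩

theorem e6m_card_Tt (hup : D.Up M L) (i : ι) : Nat.card ((D.R i).Tt L) = Nat.card (D.R i).T := by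
  let f : (D.R i).Tt L → (D.R i).T := fun s => ⟨σ s.1, ((f4m_torh_mem_Tt L).mp s.2).2⟩
  have hf : Function.Bijective f := by
    constructor
    · intro s s' h
      have h1 : σ s.1 = σ s'.1 := congrArg Subtype.val h
      have hs := ((f4m_torh_mem_Tt L).mp s.2).1
      have hs' := ((f4m_torh_mem_Tt L).mp s'.2).1
      have h2 : s.1 * s'.1⁻¹ ∈ (D.R i).Lt L := ((D.R i).Lt L).mul_mem hs (((D.R i).Lt L).inv_mem hs')
      have h3 : σ (s.1 * s'.1⁻¹) = 1 := by rw [map_mul, map_inv, h1, mul_inv_cancel]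
      have h4 := hup.inj i _ h2 h3
      apply Subtype.ext
      exact mul_inv_eq_one.mp h4
    · rintro ⟨t, ht⟩
      obtain ⟨s, hs, hst⟩ := e6m_exists_Tt D M L hup i ht
      exact ⟨⟨s, hs⟩, Subtype.ext hst⟩
  exact Nat.card_congr (Equiv.ofBijective f hf)

/-- the `T̃_i` commute pairwise (also for `i = j`). -/
theorem e6m_Tt_comm (hup : D.Up M L) (i j : ι) : ∀ s ∈ (D.R i).Tt L, ∀ t ∈ (D.R j).Tt L, s * t = t * s := by
  intro s hs t ht
  rw [f4m_torh_mem_Tt] at hs ht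
  have h1 : s * t * s⁻¹ ∈ (D.R j).Lt L := e6m_conj_Lt D M L hup (e6m_T_le_H D i hs.2) j t ht.1
  have h2 : s * t * s⁻¹ * t⁻¹ ∈ (D.R j).Lt L := ((D.R j).Lt L).mul_mem h1 (((D.R j).Lt L).inv_mem ht.1)
  have h3 : σ (s * t * s⁻¹ * t⁻¹) = 1 := by
    rw [map_mul, map_mul, map_mul, map_inv, map_inv, hup.ok.T_comm i j _ hs.2 _ ht.2]
    group
  have h4 := hup.inj j _ h2 h3
  calc s * t = (s * t * s⁻¹ * t⁻¹) * (t * s) := by group
    _ = t * s := by rw [h4, one_mul]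

theorem e6m_Ht_comm (hup : D.Up M L) : ∀ a ∈ D.Ht L, ∀ b ∈ D.Ht L, a * b = b * a := by
  have key : ∀ i, ∀ a ∈ (D.R i).Tt L, ∀ b ∈ D.Ht L, a * b = b * a := by
    intro i a ha b hb
    unfold BnDat.Ht at hb
    induction hb using Subgroup.iSup_induction' with
    | hp j x hx => exact e6m_Tt_comm D M L hup i j a ha x hx
    | h1 => rw [mul_one, one_mul]
    | hmul x y _ _ hx hy => rw [← mul_assoc, hx, mul_assoc, hy, ← mul_assoc]
  intro a ha b hb
  unfold BnDat.Ht at ha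
  induction ha using Subgroup.iSup_induction' with
  | hp i x hx => exact key i x hx b hb
  | h1 => rw [mul_one, one_mul]
  | hmul x y _ _ hx hy => rw [mul_assoc, hy, ← mul_assoc, hx, mul_assoc]

theorem e6m_map_Ht (hup : D.Up M L) {e : E} (he : e ∈ D.Ht L) : σ e ∈ D.H := by
  unfold BnDat.Ht at he
  induction he using Subgroup.iSup_induction' with
  | hp i x hx => exact e6m_T_le_H D i ((f4m_torh_mem_Tt L).mp hx).2
  | h1 => rw [map_one]; exact D.H.one_mem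
  | hmul x y _ _ hx hy => rw [map_mul]; exact D.H.mul_mem hx hy

/-- `σ` maps `H̃` onto `H`. -/
theorem e6m_map_Ht_eq (hup : D.Up M L) : (D.Ht L).map σ = D.H := by
  apply le_antisymm
  · rw [Subgroup.map_le_iff_le_comap]
    intro e he
    exact e6m_map_Ht D M L hup he
  · unfold BnDat.H
    refine iSup_le fun i => ?_
    intro t ht
    obtain ⟨s, hs, rfl⟩ := e6m_exists_Tt D M L hup i ht
    exact Subgroup.mem_map.mpr ⟨s, e6m_Tt_le_Ht D L i hs, rfl⟩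

theorem e6m_Ht_conj_Ut (hup : D.Up M L) : ∀ h ∈ D.Ht L, ∀ u ∈ D.Ut L, h * u * h⁻¹ ∈ D.Ut L := by
  intro h hh u hu
  obtain ⟨g, hg, rfl⟩ := (f4m_mem_closure_pl L hup.hU).mp hu
  rw [L.conj_pl h (f4m_torh_pel hup.hU hg)]
  exact Subgroup.subset_closure ⟨_, hup.ok.H_U _ (e6m_map_Ht D M L hup hh) g hg, rfl⟩

theorem e6m_Ht_conj_Xt (hup : D.Up M L) : ∀ h ∈ D.Ht L, ∀ i, ∀ x ∈ (D.R i).Xt L, h * x * h⁻¹ ∈ (D.R i).Xt L := by
  intro h hh i x hx
  have hX := e6m_X_isPGroup D M L hup i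
  obtain ⟨g, hg, rfl⟩ := (f4m_mem_closure_pl L hX).mp hx
  rw [L.conj_pl h (f4m_torh_pel hX hg)]
  exact f4m_torh_pl_mem_Xt L (hup.ok.H_X i _ (e6m_map_Ht D M L hup hh) g hg)

theorem e6m_nt_sq (hup : D.Up M L) (i : ι) : (D.R i).nt L * (D.R i).nt L ∈ D.Ht L := by
  apply e6m_Tt_le_Ht D L i
  rw [f4m_torh_mem_Tt]
  have h1 := f4m_nt_mem_Lt L (hup.ok.ok i)
  refine ⟨((D.R i).Lt L).mul_mem h1 h1, ?_⟩
  rw [map_mul, f4m_map_nt L (hup.ok.ok i) (e6m_X_isPGroup D M L hup i)]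
  exact (hup.ok.ok i).sq

theorem e6m_nt_conj_Ht (hup : D.Up M L) (i : ι) : ∀ h ∈ D.Ht L,
    (D.R i).nt L * h * ((D.R i).nt L)⁻¹ ∈ D.Ht L ∧ ((D.R i).nt L)⁻¹ * h * (D.R i).nt L ∈ D.Ht L := by
  have hX := e6m_X_isPGroup D M L hup i
  have hn := f4m_nt_mem_Lt L (hup.ok.ok i)
  have hmapn := f4m_map_nt L (hup.ok.ok i) hX
  have key : ∀ h ∈ D.Ht L, (D.R i).nt L * h * ((D.R i).nt L)⁻¹ ∈ D.Ht L := by
    intro h hh
    unfold BnDat.Ht at hh
    induction hh using Subgroup.iSup_induction' with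
    | hp j t ht =>
      have ht' := (f4m_torh_mem_Tt L).mp ht
      by_cases hij : i = j
      · subst hij
        apply e6m_Tt_le_Ht D L i
        rw [f4m_torh_mem_Tt]
        refine ⟨((D.R i).Lt L).mul_mem (((D.R i).Lt L).mul_mem hn ht'.1) (((D.R i).Lt L).inv_mem hn), ?_⟩
        rw [map_mul, map_mul, map_inv, hmapn]
        exact (hup.ok.ok i).n_T _ ht'.2
      · have h2 : (D.R i).nt L * t * ((D.R i).nt L)⁻¹ * t⁻¹ ∈ (D.R i).Tt L := by
          rw [f4m_torh_mem_Tt]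
          constructor
          · have h3 : t * ((D.R i).nt L)⁻¹ * t⁻¹ ∈ (D.R i).Lt L :=
              e6m_conj_Lt D M L hup (e6m_T_le_H D j ht'.2) i _ (((D.R i).Lt L).inv_mem hn)
            have e1 : (D.R i).nt L * t * ((D.R i).nt L)⁻¹ * t⁻¹ =
                (D.R i).nt L * (t * ((D.R i).nt L)⁻¹ * t⁻¹) := by group
            rw [e1]
            exact ((D.R i).Lt L).mul_mem hn h3
          · rw [map_mul, map_mul, map_mul, map_inv, map_inv, hmapn]
            exact hup.ok.n_T i j hij _ ht'.2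
        have e2 : (D.R i).nt L * t * ((D.R i).nt L)⁻¹ =
            ((D.R i).nt L * t * ((D.R i).nt L)⁻¹ * t⁻¹) * t := by group
        rw [e2]
        exact (D.Ht L).mul_mem (e6m_Tt_le_Ht D L i h2) (e6m_Tt_le_Ht D L j ht)
    | h1 =>
      rw [mul_one, mul_inv_cancel]
      exact (D.Ht L).one_mem
    | hmul x y _ _ hx hy =>
      have e3 : (D.R i).nt L * (x * y) * ((D.R i).nt L)⁻¹ =
          ((D.R i).nt L * x * ((D.R i).nt L)⁻¹) * ((D.R i).nt L * y * ((D.R i).nt L)⁻¹) := by group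
      rw [e3]
      exact (D.Ht L).mul_mem hx hy
  intro h hh
  exact ⟨key h hh, f4m_torh_conj_inv (e6m_nt_sq D M L hup i) key h hh⟩

/-- the image of the lifted braid element. -/
theorem e6m_map_wdt (hup : D.Up M L) (i j : ι) : σ (D.wdt M L i j) = D.wd M i j := by
  have hi := f4m_map_nt L (hup.ok.ok i) (e6m_X_isPGroup D M L hup i)
  have hj := f4m_map_nt L (hup.ok.ok j) (e6m_X_isPGroup D M L hup j)
  unfold BnDat.wdt BnDat.wd
  split_ifs
  · rw [map_mul, map_pow, map_mul, hi, hj]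
  · rw [map_pow, map_mul, hi, hj]

/-- the braid relation upstairs. -/
theorem e6m_braid_up (hup : D.Up M L) (i j : ι) (hij : i < j) :
    D.wdt M L i j * (D.R i).nt L * (D.wdt M L i j)⁻¹ * ((D.R (BnDat.bk M i j)).nt L)⁻¹ ∈ D.Ht L := by
  have hX := e6m_X_isPGroup D M L hup i
  have hXk := e6m_X_isPGroup D M L hup (BnDat.bk M i j)
  have hn := f4m_nt_mem_Lt L (hup.ok.ok i)
  have hnk := f4m_nt_mem_Lt L (hup.ok.ok (BnDat.bk M i j))
  have hw := e6m_map_wdt D M L hup i j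
  apply e6m_Tt_le_Ht D L (BnDat.bk M i j)
  rw [f4m_torh_mem_Tt]
  constructor
  · have h1 : D.wdt M L i j * (D.R i).nt L * (D.wdt M L i j)⁻¹ ∈ (D.R (BnDat.bk M i j)).Lt L :=
      e6m_torh_conj_Lt2 L (hup.ok.ok i) hX (fun x hx => by rw [hw]; exact hup.ok.braid_X i j hij x hx)
        (fun y hy => by rw [hw]; exact hup.ok.braid_Y i j hij y hy) _ hn
    exact ((D.R (BnDat.bk M i j)).Lt L).mul_mem h1 (((D.R (BnDat.bk M i j)).Lt L).inv_mem hnk)
  · rw [map_mul, map_mul, map_mul, map_inv, map_inv, hw, f4m_map_nt L (hup.ok.ok i) hX,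
      f4m_map_nt L (hup.ok.ok (BnDat.bk M i j)) hXk]
    exact hup.ok.braid_n i j hij

end Cfsg.Agent.E6M
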