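import Mathlib
import Cfsg.Agent.E6M.BnTorH

set_option autoImplicit false
set_option linter.unusedSectionVars false

/-! S2108 package B2 (file `Cfsg/Agent/E6M/BnTorN.lean`): `Ñ / H̃` is a quotient of the Coxeter group and maps isomorphically to `N / H`;
general-rank replacement of `F4M/OctTorN.lean`.  Blueprint `notes/S2108_blueprint_lead.md` §B2.  Prefix for extra helpers: `e6m_torn_`. -/

namespace Cfsg.Agent.E6M

open Cfsg.Agent.CtRecT Cfsg.Agent.F4M

section dihedral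

variable {Q : Type*} [Group Q] {a b : Q}

/-- `b (a b)^k = (b a)^k b` for an involution `b`. -/
theorem e6m_torn_shift (hb : b * b = 1) (k : ℕ) : b * (a * b) ^ k = (b * a) ^ k * b := by
  have binv : b⁻¹ = b := inv_eq_of_mul_eq_one_left hb
  have e : b * a = b * (a * b) * b⁻¹ := by
    rw [binv, mul_assoc, mul_assoc, hb, mul_one]
  rw [e, conj_pow, binv, mul_assoc (b * (a * b) ^ k), hb, mul_one]

/-- `(b a)^k = ((a b)^k)⁻¹` for involutions. -/
theorem e6m_torn_inv_pow (ha : a * a = 1) (hb : b * b = 1) (k : ℕ) : (b * a) ^ k = ((a * b) ^ k)⁻¹ := by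
  have ainv : a⁻¹ = a := inv_eq_of_mul_eq_one_left ha
  have binv : b⁻¹ = b := inv_eq_of_mul_eq_one_left hb
  rw [← inv_pow, mul_inv_rev, ainv, binv]

/-- involutions `a`, `b` with `w a w⁻¹ = a` for `w = b (a b)^(m/2 - 1)` (`m` even) resp. `w a w⁻¹ = b` for `w = (a b)^(m/2)` (`m` odd)
satisfy `(a b)^m = 1`. -/
theorem e6m_torn_pow_of_braid {Q : Type*} [Group Q] {a b : Q} (ha : a * a = 1) (hb : b * b = 1) (m : ℕ)
    (heven : Even m → (b * (a * b) ^ (m / 2 - 1)) * a * (b * (a * b) ^ (m / 2 - 1))⁻¹ = a)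
    (hodd : ¬ Even m → (a * b) ^ (m / 2) * a * ((a * b) ^ (m / 2))⁻¹ = b) : (a * b) ^ m = 1 := by
  by_cases hm : Even m
  · obtain ⟨e, rfl⟩ := hm
    rcases Nat.eq_zero_or_pos e with h0 | h0
    · subst h0
      simp
    · obtain ⟨k, rfl⟩ : ∃ k, e = k + 1 := ⟨e - 1, by omega⟩
      have h1 := heven ⟨k + 1, rfl⟩
      have e1 : (k + 1 + (k + 1)) / 2 - 1 = k := by omega
      rw [e1] at h1
      -- `w a = a w`
      have h2 : b * (a * b) ^ k * a = a * (b * (a * b) ^ k) := mul_inv_eq_iff_eq_mul.mp h1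
      -- `(b a)^(k+1) = (a b)^(k+1)`
      have h3 : (b * a) ^ (k + 1) = (a * b) ^ (k + 1) := by
        calc (b * a) ^ (k + 1) = (b * a) ^ k * b * a := by rw [pow_succ, mul_assoc]
          _ = b * (a * b) ^ k * a := by rw [← e6m_torn_shift hb k]
          _ = a * (b * (a * b) ^ k) := h2
          _ = (a * b) ^ (k + 1) := by rw [← mul_assoc, pow_succ']
      rw [e6m_torn_inv_pow ha hb] at h3
      rw [pow_add]
      nth_rewrite 1 [← h3]
      exact inv_mul_cancel _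
  · have hm' : Odd m := Nat.not_even_iff_odd.mp hm
    obtain ⟨e, rfl⟩ := hm'
    have h1 := hodd hm
    have e1 : (2 * e + 1) / 2 = e := by omega
    rw [e1] at h1
    have h2 : (a * b) ^ e * a = b * (a * b) ^ e := mul_inv_eq_iff_eq_mul.mp h1
    have h3 : (a * b) ^ (e + 1) = ((a * b) ^ e)⁻¹ := by
      calc (a * b) ^ (e + 1) = (a * b) ^ e * a * b := by rw [pow_succ, mul_assoc]
        _ = b * (a * b) ^ e * b := by rw [h2]
        _ = (b * a) ^ e * b * b := by rw [e6m_torn_shift hb e]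
        _ = (b * a) ^ e := by rw [mul_assoc, hb, mul_one]
        _ = ((a * b) ^ e)⁻¹ := e6m_torn_inv_pow ha hb e
    have e2 : 2 * e + 1 = (e + 1) + e := by ring
    rw [e2, pow_add, h3]
    exact inv_mul_cancel _

end dihedral

variable {ι : Type*} [LinearOrder ι] {G E : Type*} [Group G] [Group E] {σ : E →* G} {p : ℕ}
  (D : BnDat ι G) (M : CoxeterMatrix ι) (L : PLift σ p)

theorem e6m_Ht_le_Nt : D.Ht L ≤ D.Nt L := fun _ hg => Subgroup.subset_closure (Or.inl hg)

theorem e6m_nt_mem_Nt (i : ι) : (D.R i).nt L ∈ D.Nt L := Subgroup.subset_closure (Or.inr ⟨i, rfl⟩)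

/-- `Ñ` normalizes `H̃`. -/
theorem e6m_Nt_conj_Ht (hup : D.Up M L) : ∀ m ∈ D.Nt L, ∀ h ∈ D.Ht L,
    m * h * m⁻¹ ∈ D.Ht L ∧ m⁻¹ * h * m ∈ D.Ht L := by
  intro m hm
  have hm' : m ∈ Subgroup.closure ((D.Ht L : Set E) ∪ Set.range fun i => (D.R i).nt L) := hm
  induction hm' using Subgroup.closure_induction with
  | mem x hx =>
    intro h hh
    rcases hx with hx | ⟨i, rfl⟩
    · exact ⟨(D.Ht L).mul_mem ((D.Ht L).mul_mem hx hh) ((D.Ht L).inv_mem hx),
        (D.Ht L).mul_mem ((D.Ht L).mul_mem ((D.Ht L).inv_mem hx) hh) hx⟩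
    · exact e6m_nt_conj_Ht D M L hup i h hh
  | one => intro h hh; simpa using hh
  | mul x y hx hy ihx ihy =>
    intro h hh
    have hx' : x ∈ D.Nt L := hx
    have hy' : y ∈ D.Nt L := hy
    have e : x * y * h * (x * y)⁻¹ = x * (y * h * y⁻¹) * x⁻¹ := by group
    have e' : (x * y)⁻¹ * h * (x * y) = y⁻¹ * (x⁻¹ * h * x) * y := by group
    rw [e, e']
    exact ⟨(ihx hx' _ (ihy hy' h hh).1).1, (ihy hy' _ (ihx hx' h hh).2).2⟩
  | inv x hx ihx =>
    intro h hh
    have hx' : x ∈ D.Nt L := hx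
    rw [inv_inv]
    exact ⟨(ihx hx' h hh).2, (ihx hx' h hh).1⟩

theorem e6m_torn_normal (hup : D.Up M L) : ((D.Ht L).subgroupOf (D.Nt L)).Normal := ⟨fun n hn g => by
  rw [Subgroup.mem_subgroupOf] at hn ⊢
  have := (e6m_Nt_conj_Ht D M L hup g.1 g.2 n.1 hn).1
  simpa using this⟩

theorem e6m_map_Nt (hup : D.Up M L) {m : E} (hm : m ∈ D.Nt L) : σ m ∈ D.N := by
  have hcl : Subgroup.closure ((D.Ht L : Set E) ∪ Set.range fun i => (D.R i).nt L) ≤ D.N.comap σ := by
    rw [Subgroup.closure_le]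
    rintro x (hx | ⟨i, rfl⟩)
    · exact Subgroup.subset_closure (Or.inl (e6m_map_Ht D M L hup hx))
    · show σ _ ∈ D.N
      rw [f4m_map_nt L (hup.ok.ok i) (e6m_X_isPGroup D M L hup i)]
      exact Subgroup.subset_closure (Or.inr ⟨i, rfl⟩)
  exact hcl hm

/-- an element of `Ñ` above `H` lies in `H̃`. -/
theorem e6m_Nt_map_mem_H (hup : D.Up M L) {m : E} (hm : m ∈ D.Nt L) (h : σ m ∈ D.H) : m ∈ D.Ht L := by
  have hnorm : ((D.Ht L).subgroupOf (D.Nt L)).Normal := e6m_torn_normal D M L hup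
  let π : ↥(D.Nt L) →* ↥(D.Nt L) ⧸ (D.Ht L).subgroupOf (D.Nt L) := QuotientGroup.mk' _
  have hπ1 : ∀ x : ↥(D.Nt L), π x = 1 ↔ (x : E) ∈ D.Ht L := by
    intro x
    show (QuotientGroup.mk x : ↥(D.Nt L) ⧸ (D.Ht L).subgroupOf (D.Nt L)) = 1 ↔ _
    rw [QuotientGroup.eq_one_iff, Subgroup.mem_subgroupOf]
  let nn : ι → ↥(D.Nt L) := fun i => ⟨(D.R i).nt L, e6m_nt_mem_Nt D L i⟩
  let q : ι → ↥(D.Nt L) ⧸ (D.Ht L).subgroupOf (D.Nt L) := fun i => π (nn i)
  have hsq : ∀ i, q i * q i = 1 := by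
    intro i
    show π (nn i) * π (nn i) = 1
    rw [← map_mul, hπ1]
    exact e6m_nt_sq D M L hup i
  -- the braid relations for `i < j`
  have hlt : ∀ i j, i < j → (q i * q j) ^ M i j = 1 := by
    intro i j hij
    have hbr := e6m_braid_up D M L hup i j hij
    apply e6m_torn_pow_of_braid (hsq i) (hsq j)
    · intro hev
      have hw : D.wdt M L i j = ((nn j * (nn i * nn j) ^ (M i j / 2 - 1) : ↥(D.Nt L)) : E) := by
        unfold BnDat.wdt
        rw [if_pos hev]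
        rfl
      have hk : BnDat.bk M i j = i := by unfold BnDat.bk; rw [if_pos hev]
      rw [hk, hw] at hbr
      have h1 : π ((nn j * (nn i * nn j) ^ (M i j / 2 - 1)) * nn i * (nn j * (nn i * nn j) ^ (M i j / 2 - 1))⁻¹ *
          (nn i)⁻¹) = 1 := by
        rw [hπ1]
        exact hbr
      simp only [map_mul, map_pow] at h1
      exact mul_inv_eq_one.mp h1
    · intro hod
      have hw : D.wdt M L i j = (((nn i * nn j) ^ (M i j / 2) : ↥(D.Nt L)) : E) := by
        unfold BnDat.wdt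
        rw [if_neg hod]
        rfl
      have hk : BnDat.bk M i j = j := by unfold BnDat.bk; rw [if_neg hod]
      rw [hk, hw] at hbr
      have h1 : π ((nn i * nn j) ^ (M i j / 2) * nn i * ((nn i * nn j) ^ (M i j / 2))⁻¹ * (nn j)⁻¹) = 1 := by
        rw [hπ1]
        exact hbr
      simp only [map_mul, map_pow] at h1
      exact mul_inv_eq_one.mp h1
  have hlift : M.IsLiftable q := by
    intro i j
    rcases lt_trichotomy i j with hij | hij | hij
    · exact hlt i j hij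
    · subst hij
      rw [M.diagonal, pow_one]
      exact hsq i
    · have h1 := hlt j i hij
      rw [M.symmetric i j]
      have e : q i * q j = q i * (q j * q i) * (q i)⁻¹ := by group
      rw [e, conj_pow, h1, mul_one, mul_inv_cancel]
  let ψ := M.toCoxeterSystem.lift ⟨q, hlift⟩
  have hψ : ∀ i, ψ (M.simple i) = q i := fun i => M.toCoxeterSystem.lift_apply_simple hlift i
  -- `θ : Ñ / H̃ → W`
  obtain ⟨φ, hφs, hφk⟩ := hup.ok.cox
  let σN : ↥(D.Nt L) →* ↥D.N := (σ.comp (D.Nt L).subtype).codRestrict D.N (fun x => e6m_map_Nt D M L hup x.2)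
  have hker : (D.Ht L).subgroupOf (D.Nt L) ≤ (φ.comp σN).ker := by
    intro x hx
    rw [MonoidHom.mem_ker, MonoidHom.comp_apply, hφk]
    exact e6m_map_Ht D M L hup (Subgroup.mem_subgroupOf.mp hx)
  let θ := QuotientGroup.lift ((D.Ht L).subgroupOf (D.Nt L)) (φ.comp σN) hker
  have hθπ : ∀ x : ↥(D.Nt L), θ (π x) = φ (σN x) := fun x => rfl
  have hθq : ∀ i, θ (q i) = M.simple i := by
    intro i
    show θ (π (nn i)) = _
    rw [hθπ]
    have e : σN (nn i) = ⟨(D.R i).n, Subgroup.subset_closure (Or.inr ⟨i, rfl⟩)⟩ := by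
      apply Subtype.ext
      show σ ((D.R i).nt L) = (D.R i).n
      exact f4m_map_nt L (hup.ok.ok i) (e6m_X_isPGroup D M L hup i)
    rw [e]
    exact hφs i _
  -- `θ ∘ ψ = id`
  have hid : θ.comp ψ = MonoidHom.id M.Group := by
    apply M.toCoxeterSystem.ext_simple
    intro i
    rw [MonoidHom.comp_apply, M.toCoxeterSystem_simple, hψ, hθq]
    rfl
  -- `ψ` is onto
  have hcl : Subgroup.closure ((D.Ht L : Set E) ∪ Set.range fun i => (D.R i).nt L) ≤
      ((ψ.range).comap π).map (D.Nt L).subtype := by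
    rw [Subgroup.closure_le]
    rintro x (hx | ⟨i, rfl⟩)
    · refine ⟨⟨x, e6m_Ht_le_Nt D L hx⟩, ?_, rfl⟩
      rw [SetLike.mem_coe, Subgroup.mem_comap, (hπ1 ⟨x, e6m_Ht_le_Nt D L hx⟩).mpr hx]
      exact Subgroup.one_mem _
    · refine ⟨nn i, ?_, rfl⟩
      rw [SetLike.mem_coe, Subgroup.mem_comap]
      exact ⟨M.simple i, hψ i⟩
  obtain ⟨m', hm', em⟩ := hcl hm
  obtain ⟨w, hw⟩ := hm'
  have em' : m' = ⟨m, hm⟩ := Subtype.ext em
  -- `θ (π m) = 1`
  have h1 : θ (π m') = 1 := by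
    rw [hθπ, hφk]
    show σ (m' : E) ∈ D.H
    rw [em']
    exact h
  have h2 : w = 1 := by
    have := congrArg (fun f : M.Group →* M.Group => f w) hid
    simp only [MonoidHom.comp_apply, MonoidHom.id_apply] at this
    rw [← this, hw]
    exact h1
  rw [h2, map_one] at hw
  have h3 := (hπ1 m').mp hw.symm
  rw [em'] at h3
  exact h3

end Cfsg.Agent.E6M
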