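import Mathlib
import Cfsg.Agent.F4M.OctRank
import Cfsg.Agent.F4M.OctCells
import Cfsg.Agent.E6M.BnTorN

set_option autoImplicit false

/-! S2108 package B3 (file `Cfsg/Agent/E6M/BnCells.lean`): the closure argument upstairs in arbitrary rank, `⟨L̃_i⟩ ⊆ B̃ Ñ B̃`;
general-rank port of `F4M/OctCells.lean` (use `f4m_bn_step` of `F4M/OctRank.lean`, `f4m_octcells_bruhat` of `F4M/OctCells.lean` (generic in `R`),
`closure_subset_of_mul_left` and `bsub` of `CtRecT/TClos.lean`).  Blueprint `notes/S2108_blueprint_lead.md` §B3.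
Prefix for extra helpers: `e6m_cells_`. -/

namespace Cfsg.Agent.E6M

open Cfsg.Agent.CtRecT Cfsg.Agent.F4M

variable {ι : Type*} [LinearOrder ι] {G E : Type*} [Group G] [Group E] {σ : E →* G} {p : ℕ}
  (D : BnDat ι G) (M : CoxeterMatrix ι) (L : PLift σ p)

theorem e6m_mem_Ut (hup : D.Up M L) {e : E} : e ∈ D.Ut L ↔ ∃ u ∈ D.U, e = L.pl u :=
  f4m_mem_closure_pl L hup.hU

/-- `Btset` is the subgroup `bsub Ũ H̃`. -/
theorem e6m_Btset_eq (hup : D.Up M L) :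
    D.Btset L = (bsub (D.Ut L) (D.Ht L) (e6m_Ht_conj_Ut D M L hup) : Set E) := by
  ext e
  exact Iff.rfl

/-- elements of `U` are `p`-elements. -/
theorem e6m_cells_pel_U (hup : D.Up M L) {u : G} (hu : u ∈ D.U) : ∃ n : ℕ, u ^ p ^ n = 1 :=
  PLift.pl_mem_of_isPGroup hup.hU hu

theorem e6m_Xt_le_Ut (hup : D.Up M L) (i : ι) : (D.R i).Xt L ≤ D.Ut L :=
  Subgroup.closure_mono (Set.image_mono (fun _ hx => hup.ok.X_le i hx))

theorem e6m_up_dec (hup : D.Up M L) (i : ι) : ∀ u ∈ D.Ut L, ∃ v, (D.R i).nt L * v * ((D.R i).nt L)⁻¹ ∈ D.Ut L ∧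
    ∃ x ∈ (D.R i).Xt L, u = v * x := by
  intro u hu
  obtain ⟨u₀, hu₀, rfl⟩ := (e6m_mem_Ut D M L hup).mp hu
  obtain ⟨v₀, hv₀, x₀, hx₀, rfl⟩ := hup.ok.dec i u₀ hu₀
  have hvU := hup.ok.Uc_le i hv₀
  have hXp : IsPGroup p (D.R i).X := e6m_X_isPGroup D M L hup i
  refine ⟨L.pl v₀, ?_, L.pl x₀, Subgroup.subset_closure ⟨x₀, hx₀, rfl⟩, ?_⟩
  · rw [L.conj_pl _ (e6m_cells_pel_U D M L hup hvU), f4m_map_nt L (hup.ok.ok i) hXp]
    exact (e6m_mem_Ut D M L hup).mpr ⟨_, hup.ok.n_Uc i v₀ hv₀, rfl⟩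
  · exact L.pl_mul D.U hup.hU v₀ hvU x₀ (hup.ok.X_le i hx₀)

theorem e6m_up_dich (hup : D.Up M L) (i : ι) {m : E} (hm : m ∈ D.Nt L) :
    (∀ x ∈ (D.R i).Xt L, m⁻¹ * x * m ∈ D.Ut L) ∨
      (∀ x ∈ (D.R i).Xt L, (((D.R i).nt L)⁻¹ * m)⁻¹ * x * (((D.R i).nt L)⁻¹ * m) ∈ D.Ut L) := by
  have hXp : IsPGroup p (D.R i).X := e6m_X_isPGroup D M L hup i
  rcases hup.ok.dich i (σ m) (e6m_map_Nt D M L hup hm) with h | h
  · left
    intro x hx
    obtain ⟨x₀, hx₀, rfl⟩ := (f4m_mem_closure_pl L hXp).mp hx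
    rw [L.conj_pl' m (PLift.pl_mem_of_isPGroup hXp hx₀)]
    exact (e6m_mem_Ut D M L hup).mpr ⟨_, h x₀ hx₀, rfl⟩
  · right
    intro x hx
    obtain ⟨x₀, hx₀, rfl⟩ := (f4m_mem_closure_pl L hXp).mp hx
    rw [L.conj_pl' _ (PLift.pl_mem_of_isPGroup hXp hx₀)]
    have e : σ (((D.R i).nt L)⁻¹ * m) = (D.R i).n⁻¹ * σ m := by
      rw [map_mul, map_inv, f4m_map_nt L (hup.ok.ok i) hXp]
    rw [e]
    exact (e6m_mem_Ut D M L hup).mpr ⟨_, h x₀ hx₀, rfl⟩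

theorem e6m_up_bruhat (hup : D.Up M L) (i : ι) : ∀ x ∈ (D.R i).Xt L, x ≠ 1 →
    ∃ x' ∈ (D.R i).Xt L, ∃ t ∈ D.Ht L, ∃ x'' ∈ (D.R i).Xt L,
      (D.R i).nt L * x * ((D.R i).nt L)⁻¹ = x' * t * (D.R i).nt L * x'' := by
  intro x hx hx1
  obtain ⟨x', hx', t, ht, x'', hx'', e⟩ :=
    f4m_octcells_bruhat L (hup.ok.ok i) (e6m_X_isPGroup D M L hup i) x hx hx1
  exact ⟨x', hx', t, e6m_Tt_le_Ht D L i ht, x'', hx'', e⟩

theorem e6m_one_mem_cells : (1 : E) ∈ D.cells L :=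
  ⟨1, ⟨1, Subgroup.one_mem _, 1, Subgroup.one_mem _, by group⟩, 1, Subgroup.one_mem _,
    1, ⟨1, Subgroup.one_mem _, 1, Subgroup.one_mem _, by group⟩, by group⟩

theorem e6m_cells_mul_left_Bt (hup : D.Up M L) {b e : E} (hb : b ∈ D.Btset L) (he : e ∈ D.cells L) :
    b * e ∈ D.cells L := by
  obtain ⟨b₁, hb₁, m, hm, b₂, hb₂, rfl⟩ := he
  refine ⟨b * b₁, ?_, m, hm, b₂, hb₂, by group⟩
  rw [e6m_Btset_eq D M L hup] at hb hb₁ ⊢
  exact Subgroup.mul_mem _ hb hb₁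

theorem e6m_cells_mul_left_nt (hup : D.Up M L) (i : ι) {e : E} (he : e ∈ D.cells L) :
    (D.R i).nt L * e ∈ D.cells L := by
  obtain ⟨b₁, hb₁, m, hm, b₂, hb₂, rfl⟩ := he
  rw [e6m_Btset_eq D M L hup] at hb₁ hb₂
  have hsq := e6m_nt_sq D M L hup i
  have hconj := e6m_nt_conj_Ht D M L hup i
  have hinv : ∃ β ∈ D.Ht L, ((D.R i).nt L)⁻¹ = (D.R i).nt L * β :=
    ⟨((D.R i).nt L * (D.R i).nt L)⁻¹, (D.Ht L).inv_mem hsq, by group⟩
  have hstep := f4m_bn_step (D.Ut L) (D.Ht L) (e6m_Ht_conj_Ut D M L hup) ((D.R i).Xt L) ((D.R i).nt L)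
    (e6m_Xt_le_Ut D M L hup i) hsq
    (fun h hh => (hconj h hh).2) (fun h hh => (hconj h hh).1) hinv (e6m_up_bruhat D M L hup i)
    (e6m_up_dec D M L hup i)
    (fun h hh => (e6m_Nt_conj_Ht D M L hup m hm h hh).2) (e6m_up_dich D M L hup i hm) hb₁
  rcases hstep with ⟨c₁, hc₁, c₂, hc₂, e⟩ | ⟨c₁, hc₁, c₂, hc₂, e⟩
  · refine ⟨c₁, ?_, (D.R i).nt L * m, (D.Nt L).mul_mem (e6m_nt_mem_Nt D L i) hm, c₂ * b₂, ?_, ?_⟩
    · rw [e6m_Btset_eq D M L hup]; exact hc₁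
    · rw [e6m_Btset_eq D M L hup]; exact Subgroup.mul_mem _ hc₂ hb₂
    · have e' : (D.R i).nt L * (b₁ * m * b₂) = ((D.R i).nt L * b₁ * m) * b₂ := by group
      rw [e', e]
      group
  · refine ⟨c₁, ?_, m, hm, c₂ * b₂, ?_, ?_⟩
    · rw [e6m_Btset_eq D M L hup]; exact hc₁
    · rw [e6m_Btset_eq D M L hup]; exact Subgroup.mul_mem _ hc₂ hb₂
    · have e' : (D.R i).nt L * (b₁ * m * b₂) = ((D.R i).nt L * b₁ * m) * b₂ := by group
      rw [e', e]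
      group

/-- the group generated by the lifted rank-one groups lies in `B̃ Ñ B̃`. -/
theorem e6m_gen_subset_cells [Finite E] (hup : D.Up M L) : ∀ e ∈ D.gent L, e ∈ D.cells L := by
  have hcl := closure_subset_of_mul_left
    ((D.Btset L : Set E) ∪ Set.range fun i => (D.R i).nt L) (D.cells L) (e6m_one_mem_cells D L)
    (by
      rintro s (hs | ⟨i, rfl⟩) g hg
      · exact e6m_cells_mul_left_Bt D M L hup hs hg
      · exact e6m_cells_mul_left_nt D M L hup i hg)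
  intro e he
  apply hcl
  revert e
  show D.gent L ≤ _
  have hBt : ∀ x ∈ D.Ut L,
      x ∈ Subgroup.closure ((D.Btset L : Set E) ∪ Set.range fun i => (D.R i).nt L) :=
    fun x hx => Subgroup.subset_closure (Or.inl ⟨x, hx, 1, Subgroup.one_mem _, by group⟩)
  have hn : ∀ i, (D.R i).nt L ∈
      Subgroup.closure ((D.Btset L : Set E) ∪ Set.range fun i => (D.R i).nt L) :=
    fun i => Subgroup.subset_closure (Or.inr ⟨i, rfl⟩)
  unfold BnDat.gent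
  refine iSup_le fun i => ?_
  have hX : (D.R i).Xt L ≤
      Subgroup.closure ((D.Btset L : Set E) ∪ Set.range fun i => (D.R i).nt L) :=
    fun x hx => hBt x (e6m_Xt_le_Ut D M L hup i hx)
  have hY : (D.R i).Yt L ≤
      Subgroup.closure ((D.Btset L : Set E) ∪ Set.range fun i => (D.R i).nt L) := by
    intro y hy
    have h1 := hX ((f4m_nt_conj_Xt L (hup.ok.ok i) (e6m_X_isPGroup D M L hup i)).2 y hy)
    have e : y = ((D.R i).nt L)⁻¹ * ((D.R i).nt L * y * ((D.R i).nt L)⁻¹) * (D.R i).nt L := by group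
    rw [e]
    exact Subgroup.mul_mem _ (Subgroup.mul_mem _ (Subgroup.inv_mem _ (hn i)) h1) (hn i)
  exact sup_le hX hY

end Cfsg.Agent.E6M
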