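import Mathlib
import Cfsg.Agent.E6M.BnCells
import Cfsg.Agent.F4M.OctEnd

set_option autoImplicit false

/-! S2108 package B4 (file `Cfsg/Agent/E6M/BnEnd.lean`): the kernel lies in `H̃`, and its order is bounded by the defect of the torus;
general-rank version of `F4M/OctEnd.lean` (where `T_a ⊓ T_b = ⊥` made the kernel trivial).  Blueprint `notes/S2108_blueprint_lead.md` §B4.
Prefix for extra helpers: `e6m_end_`. -/

namespace Cfsg.Agent.E6M

open Cfsg.Agent.CtRecT Cfsg.Agent.F4M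

variable {ι : Type*} [LinearOrder ι] {G E : Type*} [Group G] [Group E] {σ : E →* G} {p : ℕ}
  (D : BnDat ι G) (M : CoxeterMatrix ι) (L : PLift σ p)

omit [LinearOrder ι] in
/-- elements of `U` are `p`-elements. -/
theorem e6m_end_pel_of_mem_U {D : BnDat ι G} (hU : IsPGroup p D.U) {u : G} (hu : u ∈ D.U) :
    ∃ n : ℕ, u ^ p ^ n = 1 := by
  obtain ⟨k, hk⟩ := hU ⟨u, hu⟩
  exact ⟨k, by simpa using congrArg Subtype.val hk⟩

theorem e6m_map_Bt (hup : D.Up M L) {b : E} (hb : b ∈ D.Btset L) : ∃ u ∈ D.U, ∃ h ∈ D.H, σ b = u * h := by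
  obtain ⟨ut, hut, ht, hht, rfl⟩ := hb
  obtain ⟨u, hu, rfl⟩ := (e6m_mem_Ut D M L hup).mp hut
  refine ⟨u, hu, σ ht, e6m_map_Ht D M L hup hht, ?_⟩
  rw [map_mul, L.map_pl u (e6m_end_pel_of_mem_U hup.hU hu)]

/-- the image of `B̃` lies in the Borel subgroup `U H` downstairs. -/
theorem e6m_end_map_Bt_mem (hup : D.Up M L) {b : E} (hb : b ∈ D.Btset L) :
    σ b ∈ bsub D.U D.H hup.ok.H_U := by
  obtain ⟨u, hu, h, hh, e⟩ := e6m_map_Bt D M L hup hb
  exact ⟨u, hu, h, hh, e⟩

/-- an element of `ker σ` in `B̃` lies in `H̃`. -/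
theorem e6m_ker_inf_Bt (hup : D.Up M L) {z : E} (hz : σ z = 1) (hb : z ∈ D.Btset L) : z ∈ D.Ht L := by
  obtain ⟨ut, hut, ht, hht, rfl⟩ := hb
  obtain ⟨u, hu, rfl⟩ := (e6m_mem_Ut D M L hup).mp hut
  rw [map_mul, L.map_pl u (e6m_end_pel_of_mem_U hup.hU hu)] at hz
  have hσh := e6m_map_Ht D M L hup hht
  have hu1 : u = 1 := by
    apply hup.ok.U_inf_H u hu
    have : u = (σ ht)⁻¹ := eq_inv_of_mul_eq_one_left hz
    rw [this]
    exact D.H.inv_mem hσh
  subst hu1
  rw [L.pl_one, one_mul]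
  exact hht

/-- an element of `ker σ` of the form `b₁ m b₂` lies in `H̃`. -/
theorem e6m_ker_inf_cells (hup : D.Up M L) {z : E} (hz : σ z = 1) (hc : z ∈ D.cells L) : z ∈ D.Ht L := by
  obtain ⟨b₁, hb₁, m, hm, b₂, hb₂, rfl⟩ := hc
  have h1 := e6m_end_map_Bt_mem D M L hup hb₁
  have h2 := e6m_end_map_Bt_mem D M L hup hb₂
  have hn : σ m ∈ D.N := e6m_map_Nt D M L hup hm
  rw [map_mul, map_mul] at hz
  have e : σ m = (σ b₁)⁻¹ * (σ b₂)⁻¹ := by
    calc σ m = (σ b₁)⁻¹ * (σ b₁ * σ m * σ b₂) * (σ b₂)⁻¹ := by group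
      _ = (σ b₁)⁻¹ * (σ b₂)⁻¹ := by rw [hz, mul_one]
  have hmB : σ m ∈ bsub D.U D.H hup.ok.H_U := by
    rw [e]
    exact Subgroup.mul_mem _ (Subgroup.inv_mem _ h1) (Subgroup.inv_mem _ h2)
  obtain ⟨u, hu, h, hh, e'⟩ := hmB
  have hu1 : u = 1 := hup.ok.B_inf_N u hu h hh (e' ▸ hn)
  rw [hu1, one_mul] at e'
  have hmH : m ∈ D.Ht L := e6m_Nt_map_mem_H D M L hup hm (e' ▸ hh)
  apply e6m_ker_inf_Bt D M L hup
  · rw [map_mul, map_mul]; exact hz
  · rw [e6m_Btset_eq D M L hup] at hb₁ hb₂ ⊢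
    exact Subgroup.mul_mem _ (Subgroup.mul_mem _ hb₁ (Hs_le_bsub _ _ _ hmH)) hb₂

/-- every element of `E` is (element of the group generated by the lifted rank-one groups) · (element of the kernel). -/
theorem e6m_exists_gen_mul_ker (hup : D.Up M L) (hs : Function.Surjective σ) (e : E) :
    ∃ g ∈ D.gent L, ∃ z ∈ σ.ker, e = g * z := by
  have htop : σ e ∈ D.gen := by rw [hup.ok.top]; trivial
  have hle : D.gen ≤ (D.gent L).map σ := by
    unfold BnDat.gen
    refine iSup_le fun i => ?_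
    rw [← e6m_map_Lt_eq D M L hup i]
    exact Subgroup.map_mono (le_iSup (fun i => (D.R i).Lt L) i)
  obtain ⟨g, hg, e'⟩ := hle htop
  refine ⟨g, hg, g⁻¹ * e, ?_, by group⟩
  rw [MonoidHom.mem_ker, map_mul, map_inv, e', inv_mul_cancel]

/-- the kernel of a finite stem extension with unique `p`-lifts lies in the lifted torus. -/
theorem e6m_ker_le_Ht [Finite E] (hup : D.Up M L) (hs : Function.Surjective σ) (hc : σ.ker ≤ Subgroup.center E)
    (hk : σ.ker ≤ commutator E) : σ.ker ≤ D.Ht L := by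
  -- the commutator subgroup lies in the group generated by the lifted root elements
  have hcomm : commutator E ≤ D.gent L := by
    rw [commutator_def, Subgroup.commutator_le]
    intro a _ b _
    obtain ⟨g, hg, z, hz, ea⟩ := e6m_exists_gen_mul_ker D M L hup hs a
    obtain ⟨g', hg', z', hz', eb⟩ := e6m_exists_gen_mul_ker D M L hup hs b
    have ca : ∀ x : E, z * x = x * z := fun x => (Subgroup.mem_center_iff.mp (hc hz) x).symm
    have cb : ∀ x : E, z' * x = x * z' := fun x => (Subgroup.mem_center_iff.mp (hc hz') x).symm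
    show a * b * a⁻¹ * b⁻¹ ∈ _
    rw [f4m_end_comm_central ea eb ca cb]
    exact Subgroup.mul_mem _ (Subgroup.mul_mem _ (Subgroup.mul_mem _ hg hg') (Subgroup.inv_mem _ hg))
      (Subgroup.inv_mem _ hg')
  intro z hz
  exact e6m_ker_inf_cells D M L hup (MonoidHom.mem_ker.mp hz)
    (e6m_gen_subset_cells D M L hup z (hcomm (hk hz)))

/-- `H̃` is a homomorphic image of the direct product of the `T̃_i ≅ T_i`. -/
theorem e6m_card_Ht_dvd [Finite E] [Fintype ι] (hup : D.Up M L) :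
    Nat.card (D.Ht L) ∣ ∏ i, Nat.card (D.R i).T := by
  have hcomm : Pairwise fun i j : ι => ∀ x y : E, x ∈ (D.R i).Tt L → y ∈ (D.R j).Tt L → Commute x y :=
    fun i j _ x y hx hy => e6m_Tt_comm D M L hup i j x hx y hy
  have hr : (Subgroup.noncommPiCoprod hcomm).range = D.Ht L := Subgroup.noncommPiCoprod_range
  have h1 := Subgroup.card_range_dvd (Subgroup.noncommPiCoprod hcomm)
  rw [hr, Nat.card_pi] at h1
  have h2 : ∏ i, Nat.card ((D.R i).Tt L) = ∏ i, Nat.card (D.R i).T :=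
    Finset.prod_congr rfl fun i _ => e6m_card_Tt D M L hup i
  rw [← h2]
  exact h1

/-- the order of `H̃` is `|ker σ| · |H|`. -/
theorem e6m_end_card_Ht [Finite E] (hup : D.Up M L) (hs : Function.Surjective σ)
    (hc : σ.ker ≤ Subgroup.center E) (hk : σ.ker ≤ commutator E) :
    Nat.card σ.ker * Nat.card D.H = Nat.card (D.Ht L) := by
  have hle := e6m_ker_le_Ht D M L hup hs hc hk
  set f : ↥(D.Ht L) →* G := σ.comp (D.Ht L).subtype with hf
  have hrange : f.range = D.H := by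
    rw [hf, MonoidHom.range_comp, Subgroup.range_subtype]
    exact e6m_map_Ht_eq D M L hup
  have hker : f.ker = σ.ker.subgroupOf (D.Ht L) := by
    ext x
    simp [hf, MonoidHom.mem_ker, Subgroup.mem_subgroupOf]
  have h1 := Subgroup.card_mul_index f.ker
  rw [Subgroup.index_ker, hrange, hker,
    Nat.card_congr (Subgroup.subgroupOfEquivOfLe hle).toEquiv] at h1
  exact h1

/-- **Theorem II (general rank)**: the order of the kernel divides the defect `∏ |T_i| / |H|` of the torus. -/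
theorem e6m_card_ker_mul_dvd [Finite E] [Fintype ι] (hup : D.Up M L) (hs : Function.Surjective σ)
    (hc : σ.ker ≤ Subgroup.center E) (hk : σ.ker ≤ commutator E) :
    Nat.card σ.ker * Nat.card D.H ∣ ∏ i, Nat.card (D.R i).T := by
  rw [e6m_end_card_Ht D M L hup hs hc hk]
  exact e6m_card_Ht_dvd D M L hup

end Cfsg.Agent.E6M
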