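import Mathlib
import Cfsg.Agent.E6M.BnDefs
import Cfsg.Agent.Helper7.ChevTwE6
import Cfsg.Agent.Helper7.Transvections

set_option autoImplicit false

/-!
# S2108, concrete side, package P9: the braid facts of `²E₆(q)` downstairs

For the four classes of `chainE6` (`F₄` node order: `{p₂}`, `{p₄}`, `{p₃,p₅}`, `{p₁,p₆}`) and each of the six pairs `i < j` the braid element
`w_ij` (`n_j` for `m = 2`, `n_i n_j` for `m = 3`, `n_j n_i n_j` for `m = 4`) conjugates the whole rank-one homomorphism `clsHom c_i` onto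
`clsHom c_k` (`k = i` for even `m`, `k = j` for odd `m`): all the signs `η` are `+1`.  Prefix `e6m_concBr_`.
-/

namespace Cfsg.Agent.E6M

open Cfsg Cfsg.Lie Matrix Cfsg.Agent.Helper7.Chev

section generic

variable {D : ChevalleyDatum} {K : Type*} [Field K]

theorem e6m_concBr_transv01 (a : K) :
    (SpecialLinearGroup.transvection (show (0 : Fin 2) ≠ 1 by decide) a : SpecialLinearGroup (Fin 2) K) = upperSL a := by
  apply Subtype.ext
  rw [SpecialLinearGroup.transvection_coe]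
  ext i j
  fin_cases i <;> fin_cases j <;> simp [upperSL, Matrix.single]

theorem e6m_concBr_transv10 (a : K) :
    (SpecialLinearGroup.transvection (show (1 : Fin 2) ≠ 0 by decide) a : SpecialLinearGroup (Fin 2) K) = lowerSL a := by
  apply Subtype.ext
  rw [SpecialLinearGroup.transvection_coe]
  ext i j
  fin_cases i <;> fin_cases j <;> simp [lowerSL, Matrix.single]

/-- two homomorphisms from `SL₂(K)` which agree on the upper and lower unitriangular matrices are equal. -/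
theorem e6m_concBr_hom_ext {G : Type*} [Group G] (φ ψ : SpecialLinearGroup (Fin 2) K →* G)
    (hu : ∀ t, φ (upperSL t) = ψ (upperSL t)) (hl : ∀ t, φ (lowerSL t) = ψ (lowerSL t)) (g : SpecialLinearGroup (Fin 2) K) :
    φ g = ψ g := by
  refine Cfsg.Agent.Helper7.Transv.transvection_induction (fun M => φ M = ψ M) ?_ ?_ g
  · intro i j hij a
    fin_cases i <;> fin_cases j
    · exact absurd rfl hij
    · show φ (SpecialLinearGroup.transvection _ a) = ψ (SpecialLinearGroup.transvection _ a)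
      rw [e6m_concBr_transv01]
      exact hu a
    · show φ (SpecialLinearGroup.transvection _ a) = ψ (SpecialLinearGroup.transvection _ a)
      rw [e6m_concBr_transv10]
      exact hl a
    · exact absurd rfl hij
  · intro A B hA hB
    rw [map_mul, map_mul, hA, hB]

theorem e6m_concBr_xGL_congr (hG1 : Good1 D) {r r' : ℕ} (h : r = r') (hr : r < D.nroots) (hr' : r' < D.nroots) {a a' : K}
    (ha : a = a') : xGL hG1 hr a = xGL hG1 hr' a' := by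
  subst h; subst ha; rfl

/-- a word which maps `r ↦ r'`, `-r ↦ -r'` with signs `+1` conjugates `φ_r` onto `φ_{r'}`. -/
theorem e6m_concBr_phiHom (hG : Good2 D) {w : List ℕ} (hw : ∀ i ∈ w, i < D.rank) {r r' : ℕ} (hr : r < D.nroots)
    (hr' : r' < D.nroots) (h1 : (tabOf D).reflWord w r = r') (h2 : (tabOf D).etaWord w r = 1)
    (h3 : (tabOf D).reflWord w (D.neg r) = D.neg r') (h4 : (tabOf D).etaWord w (D.neg r) = 1)
    (g : SpecialLinearGroup (Fin 2) K) :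
    nWordGL hG w * phiHom hG.toGood1 hr g * (nWordGL hG w)⁻¹ = phiHom hG.toGood1 hr' g := by
  have hG1 := hG.toGood1
  refine e6m_concBr_hom_ext ((MulAut.conj (nWordGL hG w)).toMonoidHom.comp (phiHom hG.toGood1 hr)) (phiHom hG.toGood1 hr')
    ?_ ?_ g
  · intro t
    show nWordGL hG w * phiHom hG.toGood1 hr (upperSL t) * (nWordGL hG w)⁻¹ = phiHom hG.toGood1 hr' (upperSL t)
    rw [phiHom_upper', phiHom_upper', nWordGL_conj hG hw hr t]
    apply e6m_concBr_xGL_congr _ h1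
    rw [h2]; simp
  · intro t
    show nWordGL hG w * phiHom hG.toGood1 hr (lowerSL t) * (nWordGL hG w)⁻¹ = phiHom hG.toGood1 hr' (lowerSL t)
    rw [phiHom_lower', phiHom_lower', nWordGL_conj hG hw (hG1.neg_lt hr) t]
    apply e6m_concBr_xGL_congr _ h3
    rw [h4]; simp

end generic

section cls

variable {D : ChevalleyDatum} {K : Type*} [Field K] (hG : Good2 D) (h3 : (tabOf D).T3) (h4 : (tabOf D).T4 60)
  {ρ σ : ℕ → ℕ} {cls : List (ℕ × ℕ)} (h19 : T19 D ρ σ cls) (f : K ≃+* K)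

/-- a word which maps the roots of the class `c` to those of the class `c'` (in order, also the negatives) with all signs `+1` conjugates
the rank-one homomorphism of `c` onto that of `c'`. -/
theorem e6m_concBr_cls {w : List ℕ} (hw : ∀ i ∈ w, i < D.rank) {c c' : ℕ × ℕ} (hc : c ∈ cls) (hc' : c' ∈ cls) (hlen : c.2 = c'.2)
    (h : ∀ j < c.2, (tabOf D).reflWord w (D.simple (ρ^[j] c.1)) = D.simple (ρ^[j] c'.1) ∧
      (tabOf D).etaWord w (D.simple (ρ^[j] c.1)) = 1 ∧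
      (tabOf D).reflWord w (D.neg (D.simple (ρ^[j] c.1))) = D.neg (D.simple (ρ^[j] c'.1)) ∧
      (tabOf D).etaWord w (D.neg (D.simple (ρ^[j] c.1))) = 1)
    (g : SpecialLinearGroup (Fin 2) K) :
    nWordGL hG w * clsHom hG h3 h4 h19 f hc g * (nWordGL hG w)⁻¹ = clsHom hG h3 h4 h19 f hc' g := by
  have hG1 := hG.toGood1
  obtain ⟨_, _, hlt⟩ := h19.orbit c hc
  obtain ⟨_, _, hlt'⟩ := h19.orbit c' hc'
  rw [clsHom_apply, clsHom_apply]
  have e : ∀ l : List (GL D.Idx K), nWordGL hG w * l.prod * (nWordGL hG w)⁻¹ =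
      (l.map fun x => nWordGL hG w * x * (nWordGL hG w)⁻¹).prod := by
    intro l
    have := map_list_prod (MulAut.conj (nWordGL hG w)).toMonoidHom l
    exact this
  rw [e, List.map_map, ← hlen]
  congr 1
  apply List.map_congr_left
  intro j hj
  rw [List.mem_range] at hj
  obtain ⟨h1, h2, h3', h4'⟩ := h j hj
  show nWordGL hG w * clsFactor hG.toGood1 ρ f c.1 j g * (nWordGL hG w)⁻¹ = clsFactor hG.toGood1 ρ f c'.1 j g
  unfold clsFactor
  rw [MonoidHom.comp_apply, MonoidHom.comp_apply, phiS_of_lt hG1 (hlt j hj), phiS_of_lt hG1 (hlt' j (hlen ▸ hj))]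
  exact e6m_concBr_phiHom hG hw _ _ h1 h2 h3' h4' _

end cls

/-! ### the instance `²E₆` -/

section e6

variable {K : Type*} [Field K] (f : K ≃+* K)

theorem e6m_concBr_c0 : ((1 : ℕ), (1 : ℕ)) ∈ clsE6 := by decide

theorem e6m_concBr_c1 : ((3 : ℕ), (1 : ℕ)) ∈ clsE6 := by decide

theorem e6m_concBr_c2 : ((2 : ℕ), (2 : ℕ)) ∈ clsE6 := by decide

theorem e6m_concBr_c3 : ((0 : ℕ), (2 : ℕ)) ∈ clsE6 := by decide

/-- `m = 3`, long classes: `n₀ n₁` conjugates the rank-one group of `{p₂}` onto that of `{p₄}`. -/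
theorem e6m_concBr_01 (g : SpecialLinearGroup (Fin 2) K) :
    (clsHom good2_E6 T3_E6 T4_E6 T19_E6 f e6m_concBr_c0 antiSL * clsHom good2_E6 T3_E6 T4_E6 T19_E6 f e6m_concBr_c1 antiSL) *
      clsHom good2_E6 T3_E6 T4_E6 T19_E6 f e6m_concBr_c0 g *
      (clsHom good2_E6 T3_E6 T4_E6 T19_E6 f e6m_concBr_c0 antiSL * clsHom good2_E6 T3_E6 T4_E6 T19_E6 f e6m_concBr_c1 antiSL)⁻¹ =
    clsHom good2_E6 T3_E6 T4_E6 T19_E6 f e6m_concBr_c1 g := by
  rw [clsHom_anti, clsHom_anti, ← nWordGL_append]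
  have e : clsWord (fun i => [5, 1, 4, 3, 2, 0].getD i 0) ((1 : ℕ), (1 : ℕ)) ++
      clsWord (fun i => [5, 1, 4, 3, 2, 0].getD i 0) ((3 : ℕ), (1 : ℕ)) = [1, 3] := by decide
  rw [e]
  refine e6m_concBr_cls good2_E6 T3_E6 T4_E6 T19_E6 f (w := [1, 3]) (by decide) e6m_concBr_c0 e6m_concBr_c1 rfl ?_ g
  rw [tab_E6]
  decide +kernel

/-- `m = 2`: `n₂` centralizes the rank-one group of `{p₂}`. -/
theorem e6m_concBr_02 (g : SpecialLinearGroup (Fin 2) K) :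
    (clsHom good2_E6 T3_E6 T4_E6 T19_E6 f e6m_concBr_c2 antiSL) *
      clsHom good2_E6 T3_E6 T4_E6 T19_E6 f e6m_concBr_c0 g *
      (clsHom good2_E6 T3_E6 T4_E6 T19_E6 f e6m_concBr_c2 antiSL)⁻¹ =
    clsHom good2_E6 T3_E6 T4_E6 T19_E6 f e6m_concBr_c0 g := by
  rw [clsHom_anti]
  have e : clsWord (fun i => [5, 1, 4, 3, 2, 0].getD i 0) ((2 : ℕ), (2 : ℕ)) = [2, 4] := by decide
  rw [e]
  refine e6m_concBr_cls good2_E6 T3_E6 T4_E6 T19_E6 f (w := [2, 4]) (by decide) e6m_concBr_c0 e6m_concBr_c0 rfl ?_ g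
  rw [tab_E6]
  decide +kernel

/-- `m = 2`: `n₃` centralizes the rank-one group of `{p₂}`. -/
theorem e6m_concBr_03 (g : SpecialLinearGroup (Fin 2) K) :
    (clsHom good2_E6 T3_E6 T4_E6 T19_E6 f e6m_concBr_c3 antiSL) *
      clsHom good2_E6 T3_E6 T4_E6 T19_E6 f e6m_concBr_c0 g *
      (clsHom good2_E6 T3_E6 T4_E6 T19_E6 f e6m_concBr_c3 antiSL)⁻¹ =
    clsHom good2_E6 T3_E6 T4_E6 T19_E6 f e6m_concBr_c0 g := by
  rw [clsHom_anti]
  have e : clsWord (fun i => [5, 1, 4, 3, 2, 0].getD i 0) ((0 : ℕ), (2 : ℕ)) = [0, 5] := by decide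
  rw [e]
  refine e6m_concBr_cls good2_E6 T3_E6 T4_E6 T19_E6 f (w := [0, 5]) (by decide) e6m_concBr_c0 e6m_concBr_c0 rfl ?_ g
  rw [tab_E6]
  decide +kernel

/-- `m = 4`: `n₂ n₁ n₂` centralizes the rank-one group of `{p₄}`. -/
theorem e6m_concBr_12 (g : SpecialLinearGroup (Fin 2) K) :
    (clsHom good2_E6 T3_E6 T4_E6 T19_E6 f e6m_concBr_c2 antiSL * (clsHom good2_E6 T3_E6 T4_E6 T19_E6 f e6m_concBr_c1 antiSL * clsHom good2_E6 T3_E6 T4_E6 T19_E6 f e6m_concBr_c2 antiSL)) *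
      clsHom good2_E6 T3_E6 T4_E6 T19_E6 f e6m_concBr_c1 g *
      (clsHom good2_E6 T3_E6 T4_E6 T19_E6 f e6m_concBr_c2 antiSL * (clsHom good2_E6 T3_E6 T4_E6 T19_E6 f e6m_concBr_c1 antiSL * clsHom good2_E6 T3_E6 T4_E6 T19_E6 f e6m_concBr_c2 antiSL))⁻¹ =
    clsHom good2_E6 T3_E6 T4_E6 T19_E6 f e6m_concBr_c1 g := by
  rw [clsHom_anti, clsHom_anti, ← nWordGL_append, ← nWordGL_append]
  have e : clsWord (fun i => [5, 1, 4, 3, 2, 0].getD i 0) ((2 : ℕ), (2 : ℕ)) ++ (clsWord (fun i => [5, 1, 4, 3, 2, 0].getD i 0) ((3 : ℕ), (1 : ℕ)) ++ clsWord (fun i => [5, 1, 4, 3, 2, 0].getD i 0) ((2 : ℕ), (2 : ℕ))) = [2, 4, 3, 2, 4] := by decide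
  rw [e]
  refine e6m_concBr_cls good2_E6 T3_E6 T4_E6 T19_E6 f (w := [2, 4, 3, 2, 4]) (by decide) e6m_concBr_c1 e6m_concBr_c1 rfl ?_ g
  rw [tab_E6]
  decide +kernel

/-- `m = 2`: `n₃` centralizes the rank-one group of `{p₄}`. -/
theorem e6m_concBr_13 (g : SpecialLinearGroup (Fin 2) K) :
    (clsHom good2_E6 T3_E6 T4_E6 T19_E6 f e6m_concBr_c3 antiSL) *
      clsHom good2_E6 T3_E6 T4_E6 T19_E6 f e6m_concBr_c1 g *
      (clsHom good2_E6 T3_E6 T4_E6 T19_E6 f e6m_concBr_c3 antiSL)⁻¹ =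
    clsHom good2_E6 T3_E6 T4_E6 T19_E6 f e6m_concBr_c1 g := by
  rw [clsHom_anti]
  have e : clsWord (fun i => [5, 1, 4, 3, 2, 0].getD i 0) ((0 : ℕ), (2 : ℕ)) = [0, 5] := by decide
  rw [e]
  refine e6m_concBr_cls good2_E6 T3_E6 T4_E6 T19_E6 f (w := [0, 5]) (by decide) e6m_concBr_c1 e6m_concBr_c1 rfl ?_ g
  rw [tab_E6]
  decide +kernel

/-- `m = 3`, short classes: `n₂ n₃` conjugates the rank-one group of `{p₃,p₅}` onto that of `{p₁,p₆}`. -/
theorem e6m_concBr_23 (g : SpecialLinearGroup (Fin 2) K) :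
    (clsHom good2_E6 T3_E6 T4_E6 T19_E6 f e6m_concBr_c2 antiSL * clsHom good2_E6 T3_E6 T4_E6 T19_E6 f e6m_concBr_c3 antiSL) *
      clsHom good2_E6 T3_E6 T4_E6 T19_E6 f e6m_concBr_c2 g *
      (clsHom good2_E6 T3_E6 T4_E6 T19_E6 f e6m_concBr_c2 antiSL * clsHom good2_E6 T3_E6 T4_E6 T19_E6 f e6m_concBr_c3 antiSL)⁻¹ =
    clsHom good2_E6 T3_E6 T4_E6 T19_E6 f e6m_concBr_c3 g := by
  rw [clsHom_anti, clsHom_anti, ← nWordGL_append]
  have e : clsWord (fun i => [5, 1, 4, 3, 2, 0].getD i 0) ((2 : ℕ), (2 : ℕ)) ++ clsWord (fun i => [5, 1, 4, 3, 2, 0].getD i 0) ((0 : ℕ), (2 : ℕ)) = [2, 4, 0, 5] := by decide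
  rw [e]
  refine e6m_concBr_cls good2_E6 T3_E6 T4_E6 T19_E6 f (w := [2, 4, 0, 5]) (by decide) e6m_concBr_c2 e6m_concBr_c3 rfl ?_ g
  rw [tab_E6]
  decide +kernel

end e6

/-! ### unfolding `wd`, `bk` for the Coxeter matrix `F₄` -/

section fin4

variable {G : Type*} [Group G] (D : BnDat (Fin 4) G)

theorem e6m_concBr_forall_lt {P : Fin 4 → Fin 4 → Prop} (h01 : P 0 1) (h02 : P 0 2) (h03 : P 0 3) (h12 : P 1 2)
    (h13 : P 1 3) (h23 : P 2 3) : ∀ i j, i < j → P i j := by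
  intro i j hij
  fin_cases i <;> fin_cases j <;> first | exact absurd hij (by decide) | assumption

theorem e6m_concBr_M01 : CoxeterMatrix.F₄ 0 1 = 3 := rfl

theorem e6m_concBr_M02 : CoxeterMatrix.F₄ 0 2 = 2 := rfl

theorem e6m_concBr_M03 : CoxeterMatrix.F₄ 0 3 = 2 := rfl

theorem e6m_concBr_M12 : CoxeterMatrix.F₄ 1 2 = 4 := rfl

theorem e6m_concBr_M13 : CoxeterMatrix.F₄ 1 3 = 2 := rfl

theorem e6m_concBr_M23 : CoxeterMatrix.F₄ 2 3 = 3 := rfl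

theorem e6m_concBr_wd01 : D.wd CoxeterMatrix.F₄ 0 1 = (D.R 0).n * (D.R 1).n := by
  unfold BnDat.wd
  rw [e6m_concBr_M01, if_neg (by decide), pow_one]

theorem e6m_concBr_wd02 : D.wd CoxeterMatrix.F₄ 0 2 = (D.R 2).n := by
  unfold BnDat.wd
  rw [e6m_concBr_M02, if_pos (by decide), pow_zero, mul_one]

theorem e6m_concBr_wd03 : D.wd CoxeterMatrix.F₄ 0 3 = (D.R 3).n := by
  unfold BnDat.wd
  rw [e6m_concBr_M03, if_pos (by decide), pow_zero, mul_one]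

theorem e6m_concBr_wd12 : D.wd CoxeterMatrix.F₄ 1 2 = (D.R 2).n * ((D.R 1).n * (D.R 2).n) := by
  unfold BnDat.wd
  rw [e6m_concBr_M12, if_pos (by decide), pow_one]

theorem e6m_concBr_wd13 : D.wd CoxeterMatrix.F₄ 1 3 = (D.R 3).n := by
  unfold BnDat.wd
  rw [e6m_concBr_M13, if_pos (by decide), pow_zero, mul_one]

theorem e6m_concBr_wd23 : D.wd CoxeterMatrix.F₄ 2 3 = (D.R 2).n * (D.R 3).n := by
  unfold BnDat.wd
  rw [e6m_concBr_M23, if_neg (by decide), pow_one]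

theorem e6m_concBr_bk01 : BnDat.bk CoxeterMatrix.F₄ 0 1 = 1 := by
  unfold BnDat.bk
  rw [e6m_concBr_M01, if_neg (by decide)]

theorem e6m_concBr_bk02 : BnDat.bk CoxeterMatrix.F₄ 0 2 = 0 := by
  unfold BnDat.bk
  rw [e6m_concBr_M02, if_pos (by decide)]

theorem e6m_concBr_bk03 : BnDat.bk CoxeterMatrix.F₄ 0 3 = 0 := by
  unfold BnDat.bk
  rw [e6m_concBr_M03, if_pos (by decide)]

theorem e6m_concBr_bk12 : BnDat.bk CoxeterMatrix.F₄ 1 2 = 1 := by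
  unfold BnDat.bk
  rw [e6m_concBr_M12, if_pos (by decide)]

theorem e6m_concBr_bk13 : BnDat.bk CoxeterMatrix.F₄ 1 3 = 1 := by
  unfold BnDat.bk
  rw [e6m_concBr_M13, if_pos (by decide)]

theorem e6m_concBr_bk23 : BnDat.bk CoxeterMatrix.F₄ 2 3 = 3 := by
  unfold BnDat.bk
  rw [e6m_concBr_M23, if_neg (by decide)]

/-- the fields `braid_X`, `braid_Y` of `BnDat.Ok D F₄` from the six explicit facts (`S i = X_i` resp. `Y_i`). -/
theorem e6m_concBr_braid_set (S : Fin 4 → Set G)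
    (h01 : ∀ x ∈ S 0, ((D.R 0).n * (D.R 1).n) * x * ((D.R 0).n * (D.R 1).n)⁻¹ ∈ S 1)
    (h02 : ∀ x ∈ S 0, (D.R 2).n * x * ((D.R 2).n)⁻¹ ∈ S 0)
    (h03 : ∀ x ∈ S 0, (D.R 3).n * x * ((D.R 3).n)⁻¹ ∈ S 0)
    (h12 : ∀ x ∈ S 1, ((D.R 2).n * ((D.R 1).n * (D.R 2).n)) * x * ((D.R 2).n * ((D.R 1).n * (D.R 2).n))⁻¹ ∈ S 1)
    (h13 : ∀ x ∈ S 1, (D.R 3).n * x * ((D.R 3).n)⁻¹ ∈ S 1)
    (h23 : ∀ x ∈ S 2, ((D.R 2).n * (D.R 3).n) * x * ((D.R 2).n * (D.R 3).n)⁻¹ ∈ S 3) :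
    ∀ i j, i < j → ∀ x ∈ S i,
      D.wd CoxeterMatrix.F₄ i j * x * (D.wd CoxeterMatrix.F₄ i j)⁻¹ ∈ S (BnDat.bk CoxeterMatrix.F₄ i j) := by
  apply e6m_concBr_forall_lt
  · rw [e6m_concBr_wd01, e6m_concBr_bk01]; exact h01
  · rw [e6m_concBr_wd02, e6m_concBr_bk02]; exact h02
  · rw [e6m_concBr_wd03, e6m_concBr_bk03]; exact h03
  · rw [e6m_concBr_wd12, e6m_concBr_bk12]; exact h12
  · rw [e6m_concBr_wd13, e6m_concBr_bk13]; exact h13
  · rw [e6m_concBr_wd23, e6m_concBr_bk23]; exact h23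

/-- the field `braid_n` of `BnDat.Ok D F₄` from the six explicit facts (`w n_i w⁻¹ = n_k` on the nose). -/
theorem e6m_concBr_braid_n
    (h01 : ((D.R 0).n * (D.R 1).n) * (D.R 0).n * ((D.R 0).n * (D.R 1).n)⁻¹ = (D.R 1).n)
    (h02 : (D.R 2).n * (D.R 0).n * ((D.R 2).n)⁻¹ = (D.R 0).n)
    (h03 : (D.R 3).n * (D.R 0).n * ((D.R 3).n)⁻¹ = (D.R 0).n)
    (h12 : ((D.R 2).n * ((D.R 1).n * (D.R 2).n)) * (D.R 1).n * ((D.R 2).n * ((D.R 1).n * (D.R 2).n))⁻¹ = (D.R 1).n)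
    (h13 : (D.R 3).n * (D.R 1).n * ((D.R 3).n)⁻¹ = (D.R 1).n)
    (h23 : ((D.R 2).n * (D.R 3).n) * (D.R 2).n * ((D.R 2).n * (D.R 3).n)⁻¹ = (D.R 3).n) :
    ∀ i j, i < j →
      D.wd CoxeterMatrix.F₄ i j * (D.R i).n * (D.wd CoxeterMatrix.F₄ i j)⁻¹ * (D.R (BnDat.bk CoxeterMatrix.F₄ i j)).n⁻¹ ∈
        (D.R (BnDat.bk CoxeterMatrix.F₄ i j)).T := by
  apply e6m_concBr_forall_lt
  · rw [e6m_concBr_wd01, e6m_concBr_bk01, h01, mul_inv_cancel]; exact Subgroup.one_mem _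
  · rw [e6m_concBr_wd02, e6m_concBr_bk02, h02, mul_inv_cancel]; exact Subgroup.one_mem _
  · rw [e6m_concBr_wd03, e6m_concBr_bk03, h03, mul_inv_cancel]; exact Subgroup.one_mem _
  · rw [e6m_concBr_wd12, e6m_concBr_bk12, h12, mul_inv_cancel]; exact Subgroup.one_mem _
  · rw [e6m_concBr_wd13, e6m_concBr_bk13, h13, mul_inv_cancel]; exact Subgroup.one_mem _
  · rw [e6m_concBr_wd23, e6m_concBr_bk23, h23, mul_inv_cancel]; exact Subgroup.one_mem _

end fin4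

end Cfsg.Agent.E6M
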