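import Mathlib
import Cfsg.Agent.F4M.OctDefs
import Cfsg.Agent.F4M.Rk1Lift

set_option autoImplicit false
set_option linter.unusedSectionVars false
set_option linter.unusedVariables false

/-!
# S2108, package P7 (generic half): from a rank-one system of type `SL₂` over a finite field to a rank-one datum

For a rank-one system `S : Rk1 F G` (`CtRecM/OmR1.lean`) over a finite field `F`: the torus `e6m_rk1gen_T S = {h(s) : s ∈ Fˣ}`, the rank-one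
datum `e6m_rk1gen_R S : R1 G` (`X = {xp t}`, `Y = {xm t}`, `T`, `n = xp 1 · xm (-1) · xp 1 = w 1`), its axioms `e6m_rk1gen_ok : R1.Ok`, and
the two faithfulness facts `hB`, `hW` of `f4m_rk1_inj` from `xp x = xm y → x = 0 ∧ y = 0` and `h t = 1 → t = 1`; `|T| = |F| - 1`.
Generic port of `F4M/ConcA.lean`.  Prefix `e6m_rk1gen_`.
-/

namespace Cfsg.Agent.E6M

open Cfsg.Agent.CtRecM Cfsg.Agent.CtRecT Cfsg.Agent.F4M

variable {F : Type*} [Field F] [Finite F] {G : Type*} [Group G] (S : Rk1 F G)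

/-- the torus `{h(s) : s ∈ Fˣ}` of a rank-one system over a finite field. -/
def e6m_rk1gen_T : Subgroup G where
  carrier := {g | ∃ s : Fˣ, g = S.h (s : F)}
  one_mem' := ⟨1, by rw [Units.val_one, S.h_one]⟩
  mul_mem' := by
    rintro _ _ ⟨s, rfl⟩ ⟨t, rfl⟩
    exact ⟨s * t, by rw [Units.val_mul, S.h_mul s.ne_zero t.ne_zero]⟩
  inv_mem' := by
    rintro _ ⟨s, rfl⟩
    exact ⟨s⁻¹, by rw [S.h_inv_eq s.ne_zero, Units.val_inv_eq_inv_val]⟩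

theorem e6m_rk1gen_mem_T (g : G) : g ∈ e6m_rk1gen_T S ↔ ∃ s : Fˣ, g = S.h (s : F) := Iff.rfl

theorem e6m_rk1gen_h_mem_T {t : F} (ht : t ≠ 0) : S.h t ∈ e6m_rk1gen_T S := ⟨Units.mk0 t ht, rfl⟩

/-- the rank-one datum of a rank-one system: `n = xp 1 · xm (-1) · xp 1`. -/
def e6m_rk1gen_R : R1 G where
  X := rk1Xp S
  Y := rk1Xm S
  T := e6m_rk1gen_T S
  x₁ := S.xp 1
  y₀ := S.xm (-1)
  x₂ := S.xp 1

theorem e6m_rk1gen_R_X : (e6m_rk1gen_R S).X = rk1Xp S := rfl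

theorem e6m_rk1gen_R_Y : (e6m_rk1gen_R S).Y = rk1Xm S := rfl

theorem e6m_rk1gen_R_T : (e6m_rk1gen_R S).T = e6m_rk1gen_T S := rfl

theorem e6m_rk1gen_mem_X (g : G) : g ∈ (e6m_rk1gen_R S).X ↔ ∃ t, g = S.xp t := by
  constructor
  · rintro ⟨t, rfl⟩; exact ⟨t, rfl⟩
  · rintro ⟨t, rfl⟩; exact ⟨t, rfl⟩

theorem e6m_rk1gen_mem_Y (g : G) : g ∈ (e6m_rk1gen_R S).Y ↔ ∃ t, g = S.xm t := by
  constructor
  · rintro ⟨t, rfl⟩; exact ⟨t, rfl⟩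
  · rintro ⟨t, rfl⟩; exact ⟨t, rfl⟩

/-- `n = w 1`. -/
theorem e6m_rk1gen_n : (e6m_rk1gen_R S).n = S.w 1 := by
  unfold R1.n Rk1.w e6m_rk1gen_R
  simp only [inv_one]

/-- the rank-one axioms. -/
theorem e6m_rk1gen_ok : (e6m_rk1gen_R S).Ok := by
  have hn : (e6m_rk1gen_R S).n = S.w 1 := e6m_rk1gen_n S
  have hX := e6m_rk1gen_mem_X S
  have hY := e6m_rk1gen_mem_Y S
  have hT : ∀ g, g ∈ (e6m_rk1gen_R S).T ↔ ∃ s : Fˣ, g = S.h (s : F) := fun g => Iff.rfl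
  have hXL : ∀ t, S.xp t ∈ (e6m_rk1gen_R S).L := fun t => Subgroup.mem_sup_left ((hX _).mpr ⟨t, rfl⟩)
  have hYL : ∀ t, S.xm t ∈ (e6m_rk1gen_R S).L := fun t => Subgroup.mem_sup_right ((hY _).mpr ⟨t, rfl⟩)
  have hwL : ∀ t, S.w t ∈ (e6m_rk1gen_R S).L := fun t => mul_mem (mul_mem (hXL _) (hYL _)) (hXL _)
  refine ⟨?_, ?_, ?_, ?_, ?_, ?_, ?_, ?_, ?_⟩
  · exact (hX _).mpr ⟨1, rfl⟩
  · exact (hY _).mpr ⟨-1, rfl⟩
  · exact (hX _).mpr ⟨1, rfl⟩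
  · intro x hx
    obtain ⟨u, rfl⟩ := (hX x).mp hx
    rw [hn, S.w_conj_xp one_ne_zero]
    exact (hY _).mpr ⟨_, rfl⟩
  · intro y hy
    obtain ⟨u, rfl⟩ := (hY y).mp hy
    rw [hn, S.w_conj_xm one_ne_zero]
    exact (hX _).mpr ⟨_, rfl⟩
  · rw [hn, f4m_rk1_w_w]
    exact (hT _).mpr ⟨Units.mk0 (-1) (neg_ne_zero.mpr one_ne_zero), rfl⟩
  · intro g hg
    obtain ⟨s, rfl⟩ := (hT g).mp hg
    exact mul_mem (hwL _) (hwL _)
  · intro g hg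
    obtain ⟨s, rfl⟩ := (hT g).mp hg
    rw [hn, S.w_one_conj_h s.ne_zero]
    exact (hT _).mpr ⟨s⁻¹, by rw [Units.val_inv_eq_inv_val]⟩
  · intro x hx hx1
    obtain ⟨c, rfl⟩ := (hX x).mp hx
    have hc : c ≠ 0 := by
      rintro rfl
      exact hx1 S.xp_zero
    have hc' : -(1 ^ 2)⁻¹ * c ≠ 0 := by
      rw [one_pow, inv_one]
      exact mul_ne_zero (neg_ne_zero.mpr one_ne_zero) hc
    obtain ⟨d, hd⟩ : ∃ d : F, d = -(1 ^ 2)⁻¹ * c := ⟨_, rfl⟩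
    rw [← hd] at hc'
    have hd' : -d⁻¹ ≠ 0 := neg_ne_zero.mpr (inv_ne_zero hc')
    refine ⟨S.xp d⁻¹, (hX _).mpr ⟨_, rfl⟩, S.h (-d⁻¹), (hT _).mpr ⟨Units.mk0 _ hd', rfl⟩,
      S.xp d⁻¹, (hX _).mpr ⟨_, rfl⟩, ?_⟩
    rw [hn, S.w_conj_xp one_ne_zero, ← hd, S.xm_eq hc', mul_assoc (S.xp d⁻¹) (S.h (-d⁻¹)), S.h_mul_w_one]

/-- the `B`-part of a faithful rank-one system meets `1` trivially. -/
theorem e6m_rk1gen_hB (h2 : ∀ x y : F, S.xp x = S.xm y → x = 0 ∧ y = 0)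
    (h3 : ∀ t : F, t ≠ 0 → S.h t = 1 → t = 1) :
    ∀ u t : F, t ≠ 0 → S.xp u * S.h t = 1 → u = 0 ∧ t = 1 := by
  intro u t ht h
  have hh : S.h t = S.xp (-u) := by
    rw [← S.xp_inv]
    exact eq_inv_of_mul_eq_one_right h
  -- conjugate by `w 1`: `h t⁻¹ = xm u`
  have c1 := S.w_one_conj_h ht
  have c2 := S.w_conj_xp (one_ne_zero : (1 : F) ≠ 0) (-u)
  rw [hh, c2] at c1
  have e1 : -((1 : F) ^ 2)⁻¹ * -u = u := by rw [one_pow, inv_one]; ring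
  rw [e1] at c1
  -- `h t⁻¹ = (h t)⁻¹ = xp u`
  have c3 : S.h t⁻¹ = S.xp u := by
    rw [← S.h_inv_eq ht, hh, S.xp_inv, neg_neg]
  have hu : u = 0 := (h2 u u (c3.symm.trans c1.symm)).1
  refine ⟨hu, ?_⟩
  rw [hu, S.xp_zero, one_mul] at h
  exact h3 t ht h

/-- the big cell of a faithful rank-one system does not contain `1`. -/
theorem e6m_rk1gen_hW (h2 : ∀ x y : F, S.xp x = S.xm y → x = 0 ∧ y = 0) :
    ∀ u t v : F, t ≠ 0 → S.xp u * S.h t * S.w 1 * S.xp v ≠ 1 := by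
  intro u t v ht e
  have hw : S.w 1 = (S.h t)⁻¹ * (S.xp (-u) * S.xp (-v)) := by
    rw [← S.xp_inv, ← S.xp_inv]
    calc S.w 1 = (S.h t)⁻¹ * ((S.xp u)⁻¹ * (S.xp u * S.h t * S.w 1 * S.xp v) * (S.xp v)⁻¹) := by group
      _ = _ := by rw [e]; group
  have c1 := S.w_conj_xp (one_ne_zero : (1 : F) ≠ 0) 1
  have c2 := S.h_conj_xp ht ((t ^ 2)⁻¹)
  rw [mul_inv_cancel₀ (pow_ne_zero 2 ht)] at c2
  have c3 : S.xp (-u) * S.xp (-v) * S.xp 1 * (S.xp (-u) * S.xp (-v))⁻¹ = S.xp 1 := by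
    rw [S.xp_add, S.xp_inv, S.xp_add, S.xp_add]
    congr 1
    ring
  have c4 : S.xm (-(1 ^ 2)⁻¹ * 1) = S.xp ((t ^ 2)⁻¹) := by
    rw [← c1, hw]
    calc (S.h t)⁻¹ * (S.xp (-u) * S.xp (-v)) * S.xp 1 * ((S.h t)⁻¹ * (S.xp (-u) * S.xp (-v)))⁻¹
        = (S.h t)⁻¹ * (S.xp (-u) * S.xp (-v) * S.xp 1 * (S.xp (-u) * S.xp (-v))⁻¹) * S.h t := by group
      _ = (S.h t)⁻¹ * (S.h t * S.xp (t ^ 2)⁻¹ * (S.h t)⁻¹) * S.h t := by rw [c3, c2]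
      _ = _ := by group
  have := (h2 _ _ c4.symm).1
  exact inv_ne_zero (pow_ne_zero 2 ht) this

/-- `h` is injective on the units if `h t = 1` only for `t = 1`. -/
theorem e6m_rk1gen_h_inj (h3 : ∀ t : F, t ≠ 0 → S.h t = 1 → t = 1) {s t : F} (hs : s ≠ 0) (ht : t ≠ 0)
    (h : S.h s = S.h t) : s = t := by
  have h1 : S.h (s * t⁻¹) = 1 := by
    rw [← S.h_mul hs (inv_ne_zero ht), ← S.h_inv_eq ht, h, mul_inv_cancel]
  have h2 := h3 _ (mul_ne_zero hs (inv_ne_zero ht)) h1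
  field_simp at h2
  exact h2

/-- the order of the torus of a faithful rank-one system. -/
theorem e6m_rk1gen_card_T (h3 : ∀ t : F, t ≠ 0 → S.h t = 1 → t = 1) :
    Nat.card (e6m_rk1gen_T S) = Nat.card F - 1 := by
  have e : Fˣ ≃ e6m_rk1gen_T S := Equiv.ofBijective (fun s => ⟨S.h (s : F), s, rfl⟩) ⟨by
    intro s t hst
    have h1 : S.h (s : F) = S.h (t : F) := congrArg Subtype.val hst
    exact Units.ext (e6m_rk1gen_h_inj S h3 s.ne_zero t.ne_zero h1), by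
    rintro ⟨_, s, rfl⟩
    exact ⟨s, rfl⟩⟩
  rw [← Nat.card_congr e]
  have : Fintype F := Fintype.ofFinite F
  classical
  rw [Nat.card_eq_fintype_card, Nat.card_eq_fintype_card, Fintype.card_units]

end Cfsg.Agent.E6M
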