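import Mathlib
import Cfsg.Agent.E6M.Rk1Gen
import Cfsg.Agent.CtRecT.TAmbA
import Cfsg.Agent.Helper7.TwAutG
import Cfsg.Agent.Helper7.TwOutE6a

set_option autoImplicit false
set_option linter.unusedSectionVars false
set_option linter.unusedVariables false

/-!
# S2108, package P7 (concrete half): the rank-one systems of the classes of a twisted group

Generic in the twisted datum `(D, ρ, cls, f)` of `Helper7/ChevTw*.lean`: for a class `c ∈ cls` with field of admissible parameters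
`F_c = admField f c.2` the homomorphism `e6m_concRk1_phi hc : SL₂(F_c) →* G¹` (`= clsSub`), the rank-one system
`e6m_concRk1_S hc : Rk1 F_c G¹` (images of the unitriangular matrices), the rank-one datum `e6m_concRk1_R hc : R1 G¹`
(`= e6m_rk1gen_R`, `n = w 1`, coerced to `GL` it is `clsHom hc antiSL`), its axioms, and for a class linked to another class the
faithfulness facts `hB`, `hW` of `f4m_rk1_inj` and `|T| = |F_c| - 1`.  Instance `E₆`: the four classes `e6mCls : Fin 4 → ℕ × ℕ`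
in the order of the nodes of `F₄` and `e6mR f i`.  Prefix `e6m_concRk1_`.
-/

namespace Cfsg.Agent.E6M

open Cfsg Cfsg.Lie Cfsg.Agent.Helper7.Chev Cfsg.Agent.CtRecM Cfsg.Agent.CtRecT Cfsg.Agent.F4M

section sl2

variable {F : Type*} [Field F]

/-- `w(t) w(-1) = diag(t, t⁻¹)` in `SL₂`. -/
theorem e6m_concRk1_sl2_h {t : F} (ht : t ≠ 0) :
    (upperSL t * lowerSL (-t⁻¹) * upperSL t) * (upperSL (-1 : F) * lowerSL (-(-1 : F)⁻¹) * upperSL (-1 : F)) =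
      diagSL t ht := by
  apply Subtype.ext
  rw [Matrix.SpecialLinearGroup.coe_mul, ta_w_val ht, ta_w_val (neg_ne_zero.mpr (one_ne_zero : (1 : F) ≠ 0))]
  change !![0, t; -t⁻¹, 0] * !![0, (-1 : F); -(-1 : F)⁻¹, 0] = !![t, 0; 0, t⁻¹]
  ext i j
  fin_cases i <;> fin_cases j <;> simp [Matrix.mul_apply, Fin.sum_univ_two]

/-- `w(1) = antiSL` in `SL₂`. -/
theorem e6m_concRk1_sl2_anti :
    (upperSL (1 : F) * lowerSL (-(1 : F)⁻¹) * upperSL (1 : F)) = antiSL := by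
  apply Subtype.ext
  rw [ta_w_val (one_ne_zero : (1 : F) ≠ 0)]
  change !![0, (1 : F); -(1 : F)⁻¹, 0] = !![0, 1; -1, 0]
  ext i j
  fin_cases i <;> fin_cases j <;> simp

theorem e6m_concRk1_sl2map_anti {K : Type*} [Field K] (φ : F →+* K) :
    Matrix.SpecialLinearGroup.map φ (antiSL : Matrix.SpecialLinearGroup (Fin 2) F) = antiSL := by
  apply Subtype.ext
  change φ.mapMatrix (!![0, 1; -1, 0] : Matrix (Fin 2) (Fin 2) F) = !![0, 1; -1, 0]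
  ext i j
  fin_cases i <;> fin_cases j <;> simp

end sl2

section gen

variable {D : ChevalleyDatum} {K : Type*} [Field K]
variable (hG : Good2 D) (hT : T0 D) (h3 : (tabOf D).T3) (h4 : (tabOf D).T4 60) (h7 : (tabOf D).T7) (h8 : (tabOf D).T8)
  {ρ σ : ℕ → ℕ} {cls : List (ℕ × ℕ)} (h19 : T19 D ρ σ cls) (h20 : (tabOf D).T20 ρ cls) (f : K ≃+* K)

/-- the homomorphism `SL₂(F_c) →* G¹` of the class `c`, `F_c` the field of the admissible parameters. -/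
noncomputable def e6m_concRk1_phi {c : ℕ × ℕ} (hc : c ∈ cls) :
    Matrix.SpecialLinearGroup (Fin 2) ↥(admField f c.2) →* ↥(twGroup hG h3 h4 h19 f) :=
  clsSub hG h3 h4 h19 f hc (admField f c.2).subtype (fun s => s.2)

theorem e6m_concRk1_phi_coe {c : ℕ × ℕ} (hc : c ∈ cls) (g : Matrix.SpecialLinearGroup (Fin 2) ↥(admField f c.2)) :
    ((e6m_concRk1_phi hG h3 h4 h19 f hc g : ↥(twGroup hG h3 h4 h19 f)) : GL D.Idx K) =
      clsHom hG h3 h4 h19 f hc (Matrix.SpecialLinearGroup.map (admField f c.2).subtype g) := rfl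

theorem e6m_concRk1_phi_upper {c : ℕ × ℕ} (hc : c ∈ cls) (t : ↥(admField f c.2)) :
    ((e6m_concRk1_phi hG h3 h4 h19 f hc (upperSL t) : ↥(twGroup hG h3 h4 h19 f)) : GL D.Idx K) =
      clsHom hG h3 h4 h19 f hc (upperSL (t : K)) :=
  clsSub_upper hG h3 h4 h19 f hc (admField f c.2).subtype (fun s => s.2) t

theorem e6m_concRk1_phi_lower {c : ℕ × ℕ} (hc : c ∈ cls) (t : ↥(admField f c.2)) :
    ((e6m_concRk1_phi hG h3 h4 h19 f hc (lowerSL t) : ↥(twGroup hG h3 h4 h19 f)) : GL D.Idx K) =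
      clsHom hG h3 h4 h19 f hc (lowerSL (t : K)) :=
  clsSub_lower hG h3 h4 h19 f hc (admField f c.2).subtype (fun s => s.2) t

theorem e6m_concRk1_coe_ne {m : ℕ} {t : ↥(admField f m)} (ht : t ≠ 0) : (t : K) ≠ 0 :=
  fun h => ht (Subtype.ext h)

theorem e6m_concRk1_phi_diag {c : ℕ × ℕ} (hc : c ∈ cls) (t : ↥(admField f c.2)) (ht : t ≠ 0) :
    ((e6m_concRk1_phi hG h3 h4 h19 f hc (diagSL t ht) : ↥(twGroup hG h3 h4 h19 f)) : GL D.Idx K) =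
      clsHom hG h3 h4 h19 f hc (diagSL (t : K) (e6m_concRk1_coe_ne f ht)) :=
  clsSub_diag hG h3 h4 h19 f hc (admField f c.2).subtype (fun s => s.2) t ht

theorem e6m_concRk1_phi_anti {c : ℕ × ℕ} (hc : c ∈ cls) :
    ((e6m_concRk1_phi hG h3 h4 h19 f hc antiSL : ↥(twGroup hG h3 h4 h19 f)) : GL D.Idx K) =
      clsHom hG h3 h4 h19 f hc antiSL := by
  rw [e6m_concRk1_phi_coe, e6m_concRk1_sl2map_anti]

/-- the rank-one system of the class `c`. -/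
noncomputable def e6m_concRk1_S {c : ℕ × ℕ} (hc : c ∈ cls) :
    Rk1 ↥(admField f c.2) ↥(twGroup hG h3 h4 h19 f) where
  xp t := e6m_concRk1_phi hG h3 h4 h19 f hc (upperSL t)
  xm t := e6m_concRk1_phi hG h3 h4 h19 f hc (lowerSL t)
  xp_add t u := by rw [← map_mul, ta_upperSL_mul]
  xm_add t u := by rw [← map_mul, ta_lowerSL_mul]
  conj_xp t ht u := ta_hom_conj (e6m_concRk1_phi hG h3 h4 h19 f hc) ht u

theorem e6m_concRk1_xp_eq {c : ℕ × ℕ} (hc : c ∈ cls) (t : ↥(admField f c.2)) :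
    (e6m_concRk1_S hG h3 h4 h19 f hc).xp t = e6m_concRk1_phi hG h3 h4 h19 f hc (upperSL t) := rfl

theorem e6m_concRk1_xm_eq {c : ℕ × ℕ} (hc : c ∈ cls) (t : ↥(admField f c.2)) :
    (e6m_concRk1_S hG h3 h4 h19 f hc).xm t = e6m_concRk1_phi hG h3 h4 h19 f hc (lowerSL t) := rfl

theorem e6m_concRk1_xp_coe {c : ℕ × ℕ} (hc : c ∈ cls) (t : ↥(admField f c.2)) :
    (((e6m_concRk1_S hG h3 h4 h19 f hc).xp t : ↥(twGroup hG h3 h4 h19 f)) : GL D.Idx K) =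
      clsHom hG h3 h4 h19 f hc (upperSL (t : K)) :=
  e6m_concRk1_phi_upper hG h3 h4 h19 f hc t

theorem e6m_concRk1_xm_coe {c : ℕ × ℕ} (hc : c ∈ cls) (t : ↥(admField f c.2)) :
    (((e6m_concRk1_S hG h3 h4 h19 f hc).xm t : ↥(twGroup hG h3 h4 h19 f)) : GL D.Idx K) =
      clsHom hG h3 h4 h19 f hc (lowerSL (t : K)) :=
  e6m_concRk1_phi_lower hG h3 h4 h19 f hc t

theorem e6m_concRk1_w_eq {c : ℕ × ℕ} (hc : c ∈ cls) (t : ↥(admField f c.2)) :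
    (e6m_concRk1_S hG h3 h4 h19 f hc).w t =
      e6m_concRk1_phi hG h3 h4 h19 f hc (upperSL t * lowerSL (-t⁻¹) * upperSL t) := by
  unfold Rk1.w
  rw [map_mul, map_mul]
  rfl

theorem e6m_concRk1_h_eq {c : ℕ × ℕ} (hc : c ∈ cls) {t : ↥(admField f c.2)} (ht : t ≠ 0) :
    (e6m_concRk1_S hG h3 h4 h19 f hc).h t = e6m_concRk1_phi hG h3 h4 h19 f hc (diagSL t ht) := by
  unfold Rk1.h
  rw [e6m_concRk1_w_eq, e6m_concRk1_w_eq, ← map_mul, e6m_concRk1_sl2_h ht]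

/-- `h_c(t)`, coerced to `GL`. -/
theorem e6m_concRk1_h_coe {c : ℕ × ℕ} (hc : c ∈ cls) {t : ↥(admField f c.2)} (ht : t ≠ 0) :
    (((e6m_concRk1_S hG h3 h4 h19 f hc).h t : ↥(twGroup hG h3 h4 h19 f)) : GL D.Idx K) =
      clsHom hG h3 h4 h19 f hc (diagSL (t : K) (e6m_concRk1_coe_ne f ht)) := by
  rw [e6m_concRk1_h_eq hG h3 h4 h19 f hc ht]
  exact e6m_concRk1_phi_diag hG h3 h4 h19 f hc t ht

/-- `w_c(1)`, coerced to `GL`, is `n_c = clsHom hc antiSL`. -/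
theorem e6m_concRk1_w_one_coe {c : ℕ × ℕ} (hc : c ∈ cls) :
    (((e6m_concRk1_S hG h3 h4 h19 f hc).w 1 : ↥(twGroup hG h3 h4 h19 f)) : GL D.Idx K) =
      clsHom hG h3 h4 h19 f hc antiSL := by
  rw [e6m_concRk1_w_eq, e6m_concRk1_sl2_anti]
  exact e6m_concRk1_phi_anti hG h3 h4 h19 f hc

include hT h7 h8 h20 in
/-- the upper and the lower unitriangular images meet trivially. -/
theorem e6m_concRk1_xp_ne_xm {c : ℕ × ℕ} (hc : c ∈ cls) (x y : ↥(admField f c.2))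
    (h : (e6m_concRk1_S hG h3 h4 h19 f hc).xp x = (e6m_concRk1_S hG h3 h4 h19 f hc).xm y) : x = 0 ∧ y = 0 :=
  clsSub_upper_lower hG hT h3 h4 h7 h8 h19 h20 f hc (admField f c.2).subtype (fun s => s.2) x y h

include hT h7 h8 h20 in
/-- `h_c` is faithful, if the class `c` is linked to a class `c'`. -/
theorem e6m_concRk1_h_ne {c c' : ℕ × ℕ} (hc : c ∈ cls) (hc' : c' ∈ cls) (hL : Linked D ρ c c')
    (t : ↥(admField f c.2)) (ht : t ≠ 0) (h : (e6m_concRk1_S hG h3 h4 h19 f hc).h t = 1) : t = 1 := by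
  have h1 := congrArg (Subtype.val : ↥(twGroup hG h3 h4 h19 f) → GL D.Idx K) h
  rw [e6m_concRk1_h_coe hG h3 h4 h19 f hc ht] at h1
  have h2 := clsHom_diag_conj hG h3 h4 h19 f hc hc' hL (e6m_concRk1_coe_ne f ht) t.2 1
  rw [h1] at h2
  have h3' : clsHom hG h3 h4 h19 f hc' (upperSL (1 : K)) =
      clsHom hG h3 h4 h19 f hc' (upperSL ((t : K)⁻¹ * 1)) := by
    rw [← h2]
    simp
  have h4' := clsHom_upper_injective hG hT h3 h4 h7 h8 h19 h20 f hc' h3'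
  rw [mul_one] at h4'
  apply Subtype.ext
  have : (t : K) = 1 := by
    rw [← inv_inv (t : K), ← h4', inv_one]
  rw [this]
  rfl

variable [Finite K]

/-- the rank-one datum of the class `c`. -/
noncomputable def e6m_concRk1_R {c : ℕ × ℕ} (hc : c ∈ cls) : R1 ↥(twGroup hG h3 h4 h19 f) :=
  e6m_rk1gen_R (e6m_concRk1_S hG h3 h4 h19 f hc)

theorem e6m_concRk1_R_X {c : ℕ × ℕ} (hc : c ∈ cls) :
    (e6m_concRk1_R hG h3 h4 h19 f hc).X = rk1Xp (e6m_concRk1_S hG h3 h4 h19 f hc) := rfl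

theorem e6m_concRk1_R_Y {c : ℕ × ℕ} (hc : c ∈ cls) :
    (e6m_concRk1_R hG h3 h4 h19 f hc).Y = rk1Xm (e6m_concRk1_S hG h3 h4 h19 f hc) := rfl

theorem e6m_concRk1_R_T {c : ℕ × ℕ} (hc : c ∈ cls) :
    (e6m_concRk1_R hG h3 h4 h19 f hc).T = e6m_rk1gen_T (e6m_concRk1_S hG h3 h4 h19 f hc) := rfl

/-- the rank-one axioms. -/
theorem e6m_concRk1_ok {c : ℕ × ℕ} (hc : c ∈ cls) : (e6m_concRk1_R hG h3 h4 h19 f hc).Ok :=
  e6m_rk1gen_ok _

/-- `n_c`, coerced to `GL`, is `clsHom hc antiSL`. -/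
theorem e6m_concRk1_n_coe {c : ℕ × ℕ} (hc : c ∈ cls) :
    (((e6m_concRk1_R hG h3 h4 h19 f hc).n : ↥(twGroup hG h3 h4 h19 f)) : GL D.Idx K) =
      clsHom hG h3 h4 h19 f hc antiSL := by
  unfold e6m_concRk1_R
  rw [e6m_rk1gen_n]
  exact e6m_concRk1_w_one_coe hG h3 h4 h19 f hc

/-- `X_c`, coerced to `GL`, is `twX hc`. -/
theorem e6m_concRk1_mem_X {c : ℕ × ℕ} (hc : c ∈ cls) (g : ↥(twGroup hG h3 h4 h19 f)) :
    g ∈ (e6m_concRk1_R hG h3 h4 h19 f hc).X ↔ (g : GL D.Idx K) ∈ twX hG h3 h4 h19 f hc := by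
  unfold e6m_concRk1_R
  rw [e6m_rk1gen_mem_X, mem_twX]
  constructor
  · rintro ⟨t, rfl⟩
    exact ⟨(t : K), t.2, e6m_concRk1_xp_coe hG h3 h4 h19 f hc t⟩
  · rintro ⟨t, ht, e⟩
    exact ⟨⟨t, ht⟩, Subtype.ext (e.trans (e6m_concRk1_xp_coe hG h3 h4 h19 f hc ⟨t, ht⟩).symm)⟩

/-- `Y_c`, coerced to `GL`, is `twY hc`. -/
theorem e6m_concRk1_mem_Y {c : ℕ × ℕ} (hc : c ∈ cls) (g : ↥(twGroup hG h3 h4 h19 f)) :
    g ∈ (e6m_concRk1_R hG h3 h4 h19 f hc).Y ↔ (g : GL D.Idx K) ∈ twY hG h3 h4 h19 f hc := by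
  unfold e6m_concRk1_R
  rw [e6m_rk1gen_mem_Y, mem_twY]
  constructor
  · rintro ⟨t, rfl⟩
    exact ⟨(t : K), t.2, e6m_concRk1_xm_coe hG h3 h4 h19 f hc t⟩
  · rintro ⟨t, ht, e⟩
    exact ⟨⟨t, ht⟩, Subtype.ext (e.trans (e6m_concRk1_xm_coe hG h3 h4 h19 f hc ⟨t, ht⟩).symm)⟩

/-- `T_c`, coerced to `GL`: the elements `clsHom hc (diagSL a)`, `a` admissible. -/
theorem e6m_concRk1_mem_T {c : ℕ × ℕ} (hc : c ∈ cls) (g : ↥(twGroup hG h3 h4 h19 f)) :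
    g ∈ (e6m_concRk1_R hG h3 h4 h19 f hc).T ↔
      ∃ (a : K) (ha : a ≠ 0), Adm f c.2 a ∧ (g : GL D.Idx K) = clsHom hG h3 h4 h19 f hc (diagSL a ha) := by
  unfold e6m_concRk1_R
  rw [e6m_rk1gen_R_T, e6m_rk1gen_mem_T]
  constructor
  · rintro ⟨s, rfl⟩
    exact ⟨((s : ↥(admField f c.2)) : K), e6m_concRk1_coe_ne f s.ne_zero, (s : ↥(admField f c.2)).2,
      e6m_concRk1_h_coe hG h3 h4 h19 f hc s.ne_zero⟩
  · rintro ⟨a, ha, hadm, e⟩
    have hne : (⟨a, hadm⟩ : ↥(admField f c.2)) ≠ 0 := fun h => ha (congrArg Subtype.val h)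
    exact ⟨Units.mk0 ⟨a, hadm⟩ hne,
      Subtype.ext (e.trans (e6m_concRk1_h_coe hG h3 h4 h19 f hc hne).symm)⟩

include hT h7 h8 h20 in
/-- `hB` of `f4m_rk1_inj`. -/
theorem e6m_concRk1_hB {c c' : ℕ × ℕ} (hc : c ∈ cls) (hc' : c' ∈ cls) (hL : Linked D ρ c c') :
    ∀ u t : ↥(admField f c.2), t ≠ 0 →
      (e6m_concRk1_S hG h3 h4 h19 f hc).xp u * (e6m_concRk1_S hG h3 h4 h19 f hc).h t = 1 → u = 0 ∧ t = 1 :=
  e6m_rk1gen_hB _ (e6m_concRk1_xp_ne_xm hG hT h3 h4 h7 h8 h19 h20 f hc)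
    (e6m_concRk1_h_ne hG hT h3 h4 h7 h8 h19 h20 f hc hc' hL)

include hT h7 h8 h20 in
/-- `hW` of `f4m_rk1_inj`. -/
theorem e6m_concRk1_hW {c : ℕ × ℕ} (hc : c ∈ cls) :
    ∀ u t v : ↥(admField f c.2), t ≠ 0 →
      (e6m_concRk1_S hG h3 h4 h19 f hc).xp u * (e6m_concRk1_S hG h3 h4 h19 f hc).h t *
        (e6m_concRk1_S hG h3 h4 h19 f hc).w 1 * (e6m_concRk1_S hG h3 h4 h19 f hc).xp v ≠ 1 :=
  e6m_rk1gen_hW _ (e6m_concRk1_xp_ne_xm hG hT h3 h4 h7 h8 h19 h20 f hc)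

include hT h7 h8 h20 in
/-- the order of the torus of the class `c`. -/
theorem e6m_concRk1_card_T {c c' : ℕ × ℕ} (hc : c ∈ cls) (hc' : c' ∈ cls) (hL : Linked D ρ c c') :
    Nat.card (e6m_concRk1_R hG h3 h4 h19 f hc).T = Nat.card ↥(admField f c.2) - 1 :=
  e6m_rk1gen_card_T _ (e6m_concRk1_h_ne hG hT h3 h4 h7 h8 h19 h20 f hc hc' hL)

end gen

/-! ### the instance `E₆` -/

section E6

set_option maxRecDepth 1000000 in
set_option maxHeartbeats 0 in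
theorem e6m_concRk1_linkedfast_DC :
    LinkedT fastE6 chevE6 (fun i => [5, 1, 4, 3, 2, 0].getD i 0) (0, 2) (2, 2) := by decide +kernel

theorem e6m_concRk1_linked_DC : Linked chevE6 (fun i => [5, 1, 4, 3, 2, 0].getD i 0) (0, 2) (2, 2) :=
  linked_of_linkedT (tab_E6 ▸ e6m_concRk1_linkedfast_DC)

/-- the four classes of `²E₆` in the order of the nodes of the Coxeter diagram `F₄`:
`{p₂}`, `{p₄}`, `{p₃, p₅}`, `{p₁, p₆}`. -/
def e6mCls : Fin 4 → ℕ × ℕ := ![(1, 1), (3, 1), (2, 2), (0, 2)]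

theorem e6mCls_mem (i : Fin 4) : e6mCls i ∈ clsE6 := by
  fin_cases i <;> decide

/-- every class is linked to a class. -/
theorem e6m_concRk1_E6_linked (i : Fin 4) :
    ∃ c' ∈ clsE6, Linked chevE6 (fun i => [5, 1, 4, 3, 2, 0].getD i 0) (e6mCls i) c' := by
  fin_cases i
  · exact ⟨(3, 1), by decide, linked_E6_ab⟩
  · exact ⟨(2, 2), by decide, linked_E6_bC⟩
  · exact ⟨(0, 2), by decide, linked_E6_CD⟩
  · exact ⟨(2, 2), by decide, e6m_concRk1_linked_DC⟩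

variable {K : Type*} [Field K] [Finite K] (f : K ≃+* K)

/-- the group `²E₆` as a twisted group. -/
abbrev e6mG : Subgroup (GL chevE6.Idx K) := twGroup good2_E6 T3_E6 T4_E6 T19_E6 f

/-- the rank-one system of the `i`-th class of `²E₆`. -/
noncomputable def e6mS (i : Fin 4) : Rk1 ↥(admField f (e6mCls i).2) ↥(e6mG f) :=
  e6m_concRk1_S good2_E6 T3_E6 T4_E6 T19_E6 f (e6mCls_mem i)

/-- the rank-one datum of the `i`-th class of `²E₆`. -/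
noncomputable def e6mR (i : Fin 4) : R1 ↥(e6mG f) :=
  e6m_concRk1_R good2_E6 T3_E6 T4_E6 T19_E6 f (e6mCls_mem i)

theorem e6mR_X (i : Fin 4) : (e6mR f i).X = rk1Xp (e6mS f i) := rfl

theorem e6mR_Y (i : Fin 4) : (e6mR f i).Y = rk1Xm (e6mS f i) := rfl

theorem e6mR_ok (i : Fin 4) : (e6mR f i).Ok := e6m_concRk1_ok _ _ _ _ f _

theorem e6mR_n_coe (i : Fin 4) :
    (((e6mR f i).n : ↥(e6mG f)) : GL chevE6.Idx K) = clsHom good2_E6 T3_E6 T4_E6 T19_E6 f (e6mCls_mem i) antiSL :=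
  e6m_concRk1_n_coe _ _ _ _ f _

theorem e6mS_hB (i : Fin 4) :
    ∀ u t : ↥(admField f (e6mCls i).2), t ≠ 0 → (e6mS f i).xp u * (e6mS f i).h t = 1 → u = 0 ∧ t = 1 := by
  obtain ⟨c', hc', hL⟩ := e6m_concRk1_E6_linked i
  exact e6m_concRk1_hB good2_E6 T0_E6 T3_E6 T4_E6 T7_E6 T8_E6 T19_E6 T20_E6 f (e6mCls_mem i) hc' hL

theorem e6mS_hW (i : Fin 4) :
    ∀ u t v : ↥(admField f (e6mCls i).2), t ≠ 0 →
      (e6mS f i).xp u * (e6mS f i).h t * (e6mS f i).w 1 * (e6mS f i).xp v ≠ 1 :=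
  e6m_concRk1_hW good2_E6 T0_E6 T3_E6 T4_E6 T7_E6 T8_E6 T19_E6 T20_E6 f (e6mCls_mem i)

theorem e6mR_card_T (i : Fin 4) :
    Nat.card (e6mR f i).T = Nat.card ↥(admField f (e6mCls i).2) - 1 := by
  obtain ⟨c', hc', hL⟩ := e6m_concRk1_E6_linked i
  exact e6m_concRk1_card_T good2_E6 T0_E6 T3_E6 T4_E6 T7_E6 T8_E6 T19_E6 T20_E6 f (e6mCls_mem i) hc' hL

theorem e6mR_mem_X (i : Fin 4) (g : ↥(e6mG f)) :
    g ∈ (e6mR f i).X ↔ (g : GL chevE6.Idx K) ∈ twX good2_E6 T3_E6 T4_E6 T19_E6 f (e6mCls_mem i) :=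
  e6m_concRk1_mem_X _ _ _ _ f _ g

theorem e6mR_mem_Y (i : Fin 4) (g : ↥(e6mG f)) :
    g ∈ (e6mR f i).Y ↔ (g : GL chevE6.Idx K) ∈ twY good2_E6 T3_E6 T4_E6 T19_E6 f (e6mCls_mem i) :=
  e6m_concRk1_mem_Y _ _ _ _ f _ g

theorem e6mR_mem_T (i : Fin 4) (g : ↥(e6mG f)) :
    g ∈ (e6mR f i).T ↔ ∃ (a : K) (ha : a ≠ 0), Adm f (e6mCls i).2 a ∧
      (g : GL chevE6.Idx K) = clsHom good2_E6 T3_E6 T4_E6 T19_E6 f (e6mCls_mem i) (diagSL a ha) :=
  e6m_concRk1_mem_T _ _ _ _ f _ g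

end E6

section input

universe u

variable {K : Type u} [Field K] [Finite K] (f : K ≃+* K)

/-- the rank-one datum `e6mR f i` comes from a faithful rank-one system of type `SL₂` over a finite field of characteristic `p`
(the unfolded form of `Rk1Input p (e6mR f i)` of the final assembly). -/
theorem e6mR_input {p : ℕ} (hp : (p : K) = 0) (i : Fin 4) :
    ∃ (F : Type u) (_ : Field F) (_ : Finite F) (S : Rk1 F ↥(e6mG f)), ((p : F) = 0) ∧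
      (∀ u t : F, t ≠ 0 → S.xp u * S.h t = 1 → u = 0 ∧ t = 1) ∧
      (∀ u t v : F, t ≠ 0 → S.xp u * S.h t * S.w 1 * S.xp v ≠ 1) ∧
      (e6mR f i).X = rk1Xp S ∧ (e6mR f i).Y = rk1Xm S := by
  refine ⟨↥(admField f (e6mCls i).2), inferInstance, inferInstance, e6mS f i, ?_, e6mS_hB f i, e6mS_hW f i, rfl, rfl⟩
  apply Subtype.ext
  have h1 : (((p : ℕ) : ↥(admField f (e6mCls i).2)) : K) = (p : K) := by push_cast; rfl
  rw [h1, hp]
  rfl

end input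

end Cfsg.Agent.E6M
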