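import Mathlib
import Cfsg.Agent.E6M.ConcBr
import Cfsg.Agent.E6M.ConcRk1

set_option autoImplicit false

/-!
# S2108, concrete side, package P9 (second half): the braid fields of `BnDat.Ok D F₄` for `²E₆`

`e6m_concBrD_fields`: abstract transport: a datum `D : BnDat (Fin 4) ↥G1` whose rank-one data are images of homomorphisms
`ψ i : SL₂(K) →* Γ` (with admissible parameter sets `A i`) satisfying the six hom-level braid identities has the fields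
`braid_X`, `braid_Y`, `braid_n`.  `e6m_concBrD_E6`: the instance for every `D : BnDat (Fin 4) ↥(e6mG f)` with `D.R = e6mR f`.
Prefix `e6m_concBrD_`.
-/

namespace Cfsg.Agent.E6M

open Cfsg Cfsg.Lie Matrix Cfsg.Agent.Helper7.Chev Cfsg.Agent.F4M

section abstract

variable {Γ : Type*} [Group Γ] {K : Type*} [Field K] (G1 : Subgroup Γ) (D : BnDat (Fin 4) ↥G1)
  (ψ : Fin 4 → SpecialLinearGroup (Fin 2) K →* Γ) (A : Fin 4 → Set K)

/-- abstract transport of the six hom-level braid identities to the fields `braid_X`, `braid_Y`, `braid_n`. -/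
theorem e6m_concBrD_fields
    (hn : ∀ i, (((D.R i).n : ↥G1) : Γ) = ψ i antiSL)
    (hX : ∀ i (g : ↥G1), g ∈ (D.R i).X ↔ ∃ t, t ∈ A i ∧ (g : Γ) = ψ i (upperSL t))
    (hY : ∀ i (g : ↥G1), g ∈ (D.R i).Y ↔ ∃ t, t ∈ A i ∧ (g : Γ) = ψ i (lowerSL t))
    (hA01 : A 0 ⊆ A 1) (hA23 : A 2 ⊆ A 3)
    (b01 : ∀ g, (ψ 0 antiSL * ψ 1 antiSL) * ψ 0 g * (ψ 0 antiSL * ψ 1 antiSL)⁻¹ = ψ 1 g)
    (b02 : ∀ g, ψ 2 antiSL * ψ 0 g * (ψ 2 antiSL)⁻¹ = ψ 0 g)
    (b03 : ∀ g, ψ 3 antiSL * ψ 0 g * (ψ 3 antiSL)⁻¹ = ψ 0 g)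
    (b12 : ∀ g, (ψ 2 antiSL * (ψ 1 antiSL * ψ 2 antiSL)) * ψ 1 g * (ψ 2 antiSL * (ψ 1 antiSL * ψ 2 antiSL))⁻¹ = ψ 1 g)
    (b13 : ∀ g, ψ 3 antiSL * ψ 1 g * (ψ 3 antiSL)⁻¹ = ψ 1 g)
    (b23 : ∀ g, (ψ 2 antiSL * ψ 3 antiSL) * ψ 2 g * (ψ 2 antiSL * ψ 3 antiSL)⁻¹ = ψ 3 g) :
    (∀ i j, i < j → ∀ x ∈ (D.R i).X,
      D.wd CoxeterMatrix.F₄ i j * x * (D.wd CoxeterMatrix.F₄ i j)⁻¹ ∈ (D.R (BnDat.bk CoxeterMatrix.F₄ i j)).X) ∧
    (∀ i j, i < j → ∀ y ∈ (D.R i).Y,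
      D.wd CoxeterMatrix.F₄ i j * y * (D.wd CoxeterMatrix.F₄ i j)⁻¹ ∈ (D.R (BnDat.bk CoxeterMatrix.F₄ i j)).Y) ∧
    (∀ i j, i < j →
      D.wd CoxeterMatrix.F₄ i j * (D.R i).n * (D.wd CoxeterMatrix.F₄ i j)⁻¹ *
        (D.R (BnDat.bk CoxeterMatrix.F₄ i j)).n⁻¹ ∈ (D.R (BnDat.bk CoxeterMatrix.F₄ i j)).T) := by
  refine ⟨?_, ?_, ?_⟩
  · refine e6m_concBr_braid_set D (fun i => ((D.R i).X : Set ↥G1)) ?_ ?_ ?_ ?_ ?_ ?_
    · intro x hx
      obtain ⟨t, ht, e⟩ := (hX 0 x).mp hx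
      refine (hX 1 _).mpr ⟨t, hA01 ht, ?_⟩
      simp only [Subgroup.coe_mul, Subgroup.coe_inv, hn, e]
      exact b01 _
    · intro x hx
      obtain ⟨t, ht, e⟩ := (hX 0 x).mp hx
      refine (hX 0 _).mpr ⟨t, ht, ?_⟩
      simp only [Subgroup.coe_mul, Subgroup.coe_inv, hn, e]
      exact b02 _
    · intro x hx
      obtain ⟨t, ht, e⟩ := (hX 0 x).mp hx
      refine (hX 0 _).mpr ⟨t, ht, ?_⟩
      simp only [Subgroup.coe_mul, Subgroup.coe_inv, hn, e]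
      exact b03 _
    · intro x hx
      obtain ⟨t, ht, e⟩ := (hX 1 x).mp hx
      refine (hX 1 _).mpr ⟨t, ht, ?_⟩
      simp only [Subgroup.coe_mul, Subgroup.coe_inv, hn, e]
      exact b12 _
    · intro x hx
      obtain ⟨t, ht, e⟩ := (hX 1 x).mp hx
      refine (hX 1 _).mpr ⟨t, ht, ?_⟩
      simp only [Subgroup.coe_mul, Subgroup.coe_inv, hn, e]
      exact b13 _
    · intro x hx
      obtain ⟨t, ht, e⟩ := (hX 2 x).mp hx
      refine (hX 3 _).mpr ⟨t, hA23 ht, ?_⟩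
      simp only [Subgroup.coe_mul, Subgroup.coe_inv, hn, e]
      exact b23 _
  · refine e6m_concBr_braid_set D (fun i => ((D.R i).Y : Set ↥G1)) ?_ ?_ ?_ ?_ ?_ ?_
    · intro x hx
      obtain ⟨t, ht, e⟩ := (hY 0 x).mp hx
      refine (hY 1 _).mpr ⟨t, hA01 ht, ?_⟩
      simp only [Subgroup.coe_mul, Subgroup.coe_inv, hn, e]
      exact b01 _
    · intro x hx
      obtain ⟨t, ht, e⟩ := (hY 0 x).mp hx
      refine (hY 0 _).mpr ⟨t, ht, ?_⟩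
      simp only [Subgroup.coe_mul, Subgroup.coe_inv, hn, e]
      exact b02 _
    · intro x hx
      obtain ⟨t, ht, e⟩ := (hY 0 x).mp hx
      refine (hY 0 _).mpr ⟨t, ht, ?_⟩
      simp only [Subgroup.coe_mul, Subgroup.coe_inv, hn, e]
      exact b03 _
    · intro x hx
      obtain ⟨t, ht, e⟩ := (hY 1 x).mp hx
      refine (hY 1 _).mpr ⟨t, ht, ?_⟩
      simp only [Subgroup.coe_mul, Subgroup.coe_inv, hn, e]
      exact b12 _
    · intro x hx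
      obtain ⟨t, ht, e⟩ := (hY 1 x).mp hx
      refine (hY 1 _).mpr ⟨t, ht, ?_⟩
      simp only [Subgroup.coe_mul, Subgroup.coe_inv, hn, e]
      exact b13 _
    · intro x hx
      obtain ⟨t, ht, e⟩ := (hY 2 x).mp hx
      refine (hY 3 _).mpr ⟨t, hA23 ht, ?_⟩
      simp only [Subgroup.coe_mul, Subgroup.coe_inv, hn, e]
      exact b23 _
  · refine e6m_concBr_braid_n D ?_ ?_ ?_ ?_ ?_ ?_
    · apply Subtype.ext
      simp only [Subgroup.coe_mul, Subgroup.coe_inv, hn]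
      exact b01 _
    · apply Subtype.ext
      simp only [Subgroup.coe_mul, Subgroup.coe_inv, hn]
      exact b02 _
    · apply Subtype.ext
      simp only [Subgroup.coe_mul, Subgroup.coe_inv, hn]
      exact b03 _
    · apply Subtype.ext
      simp only [Subgroup.coe_mul, Subgroup.coe_inv, hn]
      exact b12 _
    · apply Subtype.ext
      simp only [Subgroup.coe_mul, Subgroup.coe_inv, hn]
      exact b13 _
    · apply Subtype.ext
      simp only [Subgroup.coe_mul, Subgroup.coe_inv, hn]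
      exact b23 _

end abstract

section e6

variable {K : Type*} [Field K] [Finite K] (f : K ≃+* K)

/-- the braid fields of `BnDat.Ok D F₄` for every datum over `²E₆ = e6mG f` whose rank-one data are `e6mR f`. -/
theorem e6m_concBrD_E6 (D : BnDat (Fin 4) ↥(e6mG f)) (hR : ∀ i, D.R i = e6mR f i) :
    (∀ i j, i < j → ∀ x ∈ (D.R i).X,
      D.wd CoxeterMatrix.F₄ i j * x * (D.wd CoxeterMatrix.F₄ i j)⁻¹ ∈ (D.R (BnDat.bk CoxeterMatrix.F₄ i j)).X) ∧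
    (∀ i j, i < j → ∀ y ∈ (D.R i).Y,
      D.wd CoxeterMatrix.F₄ i j * y * (D.wd CoxeterMatrix.F₄ i j)⁻¹ ∈ (D.R (BnDat.bk CoxeterMatrix.F₄ i j)).Y) ∧
    (∀ i j, i < j →
      D.wd CoxeterMatrix.F₄ i j * (D.R i).n * (D.wd CoxeterMatrix.F₄ i j)⁻¹ *
        (D.R (BnDat.bk CoxeterMatrix.F₄ i j)).n⁻¹ ∈ (D.R (BnDat.bk CoxeterMatrix.F₄ i j)).T) := by
  refine e6m_concBrD_fields (e6mG f) D (fun i => clsHom good2_E6 T3_E6 T4_E6 T19_E6 f (e6mCls_mem i))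
    (fun i => {t | Adm f (e6mCls i).2 t}) ?_ ?_ ?_ ?_ ?_ ?_ ?_ ?_ ?_ ?_ ?_
  · intro i
    rw [hR i]
    exact e6mR_n_coe f i
  · intro i g
    rw [hR i, e6mR_mem_X, mem_twX]
    rfl
  · intro i g
    rw [hR i, e6mR_mem_Y, mem_twY]
    rfl
  · intro t ht
    exact ht
  · intro t ht
    exact ht
  · exact e6m_concBr_01 f
  · exact e6m_concBr_02 f
  · exact e6m_concBr_03 f
  · exact e6m_concBr_12 f
  · exact e6m_concBr_13 f
  · exact e6m_concBr_23 f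

end e6

end Cfsg.Agent.E6M
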