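import Mathlib
import Cfsg.Agent.E6M.BnDefs
import Cfsg.Agent.E6M.ConcRk1
import Cfsg.Agent.Helper7.ChevTwCoxE6
import Cfsg.Agent.Helper7.TwAutF

set_option autoImplicit false
set_option linter.unusedSectionVars false
set_option linter.unusedVariables false

/-!
# S2108: the concrete data of Part II for `²E₆(q)` (helper9)

Everything for a generic field automorphism `f : K ≃+* K` of a finite field; `e6G f = e6mG f = twGroup good2_E6 T3_E6 T4_E6 T19_E6 f` is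
`twistedE6 K q` when `f` is the `q`-Frobenius of a field with `q²` elements (`Helper7.Chev.twistedE6_eq`).  The four classes of fundamental roots
in the order of the nodes of `F₄` (helper2's `e6mCls`): `e6Cls 0 = (1,1) = {p₂}`, `e6Cls 1 = (3,1) = {p₄}`, `e6Cls 2 = (2,2) = {p₃, p₅}`,
`e6Cls 3 = (0,2) = {p₁, p₆}`.  The data `e6D f : BnDat (Fin 4) ²E₆` of the `BN`-lifting: rank-one data `e6mR f i` of `E6M/ConcRk1.lean` (helper2),
`U = U¹`, `Uc i` = the part of `U¹` outside the class `i`.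
-/

namespace Cfsg.Agent.E6M

open Cfsg Cfsg.Lie Cfsg.Agent.Helper7.Chev Cfsg.Agent.CtRecM Cfsg.Agent.CtRecT Cfsg.Agent.F4M

variable {K : Type*} [Field K] [Finite K] (f : K ≃+* K)

/-- the permutation `ρ` of the simple roots of `E₆`. -/
abbrev e6Rho : ℕ → ℕ := fun i => [5, 1, 4, 3, 2, 0].getD i 0

/-- the twisted group `²E₆` as a subgroup of `GL` (`= e6mG f`). -/
abbrev e6G : Subgroup (GL chevE6.Idx K) := twGroup good2_E6 T3_E6 T4_E6 T19_E6 f

/-- the class of fundamental roots of the node `i` of `F₄`. -/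
abbrev e6Cls (i : Fin 4) : ℕ × ℕ := e6mCls i

theorem e6Cls_zero : e6Cls 0 = (1, 1) := rfl

theorem e6Cls_one : e6Cls 1 = (3, 1) := rfl

theorem e6Cls_two : e6Cls 2 = (2, 2) := rfl

theorem e6Cls_three : e6Cls 3 = (0, 2) := rfl

theorem e6Cls_mem (i : Fin 4) : e6Cls i ∈ clsE6 := e6mCls_mem i

theorem e6Cls_eq_chain (i : Fin 4) : e6Cls i = chainE6.getD i.val (0, 0) := by
  fin_cases i <;> rfl

/-- the `SL₂` of the class `i`, at the level of `GL`. -/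
noncomputable abbrev e6Phi (i : Fin 4) : Matrix.SpecialLinearGroup (Fin 2) K →* GL chevE6.Idx K :=
  clsHom good2_E6 T3_E6 T4_E6 T19_E6 f (e6mCls_mem i)

/-- `U¹`. -/
abbrev e6U : Subgroup (GL chevE6.Idx K) := twU good2_E6 T3_E6 T4_E6 T19_E6 f

/-- `H¹`. -/
abbrev e6H : Subgroup (GL chevE6.Idx K) := twH good2_E6 T3_E6 T4_E6 T19_E6 f

/-- `N¹`. -/
abbrev e6N : Subgroup (GL chevE6.Idx K) := twN good2_E6 T3_E6 T4_E6 T19_E6 f

/-- the complement of `X_i` in `U¹`. -/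
abbrev e6Uc (i : Fin 4) : Subgroup (GL chevE6.Idx K) :=
  Subgroup.closure (upGenS chevE6 K (InCls chevE6 e6Rho (e6Cls i))) ⊓ e6G f

/-- the data of the `BN`-lifting for `²E₆`. -/
noncomputable def e6D : BnDat (Fin 4) ↥(e6G f) where
  U := (e6U f).subgroupOf (e6G f)
  Uc i := (e6Uc f i).subgroupOf (e6G f)
  R i := e6mR f i

theorem e6D_R (i : Fin 4) : (e6D f).R i = e6mR f i := rfl

theorem e6D_U : (e6D f).U = (e6U f).subgroupOf (e6G f) := rfl

theorem e6D_Uc (i : Fin 4) : (e6D f).Uc i = (e6Uc f i).subgroupOf (e6G f) := rfl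

theorem e6D_n (i : Fin 4) : ((((e6D f).R i).n : ↥(e6G f)) : GL chevE6.Idx K) = e6Phi f i antiSL :=
  e6mR_n_coe f i

theorem mem_e6D_X (i : Fin 4) (g : ↥(e6G f)) :
    g ∈ ((e6D f).R i).X ↔ ∃ t : K, Adm f (e6Cls i).2 t ∧ (g : GL chevE6.Idx K) = e6Phi f i (upperSL t) :=
  (e6mR_mem_X f i g).trans (mem_twX good2_E6 T3_E6 T4_E6 T19_E6 f (e6mCls_mem i))

theorem mem_e6D_Y (i : Fin 4) (g : ↥(e6G f)) :
    g ∈ ((e6D f).R i).Y ↔ ∃ t : K, Adm f (e6Cls i).2 t ∧ (g : GL chevE6.Idx K) = e6Phi f i (lowerSL t) :=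
  (e6mR_mem_Y f i g).trans (mem_twY good2_E6 T3_E6 T4_E6 T19_E6 f (e6mCls_mem i))

theorem mem_e6D_X' (i : Fin 4) (g : ↥(e6G f)) :
    g ∈ ((e6D f).R i).X ↔ (g : GL chevE6.Idx K) ∈ twX good2_E6 T3_E6 T4_E6 T19_E6 f (e6mCls_mem i) :=
  e6mR_mem_X f i g

theorem mem_e6D_Y' (i : Fin 4) (g : ↥(e6G f)) :
    g ∈ ((e6D f).R i).Y ↔ (g : GL chevE6.Idx K) ∈ twY good2_E6 T3_E6 T4_E6 T19_E6 f (e6mCls_mem i) :=
  e6mR_mem_Y f i g

theorem mem_e6D_T (i : Fin 4) (g : ↥(e6G f)) :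
    g ∈ ((e6D f).R i).T ↔ ∃ (a : K) (ha : a ≠ 0), Adm f (e6Cls i).2 a ∧ (g : GL chevE6.Idx K) = e6Phi f i (diagSL a ha) :=
  e6mR_mem_T f i g

/-- the rank-one data satisfy the axioms. -/
theorem e6D_ok (i : Fin 4) : ((e6D f).R i).Ok := e6mR_ok f i

end Cfsg.Agent.E6M
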