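import Mathlib
import Cfsg.Agent.Helper7.ChevTwCoxE6
import Cfsg.Agent.Helper7.TwAutC

set_option autoImplicit false
set_option linter.unusedSectionVars false
set_option linter.unusedVariables false

/-!
# S2108, package P10: the Coxeter homomorphism `N¹ → W` with `φ (n_i) = s_i`, and `top`

* `e6m_cox_hom_tw`: `Helper7.Chev.exists_coxeter_hom_tw` re-exported with the extra conclusion that the Weyl element
  `n_c = clsHom hc antiSL` of the `i`-th class of the chain goes to the `i`-th simple reflection.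
* `e6m_cox_E6`: the instance for `twGroup good2_E6 T3_E6 T4_E6 T19_E6 f` (any `f`), `chainE6`, `CoxeterMatrix.F₄`.
* `e6m_cox_top_tw`, `e6m_cox_top_E6`: the twisted group is generated by the rank-one groups `⟨twX hc, twY hc⟩`.
Prefix `e6m_cox_`.
-/

namespace Cfsg.Agent.E6M

open Cfsg Cfsg.Lie Matrix Cfsg.Agent.Helper7 Cfsg.Agent.Helper7.Chev

variable {D : ChevalleyDatum} {K : Type*} [Field K]

section cox

variable (hG : Good2 D) (hT : T0 D) (h3 : (tabOf D).T3) (h4 : (tabOf D).T4 60) (h5 : (tabOf D).T5)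
  (h6 : (tabOf D).T6) (h7 : (tabOf D).T7) (h8 : (tabOf D).T8) (h9 : (tabOf D).T9)
  {ρ ρ' σ σ' : ℕ → ℕ} {ε : ℕ → ℤ} (h18 : T18 D ρ ρ' σ σ' ε) {cls : List (ℕ × ℕ)}
  (h19 : T19 D ρ σ cls) (h20 : (tabOf D).T20 ρ cls) (f : K ≃+* K)

include hT h3 h4 h5 h6 h7 h8 h9 h18 h20 in
/-- `N¹ / H¹` is the Coxeter group of the given Coxeter matrix, the Weyl element of the `i`-th class going to `s_i`. -/
theorem e6m_cox_hom_tw {n : ℕ} (M : CoxeterMatrix (Fin n)) (cl : List (ℕ × ℕ))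
    (hn : cl.length = n) (hperm : cl.Perm cls) (hnd : cl.Nodup)
    {m : ℕ → ℕ → ℕ} (hm : ∀ i j : Fin n, M i j = m i j) (h21 : (tabOf D).T21tw ρ cl m) :
    ∃ φ : ↥(D.monomialSubgroup K ⊓ twGroup hG h3 h4 h19 f) →* M.Group, Function.Surjective φ ∧
      φ.ker = (D.diagonalSubgroup K ⊓ twGroup hG h3 h4 h19 f).subgroupOf
        (D.monomialSubgroup K ⊓ twGroup hG h3 h4 h19 f) ∧
      ∀ (i : Fin n) (hc : cl.getD i.val (0, 0) ∈ cls)
        (g : ↥(D.monomialSubgroup K ⊓ twGroup hG h3 h4 h19 f)),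
        (g : GL D.Idx K) = clsHom hG h3 h4 h19 f hc antiSL → φ g = M.simple i := by
  have hG1 := hG.toGood1
  subst hn
  obtain ⟨P, hPB, hPN, hPS⟩ := exists_bnPair_tw hG hT h3 h4 h5 h6 h7 h8 h9 h18 h19 h20 f
  have hBmem : ∀ x : ↥(twGroup hG h3 h4 h19 f), x ∈ P.B ↔ (x : GL D.Idx K) ∈ D.borelSubgroup K := by
    intro x
    rw [hPB, Subgroup.mem_subgroupOf, Subgroup.mem_inf]
    exact ⟨fun h => h.1, fun h => ⟨h, x.2⟩⟩
  have hNmem : ∀ x : ↥(twGroup hG h3 h4 h19 f),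
      x ∈ P.N ↔ (x : GL D.Idx K) ∈ D.monomialSubgroup K := by
    intro x
    rw [hPN, Subgroup.mem_subgroupOf, Subgroup.mem_inf]
    exact ⟨fun h => h.1, fun h => ⟨h, x.2⟩⟩
  have hcl : ∀ i : Fin cl.length, cl.getD i.val (0, 0) ∈ cls := by
    intro i
    rw [List.getD_eq_getElem _ _ i.2]
    exact hperm.mem_iff.mp (List.getElem_mem i.2)
  set s : Fin cl.length → ↥(twGroup hG h3 h4 h19 f) := fun i =>
    ⟨clsHom hG h3 h4 h19 f (hcl i) antiSL, anti_mem_twGroup hG h3 h4 h19 f (hcl i)⟩ with hs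
  have hsS : ∀ i, s i ∈ P.S := by
    intro i
    rw [hPS]
    exact ⟨_, hcl i, rfl⟩
  have hsurj : ∀ x ∈ P.S, ∃ i, s i = x := by
    intro x hx
    rw [hPS] at hx
    obtain ⟨c, hc, hx⟩ := hx
    have hc' : c ∈ cl := hperm.mem_iff.mpr hc
    obtain ⟨i, hi, hci⟩ := List.getElem_of_mem hc'
    refine ⟨⟨i, hi⟩, Subtype.ext ?_⟩
    rw [hx]
    have : cl.getD i (0, 0) = c := by rw [List.getD_eq_getElem _ _ hi]; exact hci
    subst this
    rfl
  have hinj : Function.Injective s := by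
    intro i j hij
    by_contra hne
    have hne' : cl.getD i.val (0, 0) ≠ cl.getD j.val (0, 0) := by
      rw [List.getD_eq_getElem _ _ i.2, List.getD_eq_getElem _ _ j.2]
      intro h
      exact hne (Fin.ext ((List.Nodup.getElem_inj_iff hnd).mp h))
    have h1 : clsHom hG h3 h4 h19 f (hcl i) antiSL = clsHom hG h3 h4 h19 f (hcl j) antiSL :=
      congrArg Subtype.val hij
    apply ncls_inv_mul_not_mem_borel hG hT h3 h4 h6 h8 h9 h19 f (hcl i) (hcl j) hne'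
    rw [h1, inv_mul_cancel]
    exact one_mem _
  have hwij : ∀ (i j : Fin cl.length) (k : ℕ),
      ∀ a ∈ repW k (clsWord ρ (cl.getD i.val (0, 0)) ++ clsWord ρ (cl.getD j.val (0, 0))),
        a < D.rank := by
    intro i j k a ha
    rcases mem_repW_append ha with h | h
    · exact clsWord_lt h19 (hcl i) a h
    · exact clsWord_lt h19 (hcl j) a h
  have hpowB : ∀ (i j : Fin cl.length) (k : ℕ),
      (s i * s j) ^ k ∈ P.B ↔ (tabOf D).posPres
        (repW k (clsWord ρ (cl.getD i.val (0, 0)) ++ clsWord ρ (cl.getD j.val (0, 0)))) := by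
    intro i j k
    rw [hBmem, ← nWordGL_mem_borel_iff (F := K) hG hT h6 h8 (hwij i j k),
      nWordGL_repW, nWordGL_append, ← clsHom_anti hG h3 h4 h19 f (hcl i),
      ← clsHom_anti hG h3 h4 h19 f (hcl j)]
    rfl
  have h21' : ∀ i j : Fin cl.length, 0 < M i j ∧ (s i * s j) ^ (M i j) ∈ P.B ∧
      ∀ k, 0 < k → k < M i j → (s i * s j) ^ k ∉ P.B := by
    intro i j
    obtain ⟨c1, c2, c3⟩ := h21 i.val i.2 j.val j.2
    rw [hm i j]
    refine ⟨c1, (hpowB i j _).mpr c2, fun k hk0 hk => ?_⟩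
    rw [hpowB]
    exact c3 k hk hk0
  obtain ⟨φ, hφs, hφk, hφi⟩ := BN.exists_coxeter_hom P M s hsS hsurj hinj (fun i j => (h21' i j).1)
    (fun i j => (h21' i j).2)
  -- transport to `N ⊓ G¹`
  have hmemG : ∀ g : ↥(D.monomialSubgroup K ⊓ twGroup hG h3 h4 h19 f),
      (g : GL D.Idx K) ∈ twGroup hG h3 h4 h19 f := fun g => (Subgroup.mem_inf.mp g.2).2
  have hmemN : ∀ g : ↥(D.monomialSubgroup K ⊓ twGroup hG h3 h4 h19 f),
      (⟨g, hmemG g⟩ : ↥(twGroup hG h3 h4 h19 f)) ∈ P.N := by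
    intro g
    rw [hNmem]
    exact (Subgroup.mem_inf.mp g.2).1
  let ψ : ↥(D.monomialSubgroup K ⊓ twGroup hG h3 h4 h19 f) →* ↥P.N :=
    { toFun := fun g => ⟨⟨g, hmemG g⟩, hmemN g⟩
      map_one' := rfl
      map_mul' := fun _ _ => rfl }
  have hψs : Function.Surjective ψ := by
    rintro ⟨⟨g, hgG⟩, hgN⟩
    have hgN' : g ∈ D.monomialSubgroup K := (hNmem _).mp hgN
    exact ⟨⟨g, Subgroup.mem_inf.mpr ⟨hgN', hgG⟩⟩, rfl⟩
  refine ⟨φ.comp ψ, hφs.comp hψs, ?_, ?_⟩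
  · ext g
    rw [MonoidHom.mem_ker, MonoidHom.comp_apply, ← MonoidHom.mem_ker, hφk, Subgroup.mem_subgroupOf,
      Subgroup.mem_subgroupOf]
    change (⟨g, hmemG g⟩ : ↥(twGroup hG h3 h4 h19 f)) ∈ P.B ⊓ P.N ↔ _
    rw [← borel_inf_monomial hG hT h6 h8 h9]
    constructor
    · intro h
      exact Subgroup.mem_inf.mpr ⟨Subgroup.mem_inf.mpr
        ⟨(hBmem _).mp (Subgroup.mem_inf.mp h).1, (Subgroup.mem_inf.mp g.2).1⟩, hmemG g⟩
    · intro h
      exact Subgroup.mem_inf.mpr ⟨(hBmem _).mpr (Subgroup.mem_inf.mp (Subgroup.mem_inf.mp h).1).1,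
        hmemN g⟩
  · intro i hc g hg
    have e : ψ g = ⟨s i, P.subset (hsS i)⟩ := Subtype.ext (Subtype.ext hg)
    rw [MonoidHom.comp_apply, e]
    exact hφi i

end cox

section top

variable (hG : Good2 D) (h3 : (tabOf D).T3) (h4 : (tabOf D).T4 60)
  {ρ σ : ℕ → ℕ} {cls : List (ℕ × ℕ)} (h19 : T19 D ρ σ cls) (f : K ≃+* K)

/-- the twisted group is generated by the rank-one groups of the classes of fundamental roots. -/
theorem e6m_cox_top_tw :
    twGroup hG h3 h4 h19 f =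
      ⨆ c : {c : ℕ × ℕ // c ∈ cls}, (twX hG h3 h4 h19 f c.2 ⊔ twY hG h3 h4 h19 f c.2) := by
  apply le_antisymm
  · unfold twGroup
    rw [Subgroup.closure_le]
    rintro g ⟨c, hc, t, ht, rfl | rfl⟩
    · exact (le_iSup (fun c : {c : ℕ × ℕ // c ∈ cls} =>
        (twX hG h3 h4 h19 f c.2 ⊔ twY hG h3 h4 h19 f c.2)) ⟨c, hc⟩)
        ((le_sup_left : twX hG h3 h4 h19 f hc ≤ _) ⟨t, ht, rfl⟩)
    · exact (le_iSup (fun c : {c : ℕ × ℕ // c ∈ cls} =>
        (twX hG h3 h4 h19 f c.2 ⊔ twY hG h3 h4 h19 f c.2)) ⟨c, hc⟩)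
        ((le_sup_right : twY hG h3 h4 h19 f hc ≤ _) ⟨t, ht, rfl⟩)
  · refine iSup_le ?_
    rintro ⟨c, hc⟩
    refine sup_le ?_ ?_
    · rintro _ ⟨t, ht, rfl⟩
      exact Subgroup.subset_closure ⟨c, hc, t, ht, Or.inl rfl⟩
    · rintro _ ⟨t, ht, rfl⟩
      exact Subgroup.subset_closure ⟨c, hc, t, ht, Or.inr rfl⟩

end top

/-- the classes of the chain of `E₆` are classes of fundamental roots. -/
theorem e6m_cox_chain_mem (i : Fin 4) : chainE6.getD i.val (0, 0) ∈ clsE6 := by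
  revert i
  decide

/-- `N¹ / H¹ ≅ W(F₄)` for the twisted group of type `E₆`, the Weyl element of the `i`-th class of `chainE6` going to `s_i`. -/
theorem e6m_cox_E6 (f : K ≃+* K) :
    ∃ φ : ↥(chevE6.monomialSubgroup K ⊓ twGroup good2_E6 T3_E6 T4_E6 T19_E6 f) →* (CoxeterMatrix.F₄).Group,
      Function.Surjective φ ∧
      φ.ker = (chevE6.diagonalSubgroup K ⊓ twGroup good2_E6 T3_E6 T4_E6 T19_E6 f).subgroupOf
        (chevE6.monomialSubgroup K ⊓ twGroup good2_E6 T3_E6 T4_E6 T19_E6 f) ∧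
      ∀ (i : Fin 4) (g : ↥(chevE6.monomialSubgroup K ⊓ twGroup good2_E6 T3_E6 T4_E6 T19_E6 f)),
        (g : GL chevE6.Idx K) = clsHom good2_E6 T3_E6 T4_E6 T19_E6 f (e6m_cox_chain_mem i) antiSL →
          φ g = (CoxeterMatrix.F₄).simple i := by
  obtain ⟨φ, h1, h2, h3⟩ := e6m_cox_hom_tw good2_E6 T0_E6 T3_E6 T4_E6 T5_E6 T6_E6 T7_E6 T8_E6 T9_E6
    T18_E6 T19_E6 T20_E6 f CoxeterMatrix.F₄ chainE6 rfl chainE6_perm chainE6_nodup CoxF4.hm T21tw_E6
  exact ⟨φ, h1, h2, fun i g hg => h3 i (e6m_cox_chain_mem i) g hg⟩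

/-- the twisted group of type `E₆` is generated by the four rank-one groups of `chainE6`. -/
theorem e6m_cox_top_E6 (f : K ≃+* K) :
    twGroup good2_E6 T3_E6 T4_E6 T19_E6 f =
      ⨆ i : Fin 4, (twX good2_E6 T3_E6 T4_E6 T19_E6 f (e6m_cox_chain_mem i) ⊔
        twY good2_E6 T3_E6 T4_E6 T19_E6 f (e6m_cox_chain_mem i)) := by
  rw [e6m_cox_top_tw]
  apply le_antisymm
  · refine iSup_le ?_
    rintro ⟨c, hc⟩
    have hc' : c ∈ chainE6 := chainE6_perm.mem_iff.mpr hc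
    obtain ⟨i, hi, hci⟩ := List.getElem_of_mem hc'
    have e : chainE6.getD i (0, 0) = c := by rw [List.getD_eq_getElem _ _ hi]; exact hci
    subst e
    exact le_iSup (fun i : Fin 4 => (twX good2_E6 T3_E6 T4_E6 T19_E6 f (e6m_cox_chain_mem i) ⊔
        twY good2_E6 T3_E6 T4_E6 T19_E6 f (e6m_cox_chain_mem i))) ⟨i, hi⟩
  · refine iSup_le ?_
    intro i
    exact le_iSup (fun c : {c : ℕ × ℕ // c ∈ clsE6} =>
      (twX good2_E6 T3_E6 T4_E6 T19_E6 f c.2 ⊔ twY good2_E6 T3_E6 T4_E6 T19_E6 f c.2))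
      ⟨chainE6.getD i.val (0, 0), e6m_cox_chain_mem i⟩

end Cfsg.Agent.E6M
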