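import Mathlib
import Cfsg.Agent.E6M.ConcDefs
import Cfsg.Agent.E6M.TwCox

set_option autoImplicit false
set_option linter.unusedSectionVars false
set_option linter.unusedVariables false

/-!
# S2108, package P10 (concrete): the fields `cox` and `top` of `BnDat.Ok D CoxeterMatrix.F₄`

* generic versions `e6m_concCox_N_le_gen`, `e6m_concCox_cox_gen`, `e6m_concCox_top_gen` for ANY `D : BnDat (Fin 4) ↥(e6G f)` whose Weyl elements
  are `clsHom … antiSL` of the classes of `chainE6` (`hn`), whose torus is `H¹` (`hH`, package P11) and whose root groups contain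
  `twX`, `twY` (`hX`, `hY`);
* the instances `e6m_concCox_N_le`, `e6m_concCox_cox`, `e6m_concCox_top` for `e6D f` of `E6M/ConcDefs.lean`.
Prefix `e6m_concCox_`.
-/

namespace Cfsg.Agent.E6M

open Cfsg Cfsg.Lie Cfsg.Agent.Helper7 Cfsg.Agent.Helper7.Chev Cfsg.Agent.CtRecM Cfsg.Agent.CtRecT Cfsg.Agent.F4M

variable {K : Type*} [Field K] (f : K ≃+* K)

/-- the rank-one homomorphisms of equal classes are equal. -/
theorem e6m_concCox_clsHom_congr {c c' : ℕ × ℕ} (hc : c ∈ clsE6) (hc' : c' ∈ clsE6) (e : c = c') :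
    clsHom good2_E6 T3_E6 T4_E6 T19_E6 f hc = clsHom good2_E6 T3_E6 T4_E6 T19_E6 f hc' := by
  subst e
  rfl

section gen

variable (D : BnDat (Fin 4) ↥(twGroup good2_E6 T3_E6 T4_E6 T19_E6 f))

/-- `N = ⟨H, n_i⟩` lies in `N¹` (as soon as `H ≤ H¹`). -/
theorem e6m_concCox_N_le_gen
    (hn : ∀ i, (((D.R i).n : ↥(twGroup good2_E6 T3_E6 T4_E6 T19_E6 f)) : GL chevE6.Idx K) =
      clsHom good2_E6 T3_E6 T4_E6 T19_E6 f (e6m_cox_chain_mem i) antiSL)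
    (hH : D.H ≤ (twH good2_E6 T3_E6 T4_E6 T19_E6 f).subgroupOf (twGroup good2_E6 T3_E6 T4_E6 T19_E6 f)) :
    D.N ≤ (chevE6.monomialSubgroup K ⊓ twGroup good2_E6 T3_E6 T4_E6 T19_E6 f).subgroupOf
      (twGroup good2_E6 T3_E6 T4_E6 T19_E6 f) := by
  unfold BnDat.N
  rw [Subgroup.closure_le]
  rintro g (hg | ⟨i, rfl⟩)
  · have h1 := hH hg
    rw [Subgroup.mem_subgroupOf] at h1
    have h2 := (mem_twH good2_E6 T3_E6 T4_E6 T19_E6 f).mp h1
    show g ∈ (chevE6.monomialSubgroup K ⊓ twGroup good2_E6 T3_E6 T4_E6 T19_E6 f).subgroupOf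
      (twGroup good2_E6 T3_E6 T4_E6 T19_E6 f)
    rw [Subgroup.mem_subgroupOf]
    exact Subgroup.mem_inf.mpr ⟨Subgroup.mem_sup_left h2.1, h2.2⟩
  · show (D.R i).n ∈ (chevE6.monomialSubgroup K ⊓ twGroup good2_E6 T3_E6 T4_E6 T19_E6 f).subgroupOf
      (twGroup good2_E6 T3_E6 T4_E6 T19_E6 f)
    rw [Subgroup.mem_subgroupOf, hn i]
    exact Subgroup.mem_inf.mpr ⟨ncls_mem_monomial good2_E6 T3_E6 T4_E6 T19_E6 f (e6m_cox_chain_mem i),
      anti_mem_twGroup good2_E6 T3_E6 T4_E6 T19_E6 f (e6m_cox_chain_mem i)⟩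

/-- the field `cox` of `BnDat.Ok D CoxeterMatrix.F₄`. -/
theorem e6m_concCox_cox_gen
    (hn : ∀ i, (((D.R i).n : ↥(twGroup good2_E6 T3_E6 T4_E6 T19_E6 f)) : GL chevE6.Idx K) =
      clsHom good2_E6 T3_E6 T4_E6 T19_E6 f (e6m_cox_chain_mem i) antiSL)
    (hH : D.H = (twH good2_E6 T3_E6 T4_E6 T19_E6 f).subgroupOf (twGroup good2_E6 T3_E6 T4_E6 T19_E6 f)) :
    ∃ φ : ↥D.N →* (CoxeterMatrix.F₄).Group,
      (∀ i (hi : (D.R i).n ∈ D.N), φ ⟨(D.R i).n, hi⟩ = (CoxeterMatrix.F₄).simple i) ∧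
      ∀ g : ↥D.N, φ g = 1 ↔ (g : ↥(twGroup good2_E6 T3_E6 T4_E6 T19_E6 f)) ∈ D.H := by
  obtain ⟨φ, -, hk, hφn⟩ := e6m_cox_E6 f
  have hle := e6m_concCox_N_le_gen f D hn hH.le
  let ι : ↥D.N →* ↥(chevE6.monomialSubgroup K ⊓ twGroup good2_E6 T3_E6 T4_E6 T19_E6 f) :=
    { toFun := fun g => ⟨((g : ↥(twGroup good2_E6 T3_E6 T4_E6 T19_E6 f)) : GL chevE6.Idx K),
        Subgroup.mem_subgroupOf.mp (hle g.2)⟩
      map_one' := rfl
      map_mul' := fun _ _ => rfl }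
  refine ⟨φ.comp ι, ?_, ?_⟩
  · intro i hi
    rw [MonoidHom.comp_apply]
    exact hφn i _ (hn i)
  · intro g
    rw [MonoidHom.comp_apply, ← MonoidHom.mem_ker, hk, Subgroup.mem_subgroupOf, hH,
      Subgroup.mem_subgroupOf]
    exact Iff.rfl

/-- the field `top` of `BnDat.Ok D CoxeterMatrix.F₄`. -/
theorem e6m_concCox_top_gen
    (hX : ∀ i, ∀ g : ↥(twGroup good2_E6 T3_E6 T4_E6 T19_E6 f),
      (g : GL chevE6.Idx K) ∈ twX good2_E6 T3_E6 T4_E6 T19_E6 f (e6m_cox_chain_mem i) → g ∈ (D.R i).X)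
    (hY : ∀ i, ∀ g : ↥(twGroup good2_E6 T3_E6 T4_E6 T19_E6 f),
      (g : GL chevE6.Idx K) ∈ twY good2_E6 T3_E6 T4_E6 T19_E6 f (e6m_cox_chain_mem i) → g ∈ (D.R i).Y) :
    D.gen = ⊤ := by
  rw [eq_top_iff]
  have hle : twGroup good2_E6 T3_E6 T4_E6 T19_E6 f ≤
      (D.gen).map (twGroup good2_E6 T3_E6 T4_E6 T19_E6 f).subtype := by
    conv_lhs => rw [e6m_cox_top_E6 f]
    refine iSup_le ?_
    intro i
    have hi : (D.R i).L ≤ D.gen := le_iSup (fun i => (D.R i).L) i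
    refine sup_le ?_ ?_
    · intro g hg
      have hgG : g ∈ twGroup good2_E6 T3_E6 T4_E6 T19_E6 f := by
        obtain ⟨t, ht, rfl⟩ := hg
        exact upper_mem_twGroup good2_E6 T3_E6 T4_E6 T19_E6 f (e6m_cox_chain_mem i) ht
      exact ⟨⟨g, hgG⟩, hi ((le_sup_left : (D.R i).X ≤ (D.R i).L) (hX i ⟨g, hgG⟩ hg)), rfl⟩
    · intro g hg
      have hgG : g ∈ twGroup good2_E6 T3_E6 T4_E6 T19_E6 f := by
        obtain ⟨t, ht, rfl⟩ := hg
        exact lower_mem_twGroup good2_E6 T3_E6 T4_E6 T19_E6 f (e6m_cox_chain_mem i) ht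
      exact ⟨⟨g, hgG⟩, hi ((le_sup_right : (D.R i).Y ≤ (D.R i).L) (hY i ⟨g, hgG⟩ hg)), rfl⟩
  intro g _
  obtain ⟨g', hg', e⟩ := hle g.2
  have : g' = g := Subtype.ext e
  rw [← this]
  exact hg'

end gen

section inst

variable [Finite K]

theorem e6m_concCox_e6D_n (i : Fin 4) :
    ((((e6D f).R i).n : ↥(e6G f)) : GL chevE6.Idx K) =
      clsHom good2_E6 T3_E6 T4_E6 T19_E6 f (e6m_cox_chain_mem i) antiSL := by
  rw [e6D_n]
  exact congrArg (fun φ => φ antiSL)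
    (e6m_concCox_clsHom_congr f (e6Cls_mem i) (e6m_cox_chain_mem i) (e6Cls_eq_chain i))

/-- the same under the name used by the assembly. -/
theorem e6m_concCox_hn (i : Fin 4) :
    ((((e6D f).R i).n : ↥(e6G f)) : GL chevE6.Idx K) =
      clsHom good2_E6 T3_E6 T4_E6 T19_E6 f (e6m_cox_chain_mem i) antiSL :=
  e6m_concCox_e6D_n f i

/-- `N = ⟨H, n_i⟩` lies in `N¹` (as soon as `H ≤ H¹`), for `e6D f`. -/
theorem e6m_concCox_N_le (hH : (e6D f).H ≤ (e6H f).subgroupOf (e6G f)) :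
    (e6D f).N ≤ (chevE6.monomialSubgroup K ⊓ e6G f).subgroupOf (e6G f) :=
  e6m_concCox_N_le_gen f (e6D f) (e6m_concCox_e6D_n f) hH

/-- the field `cox` of `BnDat.Ok (e6D f) CoxeterMatrix.F₄`. -/
theorem e6m_concCox_cox (hH : (e6D f).H = (e6H f).subgroupOf (e6G f)) :
    ∃ φ : ↥(e6D f).N →* (CoxeterMatrix.F₄).Group,
      (∀ i (hi : ((e6D f).R i).n ∈ (e6D f).N), φ ⟨((e6D f).R i).n, hi⟩ = (CoxeterMatrix.F₄).simple i) ∧
      ∀ g : ↥(e6D f).N, φ g = 1 ↔ (g : ↥(e6G f)) ∈ (e6D f).H :=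
  e6m_concCox_cox_gen f (e6D f) (e6m_concCox_e6D_n f) hH

/-- the field `top` of `BnDat.Ok (e6D f) CoxeterMatrix.F₄`. -/
theorem e6m_concCox_top : (e6D f).gen = ⊤ := by
  refine e6m_concCox_top_gen f (e6D f) ?_ ?_
  · rintro i g ⟨t, ht, e⟩
    refine (mem_e6D_X f i g).mpr ⟨t, (e6Cls_eq_chain i) ▸ ht, ?_⟩
    rw [e]
    exact congrArg (fun φ => φ (upperSL t))
      (e6m_concCox_clsHom_congr f (e6m_cox_chain_mem i) (e6Cls_mem i) (e6Cls_eq_chain i).symm)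
  · rintro i g ⟨t, ht, e⟩
    refine (mem_e6D_Y f i g).mpr ⟨t, (e6Cls_eq_chain i) ▸ ht, ?_⟩
    rw [e]
    exact congrArg (fun φ => φ (lowerSL t))
      (e6m_concCox_clsHom_congr f (e6m_cox_chain_mem i) (e6Cls_mem i) (e6Cls_eq_chain i).symm)

end inst

end Cfsg.Agent.E6M
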