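import Mathlib
import Cfsg.Agent.Helper7.TwAutG
import Cfsg.Agent.Helper7.ChevTwHE6c

set_option autoImplicit false
set_option linter.unusedSectionVars false
set_option linter.unusedVariables false

/-!
# S2108, package P11 (file `Cfsg/Agent/E6M/TwTor.lean`): the rank-one tori `T_S¹` of a twisted group and the defect of the torus

Generic in `(D, ρ, cls, f)` (the setting of `Helper7/ChevTw*`, `Helper7/TwAut*`), at the level of `GL D.Idx K`:

* `e6m_tor_T … hc` : the subgroup `{h_S(a) | a ≠ 0 admissible}` for a class `S = c` of fundamental roots (companion of `twX`, `twY`);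
* `e6m_tor_T_le_twH` : `T_S¹ ≤ H¹`;  `e6m_tor_iSup_eq` : `H¹ = ⨆ S, T_S¹`;
* `e6m_tor_card_T` : `|T_S¹| =` the number of admissible units, if some class is linked to `S`;
* for `²E₆(q)`: `e6m_tor_defect` : `∏ |T_i| = gcd(3, q + 1) · |H ⊓ ²E₆(q)|`.

Prefix `e6m_tor_`.
-/

namespace Cfsg.Agent.E6M

open Cfsg Cfsg.Lie Matrix Cfsg.Agent.Helper7.Chev

variable {D : ChevalleyDatum} {K : Type*} [Field K]

/-! ### The diagonal torus of `SL₂` and the admissible units -/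

/-- the diagonal torus of `SL₂` as a homomorphism from the units. -/
def e6m_tor_dSL : Kˣ →* Matrix.SpecialLinearGroup (Fin 2) K where
  toFun a := diagSL (a : K) a.ne_zero
  map_one' := by
    apply Subtype.ext
    change !![((1 : Kˣ) : K), 0; 0, ((1 : Kˣ) : K)⁻¹] = (1 : Matrix (Fin 2) (Fin 2) K)
    ext i j
    fin_cases i <;> fin_cases j <;> simp
  map_mul' a b := by
    apply Subtype.ext
    change !![((a * b : Kˣ) : K), 0; 0, ((a * b : Kˣ) : K)⁻¹] =
      !![(a : K), 0; 0, (a : K)⁻¹] * !![(b : K), 0; 0, (b : K)⁻¹]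
    ext i j
    fin_cases i <;> fin_cases j <;> simp [Matrix.mul_apply, Fin.sum_univ_two, mul_comm]

theorem e6m_tor_dSL_apply (a : Kˣ) : e6m_tor_dSL a = diagSL (a : K) a.ne_zero := rfl

/-- the admissible units of a class of length `m`. -/
def e6m_tor_admU (f : K ≃+* K) (m : ℕ) : Subgroup Kˣ where
  carrier := {a | Adm f m (a : K)}
  mul_mem' := by
    intro a b ha hb
    change Adm f m ((a * b : Kˣ) : K)
    rw [Units.val_mul]
    exact Adm.mul ha hb
  one_mem' := by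
    change Adm f m ((1 : Kˣ) : K)
    rw [Units.val_one]
    exact Adm.one
  inv_mem' := by
    intro a ha
    change Adm f m ((a⁻¹ : Kˣ) : K)
    rw [Units.val_inv_eq_inv_val]
    exact Adm.inv ha

theorem e6m_tor_mem_admU {f : K ≃+* K} {m : ℕ} {a : Kˣ} : a ∈ e6m_tor_admU f m ↔ Adm f m (a : K) := Iff.rfl

section tw

variable (hG : Good2 D) (hT : T0 D) (h3 : (tabOf D).T3) (h4 : (tabOf D).T4 60)
  (h7 : (tabOf D).T7) (h8 : (tabOf D).T8)
  {ρ ρ' σ σ' : ℕ → ℕ} {ε : ℕ → ℤ} (h18 : T18 D ρ ρ' σ σ' ε) {cls : List (ℕ × ℕ)}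
  (h19 : T19 D ρ σ cls) (h20 : (tabOf D).T20 ρ cls) (f : K ≃+* K)

/-- `T_S¹`: the elements `h_S(a)` with admissible parameters `a ≠ 0`. -/
noncomputable def e6m_tor_T {c : ℕ × ℕ} (hc : c ∈ cls) : Subgroup (GL D.Idx K) :=
  (e6m_tor_admU f c.2).map ((clsHom hG h3 h4 h19 f hc).comp e6m_tor_dSL)

theorem e6m_tor_mem_T {c : ℕ × ℕ} (hc : c ∈ cls) {g : GL D.Idx K} :
    g ∈ e6m_tor_T hG h3 h4 h19 f hc ↔
      ∃ (a : K) (ha : a ≠ 0), Adm f c.2 a ∧ g = clsHom hG h3 h4 h19 f hc (diagSL a ha) := by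
  constructor
  · rintro ⟨a, ha, rfl⟩
    exact ⟨(a : K), a.ne_zero, ha, rfl⟩
  · rintro ⟨a, ha, hadm, rfl⟩
    exact ⟨Units.mk0 a ha, hadm, rfl⟩

/-- `h_S(a) ∈ T_S¹`. -/
theorem e6m_tor_diag_mem_T {c : ℕ × ℕ} (hc : c ∈ cls) {a : K} (ha : a ≠ 0) (hadm : Adm f c.2 a) :
    clsHom hG h3 h4 h19 f hc (diagSL a ha) ∈ e6m_tor_T hG h3 h4 h19 f hc :=
  (e6m_tor_mem_T hG h3 h4 h19 f hc).mpr ⟨a, ha, hadm, rfl⟩

/-- `T_S¹ ≤ H¹`. -/
theorem e6m_tor_T_le_twH {c : ℕ × ℕ} (hc : c ∈ cls) :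
    e6m_tor_T hG h3 h4 h19 f hc ≤ twH hG h3 h4 h19 f := by
  intro g hg
  obtain ⟨a, ha, hadm, rfl⟩ := (e6m_tor_mem_T hG h3 h4 h19 f hc).mp hg
  exact (mem_twH hG h3 h4 h19 f).mpr
    ⟨clsHom_diag_mem hG h3 h4 h19 f hc ha, diag_mem_twGroup hG h3 h4 h19 f hc ha hadm⟩

/-- `T_S¹` lies in the twisted group. -/
theorem e6m_tor_T_le_twGroup {c : ℕ × ℕ} (hc : c ∈ cls) :
    e6m_tor_T hG h3 h4 h19 f hc ≤ twGroup hG h3 h4 h19 f :=
  fun g hg => ((mem_twH hG h3 h4 h19 f).mp (e6m_tor_T_le_twH hG h3 h4 h19 f hc hg)).2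

include h18 in
/-- a torus element with fixed parameters is a product of elements of the `T_S¹`. -/
theorem e6m_tor_torusHom_mem (hcls : (cls.flatMap (clsWord ρ)).Perm (List.range D.rank))
    {c : Fin D.rank → Kˣ} (hc : sigC h18 f c = c) :
    torusHom D K c ∈ ⨆ S : {S // S ∈ cls}, e6m_tor_T hG h3 h4 h19 f S.2 := by
  have hG1 := hG.toGood1
  have key : ∀ L : List (ℕ × ℕ), (∀ S ∈ L, S ∈ cls) →
      ((L.flatMap (clsWord ρ)).map (hS hG1 (extu D.rank c))).prod ∈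
        ⨆ S : {S // S ∈ cls}, e6m_tor_T hG h3 h4 h19 f S.2 := by
    intro L
    induction L with
    | nil => intro _; simp
    | cons S L ih =>
      intro hL
      have hS' : S ∈ cls := hL S List.mem_cons_self
      obtain ⟨hm, horb, hlt⟩ := h19.orbit S hS'
      rw [List.flatMap_cons, List.map_append, List.prod_append]
      refine mul_mem ?_ (ih fun S' hS'' => hL S' (List.mem_cons_of_mem _ hS''))
      rw [← clsHom_diag_eq hG h3 h4 h18 h19 f hc hS']
      refine Subgroup.mem_iSup_of_mem ⟨S, hS'⟩ ?_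
      apply e6m_tor_diag_mem_T
      unfold Adm
      rw [← extu_iterate_of_fixed h18 h19 f hc hS' S.2 le_rfl, horb]
  have h1 := key cls (fun S hS' => hS')
  have e : torusHom D K c = ((cls.flatMap (clsWord ρ)).map (hS hG1 (extu D.rank c))).prod := by
    rw [torusHom_apply]
    apply Units.ext
    rw [tGL_coe, prod_hS_coe hG1 _ _ (fun i hi => by
      rw [List.mem_flatMap] at hi
      obtain ⟨S, hS', hi⟩ := hi
      exact clsWord_lt h19 hS' i hi), tEntry_perm hcls]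
    unfold tMat
    congr 2
    funext i
    exact (extu_coe c i).symm
  rw [e]
  exact h1

include h18 in
/-- `H¹` is generated by the rank-one tori `T_S¹`. -/
theorem e6m_tor_iSup_eq (hperm : ((List.range D.rank).map ρ).Perm (List.range D.rank))
    (hcls : (cls.flatMap (clsWord ρ)).Perm (List.range D.rank))
    (hv : ∀ c : Fin D.rank → Kˣ, torusHom D K (sigC h18 f c) = torusHom D K c →
      ∃ c', sigC h18 f c' = c' ∧ torusHom D K c' = torusHom D K c) :
    twH hG h3 h4 h19 f = ⨆ S : {S // S ∈ cls}, e6m_tor_T hG h3 h4 h19 f S.2 := by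
  apply le_antisymm
  · intro g hg
    have hg' : g ∈ D.diagonalSubgroup K ⊓ twGroup hG h3 h4 h19 f := hg
    rw [diagonal_inf_twGroup hG h3 h4 h18 h19 f hperm hcls hv] at hg'
    obtain ⟨c, hc, rfl⟩ := hg'
    exact e6m_tor_torusHom_mem hG h3 h4 h18 h19 f hcls hc
  · exact iSup_le fun S => e6m_tor_T_le_twH hG h3 h4 h19 f S.2

include hT h7 h8 h20 in
/-- `a ↦ h_S(a)` is injective on the admissible units if some class is linked to `S`. -/
theorem e6m_tor_diag_injective {c c' : ℕ × ℕ} (hc : c ∈ cls) (hc' : c' ∈ cls) (hL : Linked D ρ c c')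
    {a b : K} (ha : a ≠ 0) (hb : b ≠ 0) (hadm : Adm f c.2 a) (hbdm : Adm f c.2 b)
    (e : clsHom hG h3 h4 h19 f hc (diagSL a ha) = clsHom hG h3 h4 h19 f hc (diagSL b hb)) : a = b := by
  have h1 := clsHom_diag_conj hG h3 h4 h19 f hc hc' hL ha hadm 1
  have h2 := clsHom_diag_conj hG h3 h4 h19 f hc hc' hL hb hbdm 1
  rw [e, h2] at h1
  have h3' := clsHom_upper_injective hG hT h3 h4 h7 h8 h19 h20 f hc' h1
  rw [mul_one, mul_one] at h3'
  exact (inv_injective h3').symm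

include hT h7 h8 h20 in
/-- the order of `T_S¹` is the number of admissible units, if some class is linked to `S`. -/
theorem e6m_tor_card_T {c c' : ℕ × ℕ} (hc : c ∈ cls) (hc' : c' ∈ cls) (hL : Linked D ρ c c') :
    Nat.card (e6m_tor_T hG h3 h4 h19 f hc) = Nat.card (e6m_tor_admU f c.2) := by
  have hinj : Function.Injective (((clsHom hG h3 h4 h19 f hc).comp e6m_tor_dSL).comp
      (e6m_tor_admU f c.2).subtype) := by
    intro a b e
    apply Subtype.ext
    apply Units.ext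
    exact e6m_tor_diag_injective hG hT h3 h4 h7 h8 h19 h20 f hc hc' hL a.1.ne_zero b.1.ne_zero a.2 b.2 e
  have hr : (((clsHom hG h3 h4 h19 f hc).comp e6m_tor_dSL).comp (e6m_tor_admU f c.2).subtype).range =
      e6m_tor_T hG h3 h4 h19 f hc := by
    rw [MonoidHom.range_comp, Subgroup.range_subtype]
    rfl
  rw [← hr]
  exact (Nat.card_congr (MonoidHom.ofInjective hinj).toEquiv).symm

end tw

/-! ### Transport to a subgroup containing the tori -/

/-- `subgroupOf` commutes with the supremum of subgroups of `H`. -/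
theorem e6m_tor_subgroupOf_iSup {ι : Sort*} {G : Type*} [Group G] (H : Subgroup G) (T : ι → Subgroup G)
    (h : ∀ i, T i ≤ H) : (⨆ i, T i).subgroupOf H = ⨆ i, (T i).subgroupOf H := by
  apply Subgroup.map_injective H.subtype_injective
  rw [Subgroup.map_iSup]
  have e : ∀ A : Subgroup G, A ≤ H → (A.subgroupOf H).map H.subtype = A := by
    intro A hA
    rw [Subgroup.subgroupOf_map_subtype]
    exact inf_eq_left.mpr hA
  rw [e _ (iSup_le h)]
  exact iSup_congr fun i => (e _ (h i)).symm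

/-- the order of `T.subgroupOf H` for `T ≤ H`. -/
theorem e6m_tor_card_subgroupOf {G : Type*} [Group G] {T H : Subgroup G} (h : T ≤ H) :
    Nat.card (T.subgroupOf H) = Nat.card T :=
  Nat.card_congr (Subgroup.subgroupOfEquivOfLe h).toEquiv

/-! ### The instance `²E₆(q)` -/

section E6

/-- the four classes of fundamental roots of `²E₆` in the order of the nodes of the Coxeter diagram `F₄`:
`{p₂}`, `{p₄}` (long), `{p₃, p₅}`, `{p₁, p₆}` (short). -/
def e6m_tor_cls : Fin 4 → ℕ × ℕ := ![(1, 1), (3, 1), (2, 2), (0, 2)]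

theorem e6m_tor_cls_mem (i : Fin 4) : e6m_tor_cls i ∈ clsE6 := by
  fin_cases i <;> decide

theorem e6m_tor_cls_surj : ∀ S : {S // S ∈ clsE6}, ∃ i : Fin 4, e6m_tor_cls i = S.1 := by
  rintro ⟨S, hS⟩
  have h : S = (1, 1) ∨ S = (3, 1) ∨ S = (0, 2) ∨ S = (2, 2) := by simpa using hS
  rcases h with rfl | rfl | rfl | rfl
  · exact ⟨0, rfl⟩
  · exact ⟨1, rfl⟩
  · exact ⟨3, rfl⟩
  · exact ⟨2, rfl⟩

/-- the linking condition with respect to a table. -/
def e6m_tor_LinkedT (T : Tab) (D : ChevalleyDatum) (ρ : ℕ → ℕ) (c c' : ℕ × ℕ) : Prop :=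
  ∀ k < c'.2, ∀ j < c.2,
    T.pairing (clsRoot D ρ c.1 j) (clsRoot D ρ c'.1 k) = if j = k % c.2 then -1 else 0

instance (T : Tab) (D : ChevalleyDatum) (ρ : ℕ → ℕ) (c c' : ℕ × ℕ) :
    Decidable (e6m_tor_LinkedT T D ρ c c') := by
  unfold e6m_tor_LinkedT; infer_instance

theorem e6m_tor_linked_of {D : ChevalleyDatum} {ρ : ℕ → ℕ} {c c' : ℕ × ℕ}
    (h : e6m_tor_LinkedT (tabOf D) D ρ c c') : Linked D ρ c c' := h

set_option maxRecDepth 1000000 in
set_option maxHeartbeats 0 in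
theorem e6m_tor_linkedfast_0 :
    e6m_tor_LinkedT fastE6 chevE6 (fun i => [5, 1, 4, 3, 2, 0].getD i 0) (1, 1) (3, 1) := by decide +kernel

set_option maxRecDepth 1000000 in
set_option maxHeartbeats 0 in
theorem e6m_tor_linkedfast_1 :
    e6m_tor_LinkedT fastE6 chevE6 (fun i => [5, 1, 4, 3, 2, 0].getD i 0) (3, 1) (2, 2) := by decide +kernel

set_option maxRecDepth 1000000 in
set_option maxHeartbeats 0 in
theorem e6m_tor_linkedfast_2 :
    e6m_tor_LinkedT fastE6 chevE6 (fun i => [5, 1, 4, 3, 2, 0].getD i 0) (2, 2) (0, 2) := by decide +kernel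

set_option maxRecDepth 1000000 in
set_option maxHeartbeats 0 in
theorem e6m_tor_linkedfast_3 :
    e6m_tor_LinkedT fastE6 chevE6 (fun i => [5, 1, 4, 3, 2, 0].getD i 0) (0, 2) (2, 2) := by decide +kernel

/-- every class of `²E₆` has a linked class. -/
theorem e6m_tor_linked (i : Fin 4) : ∃ c' ∈ clsE6,
    Linked chevE6 (fun i => [5, 1, 4, 3, 2, 0].getD i 0) (e6m_tor_cls i) c' := by
  fin_cases i
  · exact ⟨(3, 1), by decide, e6m_tor_linked_of (tab_E6 ▸ e6m_tor_linkedfast_0)⟩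
  · exact ⟨(2, 2), by decide, e6m_tor_linked_of (tab_E6 ▸ e6m_tor_linkedfast_1)⟩
  · exact ⟨(0, 2), by decide, e6m_tor_linked_of (tab_E6 ▸ e6m_tor_linkedfast_2)⟩
  · exact ⟨(2, 2), by decide, e6m_tor_linked_of (tab_E6 ▸ e6m_tor_linkedfast_3)⟩

variable {K : Type*} [Field K]

/-- the rank-one torus of the `i`-th class of `²E₆`. -/
noncomputable abbrev e6m_tor_TE6 (f : K ≃+* K) (i : Fin 4) : Subgroup (GL chevE6.Idx K) :=
  e6m_tor_T good2_E6 T3_E6 T4_E6 T19_E6 f (e6m_tor_cls_mem i)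

theorem e6m_tor_TE6_le (f : K ≃+* K) (i : Fin 4) :
    e6m_tor_TE6 f i ≤ twGroup good2_E6 T3_E6 T4_E6 T19_E6 f :=
  e6m_tor_T_le_twGroup good2_E6 T3_E6 T4_E6 T19_E6 f (e6m_tor_cls_mem i)

/-- the obstruction vanishes for `²E₆`. -/
theorem e6m_tor_hv (f : K ≃+* K) (hf2 : ∀ t, (((f : K →+* K)) ^ 2) t = t) :
    ∀ c : Fin chevE6.rank → Kˣ, torusHom chevE6 K (sigC T18_E6 f c) = torusHom chevE6 K c →
      ∃ c', sigC T18_E6 f c' = c' ∧ torusHom chevE6 K c' = torusHom chevE6 K c := by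
  have hρ : ∀ i < chevE6.rank, (fun i => [5, 1, 4, 3, 2, 0].getD i 0)
      ((fun i => [5, 1, 4, 3, 2, 0].getD i 0) i) = i := by decide
  exact vanish_two T18_E6 f (sigC_sigC T18_E6 f hρ hf2)
    (fun z hz => torusHom_ker_pow good1_E6 T17_E6 (n := 3) (by decide) hz)

/-- `H¹` of `²E₆` is generated by the four rank-one tori. -/
theorem e6m_tor_iSup_E6 (f : K ≃+* K) (hf2 : ∀ t, (((f : K →+* K)) ^ 2) t = t) :
    twH good2_E6 T3_E6 T4_E6 T19_E6 f = ⨆ i : Fin 4, e6m_tor_TE6 f i := by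
  rw [e6m_tor_iSup_eq good2_E6 T3_E6 T4_E6 T18_E6 T19_E6 f rhoperm_E6 clsperm_E6 (e6m_tor_hv f hf2)]
  apply le_antisymm
  · refine iSup_le fun S => ?_
    obtain ⟨i, hi⟩ := e6m_tor_cls_surj S
    obtain ⟨S, hS⟩ := S
    subst hi
    exact le_iSup (fun i : Fin 4 => e6m_tor_TE6 f i) i
  · refine iSup_le fun i => ?_
    exact le_iSup (fun S : {S // S ∈ clsE6} => e6m_tor_T good2_E6 T3_E6 T4_E6 T19_E6 f S.2)
      ⟨e6m_tor_cls i, e6m_tor_cls_mem i⟩

/-- the order of the `i`-th rank-one torus is the number of admissible units. -/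
theorem e6m_tor_card_TE6 (f : K ≃+* K) (i : Fin 4) :
    Nat.card (e6m_tor_TE6 f i) = Nat.card (e6m_tor_admU f (e6m_tor_cls i).2) := by
  obtain ⟨c', hc', hL⟩ := e6m_tor_linked i
  exact e6m_tor_card_T good2_E6 T0_E6 T3_E6 T4_E6 T7_E6 T8_E6 T19_E6 T20_E6 f (e6m_tor_cls_mem i) hc' hL

section count

variable [Fintype K] {q : ℕ}

/-- the admissible units of a class of length `1` are the units of the fixed field. -/
theorem e6m_tor_card_admU_one (hq : 2 ≤ q) (hK : Fintype.card K = q ^ 2) {f : K ≃+* K}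
    (hf : ∀ t, f t = t ^ q) : Nat.card (e6m_tor_admU f 1) = q - 1 := by
  rw [← card_units_fixed hq (by norm_num : 0 < 2) hK hf]
  apply Nat.card_congr
  apply Equiv.subtypeEquivRight
  intro a
  rw [e6m_tor_mem_admU, Units.ext_iff]
  unfold Adm
  rw [pow_one]
  rfl

/-- all units are admissible for a class of length `2`. -/
theorem e6m_tor_card_admU_two (hK : Fintype.card K = q ^ 2) {f : K ≃+* K}
    (hf2 : ∀ t, (((f : K →+* K)) ^ 2) t = t) : Nat.card (e6m_tor_admU f 2) = q ^ 2 - 1 := by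
  classical
  have htop : e6m_tor_admU f 2 = ⊤ := by
    rw [eq_top_iff]
    intro a _
    exact hf2 (a : K)
  rw [htop, Subgroup.card_top, Nat.card_eq_fintype_card, Fintype.card_units, hK]

/-- the orders of the four rank-one tori of `²E₆(q)`: `q - 1`, `q - 1`, `q² - 1`, `q² - 1`. -/
theorem e6m_tor_card_E6 (hq : 2 ≤ q) (hK : Fintype.card K = q ^ 2) {f : K ≃+* K}
    (hf : ∀ t, f t = t ^ q) (hf2 : ∀ t, (((f : K →+* K)) ^ 2) t = t) (i : Fin 4) :
    Nat.card (e6m_tor_TE6 f i) = ![q - 1, q - 1, q ^ 2 - 1, q ^ 2 - 1] i := by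
  rw [e6m_tor_card_TE6]
  fin_cases i
  · exact e6m_tor_card_admU_one hq hK hf
  · exact e6m_tor_card_admU_one hq hK hf
  · exact e6m_tor_card_admU_two hK hf2
  · exact e6m_tor_card_admU_two hK hf2

/-- `gcd(3, q + 1) · |H¹| = (q - 1)² (q² - 1)²` for the twisted group of the field automorphism `f`. -/
theorem e6m_tor_card_twH (hq : IsPrimePow q) (hK : Fintype.card K = q ^ 2) {f : K ≃+* K}
    (hf : ∀ t, f t = t ^ q) (hf2 : ∀ t, (((f : K →+* K)) ^ 2) t = t) :
    Nat.gcd 3 (q + 1) * Nat.card (twH good2_E6 T3_E6 T4_E6 T19_E6 f) =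
      (q - 1) * ((q - 1) * ((q ^ 2 - 1) * (q ^ 2 - 1))) := by
  have key := card_diagonal_inf_twGroup good2_E6 T3_E6 T4_E6 T18_E6 T19_E6 f rhoperm_E6 clsperm_E6
    (e6m_tor_hv f hf2)
  rw [Nat.card_congr (kerFixEquivE6 f hf), card_root_E6 hK,
    card_sigFix_E6 hq.two_le hK hf hf2] at key
  exact key

/-- **the defect of the torus of `²E₆(q)`** (level of `GL`): `∏ |T_i| = gcd(3, q + 1) · |H¹|`. -/
theorem e6m_tor_defect (hq : IsPrimePow q) (hK : Fintype.card K = q ^ 2) {f : K ≃+* K}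
    (hf : ∀ t, f t = t ^ q) (hf2 : ∀ t, (((f : K →+* K)) ^ 2) t = t) :
    ∏ i : Fin 4, Nat.card (e6m_tor_TE6 f i) =
      Nat.gcd 3 (q + 1) * Nat.card (twH good2_E6 T3_E6 T4_E6 T19_E6 f) := by
  rw [e6m_tor_card_twH hq hK hf hf2, Fin.prod_univ_four, e6m_tor_card_E6 hq.two_le hK hf hf2,
    e6m_tor_card_E6 hq.two_le hK hf hf2, e6m_tor_card_E6 hq.two_le hK hf hf2,
    e6m_tor_card_E6 hq.two_le hK hf hf2]
  simp only [Matrix.cons_val_zero, Matrix.cons_val_one, Matrix.cons_val_two, Matrix.cons_val_three,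
    Matrix.head_cons, Matrix.tail_cons]
  ring

/-- **the defect of the torus of `²E₆(q)`** inside the twisted group `G¹`: with `T_i := (T_i¹).subgroupOf G¹`,
`∏ |T_i| = gcd(3, q + 1) · |⨆ T_i|`. -/
theorem e6m_tor_defect_sub (hq : IsPrimePow q) (hK : Fintype.card K = q ^ 2) {f : K ≃+* K}
    (hf : ∀ t, f t = t ^ q) (hf2 : ∀ t, (((f : K →+* K)) ^ 2) t = t) :
    ∏ i : Fin 4, Nat.card ((e6m_tor_TE6 f i).subgroupOf (twGroup good2_E6 T3_E6 T4_E6 T19_E6 f)) =
      Nat.gcd 3 (q + 1) *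
        Nat.card (⨆ i : Fin 4, (e6m_tor_TE6 f i).subgroupOf (twGroup good2_E6 T3_E6 T4_E6 T19_E6 f) :
          Subgroup ↥(twGroup good2_E6 T3_E6 T4_E6 T19_E6 f)) := by
  rw [← e6m_tor_subgroupOf_iSup _ _ (e6m_tor_TE6_le f), ← e6m_tor_iSup_E6 f hf2,
    e6m_tor_card_subgroupOf (fun g hg => ((mem_twH good2_E6 T3_E6 T4_E6 T19_E6 f).mp hg).2),
    ← e6m_tor_defect hq hK hf hf2]
  exact Finset.prod_congr rfl fun i _ => e6m_tor_card_subgroupOf (e6m_tor_TE6_le f i)

end count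

end E6

end Cfsg.Agent.E6M
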