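import Mathlib
import Cfsg.Agent.E6M.ConcDefs
import Cfsg.Agent.E6M.TwTor

set_option autoImplicit false
set_option linter.unusedSectionVars false
set_option linter.unusedVariables false

/-!
# S2108: the torus of the `BN`-lifting data of `²E₆(q)` (helper9)

`(e6D f).H = ⨆ T_i` is the full torus `H¹` (helper8's `e6m_tor_iSup_E6`), and the defect of the torus is `gcd(3, q + 1)`
(helper8's `e6m_tor_defect_sub`).  Prefix `e6m_concH_`.
-/

namespace Cfsg.Agent.E6M

open Cfsg Cfsg.Lie Cfsg.Agent.Helper7.Chev Cfsg.Agent.CtRecM Cfsg.Agent.CtRecT Cfsg.Agent.F4M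

variable {K : Type*} [Field K] [Finite K] (f : K ≃+* K)

/-- the rank-one torus `T_i` is helper8's torus of the class `i`. -/
theorem e6m_concH_T (i : Fin 4) : ((e6D f).R i).T = (e6m_tor_TE6 f i).subgroupOf (e6G f) := by
  ext g
  rw [mem_e6D_T, Subgroup.mem_subgroupOf]
  unfold e6m_tor_TE6
  rw [e6m_tor_mem_T]
  rfl

/-- `H = ⨆ T_i` is the full torus `H¹`. -/
theorem e6m_concH_eq (hf2 : ∀ t, (((f : K →+* K)) ^ 2) t = t) : (e6D f).H = (e6H f).subgroupOf (e6G f) := by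
  unfold BnDat.H
  have h1 : ∀ i, ((e6D f).R i).T = (e6m_tor_TE6 f i).subgroupOf (e6G f) := e6m_concH_T f
  simp only [h1]
  rw [← e6m_tor_subgroupOf_iSup _ _ (e6m_tor_TE6_le f), ← e6m_tor_iSup_E6 f hf2]

/-- the defect of the torus. -/
theorem e6m_concH_defect [Fintype K] {q : ℕ} (hq : IsPrimePow q) (hK : Fintype.card K = q ^ 2)
    (hf : ∀ t, f t = t ^ q) (hf2 : ∀ t, (((f : K →+* K)) ^ 2) t = t) :
    ∏ i, Nat.card ((e6D f).R i).T = Nat.gcd 3 (q + 1) * Nat.card (e6D f).H := by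
  unfold BnDat.H
  have h1 : ∀ i, ((e6D f).R i).T = (e6m_tor_TE6 f i).subgroupOf (e6G f) := e6m_concH_T f
  simp only [h1]
  exact e6m_tor_defect_sub hq hK hf hf2

end Cfsg.Agent.E6M
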