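import Mathlib
import Cfsg.Agent.E6M.ConcDefs
import Cfsg.Agent.E6M.TwTor

set_option autoImplicit false
set_option linter.unusedSectionVars false
set_option linter.unusedVariables false

/-!
# S2108, package P11, third part (file `Cfsg/Agent/E6M/ConcH2.lean`): the torus of the concrete datum `e6D f` of `E6M/ConcDefs.lean` (v2)

* `e6m_concH2_T f i` : `((e6D f).R i).T = (T_i¹).subgroupOf G¹` (`T_i¹ = e6m_tor_TE6 f i` of `E6M/TwTor.lean`);
* `e6m_concH2_eq` : `(e6D f).H = (e6H f).subgroupOf (e6G f)`;  `e6m_concH2_mem_iff` : `g ∈ (e6D f).H ↔ ↑g` diagonal;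
* `e6m_concH2_defect` : `∏ |T_i| = gcd(3, q + 1) · |(e6D f).H|` (the field `defect` of `E6Full`).
Prefix `e6m_concH2_`.
-/

namespace Cfsg.Agent.E6M

open Cfsg Cfsg.Lie Matrix Cfsg.Agent.Helper7.Chev Cfsg.Agent.F4M

variable {K : Type*} [Field K] [Finite K] (f : K ≃+* K)

/-- the rank-one torus of `e6D f` at the node `i` is `(T_i¹).subgroupOf G¹`. -/
theorem e6m_concH2_T (i : Fin 4) : ((e6D f).R i).T = (e6m_tor_TE6 f i).subgroupOf (e6G f) := by
  ext g
  rw [mem_e6D_T, Subgroup.mem_subgroupOf, e6m_tor_mem_T]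
  fin_cases i <;> exact Iff.rfl

/-- **`H = H¹`** for `e6D f`. -/
theorem e6m_concH2_eq (hf2 : ∀ t, (((f : K →+* K)) ^ 2) t = t) :
    (e6D f).H = (e6H f).subgroupOf (e6G f) := by
  unfold BnDat.H
  change _ = (twH good2_E6 T3_E6 T4_E6 T19_E6 f).subgroupOf (e6G f)
  rw [e6m_tor_iSup_E6 f hf2, e6m_tor_subgroupOf_iSup _ _ (e6m_tor_TE6_le f)]
  exact iSup_congr (e6m_concH2_T f)

/-- the elements of `(e6D f).H` are the diagonal elements of `G¹`. -/
theorem e6m_concH2_mem_iff (hf2 : ∀ t, (((f : K →+* K)) ^ 2) t = t) (g : ↥(e6G f)) :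
    g ∈ (e6D f).H ↔ (g : GL chevE6.Idx K) ∈ chevE6.diagonalSubgroup K := by
  rw [e6m_concH2_eq f hf2, Subgroup.mem_subgroupOf]
  change (g : GL chevE6.Idx K) ∈ twH good2_E6 T3_E6 T4_E6 T19_E6 f ↔ _
  rw [mem_twH]
  exact ⟨fun h => h.1, fun h => ⟨h, g.2⟩⟩

/-- **the defect of the torus of `e6D f`** (the field `defect` of `E6Full` with `d = gcd(3, q + 1)`). -/
theorem e6m_concH2_defect [Fintype K] {q : ℕ} (hq : IsPrimePow q) (hK : Fintype.card K = q ^ 2)
    (hf : ∀ t, f t = t ^ q) (hf2 : ∀ t, (((f : K →+* K)) ^ 2) t = t) :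
    ∏ i, Nat.card ((e6D f).R i).T = Nat.gcd 3 (q + 1) * Nat.card (e6D f).H := by
  unfold BnDat.H
  have h := e6m_tor_defect_sub hq hK hf hf2
  have e : ∀ i, ((e6D f).R i).T = (e6m_tor_TE6 f i).subgroupOf (e6G f) := e6m_concH2_T f
  simp only [e]
  exact h

end Cfsg.Agent.E6M
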