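import Mathlib
import Cfsg.Agent.E6M.ConcDefs
import Cfsg.Agent.E6M.ConcH2
import Cfsg.Agent.E6M.ConcCox
import Cfsg.Agent.CtRecT.TAmbDich
import Cfsg.Agent.Helper7.ChevTwU5
import Cfsg.Agent.Helper7.ChevUnique

set_option autoImplicit false
set_option linter.unusedSectionVars false
set_option linter.unusedVariables false

/-!
# S2108, P8-C: the fields `X_le`, `Uc_le`, `U_inf_H`, `B_inf_N` of `BnDat.Ok (e6D f) CoxeterMatrix.F₄`, and `U` is a `p`-group

All statements are the fields verbatim for `D := e6D f` (helper9's `E6M/ConcDefs.lean`).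
-/

namespace Cfsg.Agent.E6M

open Cfsg Cfsg.Lie Cfsg.Agent.Helper7 Cfsg.Agent.Helper7.Chev Cfsg.Agent.CtRecM Cfsg.Agent.CtRecT
  Cfsg.Agent.F4M

variable {K : Type*} [Field K] [Finite K] (f : K ≃+* K)

/-- the field `X_le`. -/
theorem e6m_okC_X_le (i : Fin 4) : ((e6D f).R i).X ≤ (e6D f).U := by
  intro g hg
  rw [mem_e6D_X'] at hg
  rw [e6D_U, Subgroup.mem_subgroupOf]
  exact twX_le_twU good2_E6 T0_E6 T3_E6 T4_E6 T19_E6 f (e6mCls_mem i) hg

/-- the field `Uc_le`. -/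
theorem e6m_okC_Uc_le (i : Fin 4) : (e6D f).Uc i ≤ (e6D f).U := by
  intro g hg
  rw [e6D_Uc, Subgroup.mem_subgroupOf] at hg
  rw [e6D_U, Subgroup.mem_subgroupOf]
  have hg' := Subgroup.mem_inf.mp hg
  refine (mem_twU good2_E6 T3_E6 T4_E6 T19_E6 f).mpr ⟨?_, hg'.2⟩
  have hle : Subgroup.closure (upGenS chevE6 K (InCls chevE6 e6Rho (e6Cls i))) ≤
      chevE6.posUnipotent K := by
    unfold ChevalleyDatum.posUnipotent
    apply Subgroup.closure_mono
    rintro x ⟨s, t, hs, _, hx⟩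
    exact ⟨s, t, hs, hx⟩
  exact hle hg'.1

/-- `H = ⨆ T_i` lies in `H¹`. -/
theorem e6m_okC_H_le : (e6D f).H ≤ (e6H f).subgroupOf (e6G f) := by
  unfold BnDat.H
  apply iSup_le
  intro i g hg
  rw [e6m_concH2_T, Subgroup.mem_subgroupOf] at hg
  rw [Subgroup.mem_subgroupOf]
  exact e6m_tor_T_le_twH good2_E6 T3_E6 T4_E6 T19_E6 f (e6m_tor_cls_mem i) hg

/-- the field `U_inf_H`. -/
theorem e6m_okC_U_inf_H : ∀ u ∈ (e6D f).U, u ∈ (e6D f).H → u = 1 := by
  intro u hu hh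
  rw [e6D_U, Subgroup.mem_subgroupOf] at hu
  have hh' := e6m_okC_H_le f hh
  rw [Subgroup.mem_subgroupOf] at hh'
  apply Subtype.ext
  exact tadi_U_inf_H_gen good2_E6 T0_E6 T3_E6 T4_E6 T19_E6 f hu hh'

/-- the field `B_inf_N`. -/
theorem e6m_okC_B_inf_N : ∀ u ∈ (e6D f).U, ∀ h ∈ (e6D f).H, u * h ∈ (e6D f).N → u = 1 := by
  intro u hu h hh hn
  rw [e6D_U, Subgroup.mem_subgroupOf] at hu
  have hh' := e6m_okC_H_le f hh
  rw [Subgroup.mem_subgroupOf] at hh'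
  have hn' := e6m_concCox_N_le f (e6m_okC_H_le f) hn
  rw [Subgroup.mem_subgroupOf] at hn'
  apply Subtype.ext
  exact tadi_B_inf_N_gen good2_E6 T0_E6 T3_E6 T4_E6 T6_E6 T8_E6 T9_E6 T19_E6 f hu hh' hn'

/-- `²E₆(q)` is the twisted group of the `q`-Frobenius. -/
theorem e6m_okC_tw_eq {q : ℕ} (hf : ∀ t, f t = t ^ q) (hf2 : ∀ t, (((f : K →+* K)) ^ 2) t = t) :
    twistedE6 K q = e6G f := by
  change twistedE6 K q = twGroup good2_E6 T3_E6 T4_E6 T19_E6 f
  rw [twGroup_eq_genSubgroup, ← e6Words_eq f hf hf2]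
  rfl

/-- the order of `U`. -/
theorem e6m_okC_card_U [Fintype K] {q : ℕ} (hq : IsPrimePow q) (hK : Fintype.card K = q ^ 2)
    (hf : ∀ t, f t = t ^ q) (hf2 : ∀ t, (((f : K →+* K)) ^ 2) t = t) :
    Nat.card (e6D f).U = q ^ 36 := by
  have hc : Nat.card ↥(e6U f) = q ^ 36 := by
    have h := twE6_card_U hq hK
    rw [e6m_okC_tw_eq f hf hf2] at h
    exact h
  rw [← hc, e6D_U]
  have hle : e6U f ≤ e6G f := inf_le_right
  exact Nat.card_congr (Subgroup.subgroupOfEquivOfLe hle).toEquiv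

/-- `U` is a `p`-group (in terms of `q`). -/
theorem e6m_okC_hU_q [Fintype K] {q : ℕ} (hq : IsPrimePow q) (hK : Fintype.card K = q ^ 2)
    (hf : ∀ t, f t = t ^ q) (hf2 : ∀ t, (((f : K →+* K)) ^ 2) t = t) {p : ℕ} (hp : p.Prime)
    (hpq : p ∣ q) : IsPGroup p (e6D f).U := by
  have hc := e6m_okC_card_U f hq hK hf hf2
  obtain ⟨p', k, hp', hk, rfl⟩ := hq
  have hp'n : p'.Prime := Nat.prime_iff.mpr hp'
  have e : p = p' := (Nat.prime_dvd_prime_iff_eq hp hp'n).mp (hp.dvd_of_dvd_pow hpq)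
  subst e
  rw [← pow_mul] at hc
  exact IsPGroup.of_card hc

/-- `U` is a `p`-group, `p` the characteristic. -/
theorem e6m_okC_hU {p : ℕ} [Fact p.Prime] (hp : (p : K) = 0) : IsPGroup p (e6D f).U := by
  classical
  have : Fintype K := Fintype.ofFinite K
  have hd : ringChar K ∣ p := (ringChar.spec K p).mp hp
  have h1 : ringChar K ≠ 1 := CharP.ringChar_ne_one
  have he : ringChar K = p := ((Nat.dvd_prime Fact.out).mp hd).resolve_left h1
  have hch : CharP K p := he ▸ ringChar.charP K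
  obtain ⟨n, -, hn⟩ := FiniteField.card K p
  have hpos : IsPGroup p ↥(chevE6.posUnipotent K) := by
    apply IsPGroup.of_card (n := (n : ℕ) * (chevE6.nroots / 2))
    rw [card_posUnipotent good2_E6 T0_E6 T3_E6 T4_E6 T7_E6 T8_E6, hn, ← pow_mul]
  have hU1 : IsPGroup p ↥(e6U f) := hpos.to_le inf_le_left
  rw [e6D_U]
  exact hU1.comap_subtype

end Cfsg.Agent.E6M
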