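import Mathlib
import Cfsg.Agent.CtRecT.TAmbDich
import Cfsg.Agent.Helper7.ChevTwE6
import Cfsg.Agent.Helper7.ChevTwO1
import Cfsg.Agent.Helper7.ChevSub2

set_option autoImplicit false
set_option linter.unusedSectionVars false
set_option linter.unusedVariables false

/-!
# S2108, package P8 (helper6), `GL`-level: the facts behind the fields of `BnDat.Ok` that do not involve braids or the Coxeter map

Generic in the twisted datum `(D, ρ, cls, f)`: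

* `e6m_okG_char_exists`, `e6m_okG_char_sigma`: an element `h` of the diagonal subgroup acts linearly on every root subgroup, by a scalar
  `χ` on `X_r` and by `χ⁻¹` on `X_{-r}`; if `h` is fixed by the twisting automorphism, the scalar of `σ r` is `f χ`;
* `e6m_okG_tor_act`: an element `h` of `H¹` acts on the root elements of a class `S` by `x_S(u) ↦ x_S(a u)`, `x_{-S}(u) ↦ x_{-S}(a⁻¹ u)` with
  an admissible `a ≠ 0` (this is `H_X`, `H_Y`);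
* `e6m_okG_n_T`: `n_S h n_S⁻¹ h⁻¹ = h_S(a)⁻¹` (this is `n_T`);
* `e6m_okG_twH_comm`: `H¹` is commutative (`T_comm`).

The instances for `²E₆`: `e6m_okG_dec`, `e6m_okG_n_conj`, `e6m_okG_H_U`, `e6m_okG_dich`, `e6m_okG_U_inf_H`, `e6m_okG_B_inf_N`,
`e6m_okG_tor_act_E6`, `e6m_okG_n_T_E6`, `e6m_okG_comm_E6`.
-/

namespace Cfsg.Agent.E6M

open Cfsg Cfsg.Lie Matrix Cfsg.Agent.Helper7.Chev Cfsg.Agent.CtRecT

variable {D : ChevalleyDatum} {K : Type*} [Field K]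

section tw

variable (hG : Good2 D) (hT : T0 D) (h3 : (tabOf D).T3) (h4 : (tabOf D).T4 60) (h5 : (tabOf D).T5)
  (h6 : (tabOf D).T6) (h7 : (tabOf D).T7) (h8 : (tabOf D).T8) (h9 : (tabOf D).T9)
  {ρ ρ' σ σ' : ℕ → ℕ} {ε : ℕ → ℤ} (h18 : T18 D ρ ρ' σ σ' ε) {cls : List (ℕ × ℕ)}
  (h19 : T19 D ρ σ cls) (h20 : (tabOf D).T20 ρ cls) (f : K ≃+* K)

/-- `h` acts on the root subgroup `X_r` by the scalar `χ`. -/
def e6m_okG_IsChar (h : GL D.Idx K) (r : ℕ) (χ : K) : Prop :=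
  ∀ (hr : r < D.nroots) (t : K), h * xGL hG.toGood1 hr t * h⁻¹ = xGL hG.toGood1 hr (χ * t)

/-- an element of the diagonal subgroup acts by `χ` on `X_r` and by `χ⁻¹` on `X_{-r}`. -/
theorem e6m_okG_char_exists {g : GL D.Idx K} (hg : g ∈ D.diagonalSubgroup K) {r : ℕ}
    (hr : r < D.nroots) :
    ∃ χ : K, χ ≠ 0 ∧ e6m_okG_IsChar hG g r χ ∧ e6m_okG_IsChar hG g (D.neg r) χ⁻¹ := by
  have hG1 := hG.toGood1
  have hnr := hG1.neg_lt hr
  unfold ChevalleyDatum.diagonalSubgroup at hg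
  induction hg using Subgroup.closure_induction with
  | mem x hx =>
    obtain ⟨s, c, hs, hc, hx⟩ := hx
    refine ⟨c ^ (tabOf D).pairing s r, zpow_ne_zero _ hc, fun _ t => ?_, fun _ t => ?_⟩
    · rw [mul_inv_eq_iff_eq_mul]
      apply Units.ext
      rw [Units.val_mul, Units.val_mul, hx, xGL_coe, xGL_coe]
      exact hMat_mul_x hG hs hc hr t
    · rw [mul_inv_eq_iff_eq_mul]
      apply Units.ext
      rw [Units.val_mul, Units.val_mul, hx, xGL_coe, xGL_coe, ← _root_.zpow_neg,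
        ← pairing_neg_right hG1 s hr]
      exact hMat_mul_x hG hs hc hnr t
  | one =>
    exact ⟨1, one_ne_zero, fun _ t => by rw [one_mul, one_mul, inv_one, mul_one],
      fun _ t => by simp⟩
  | mul a b _ _ ha hb =>
    obtain ⟨χ₁, h₁, e₁, e₁'⟩ := ha
    obtain ⟨χ₂, h₂, e₂, e₂'⟩ := hb
    refine ⟨χ₁ * χ₂, mul_ne_zero h₁ h₂, fun hr' t => ?_, fun hr' t => ?_⟩
    · have : a * b * xGL hG1 hr' t * (a * b)⁻¹ = a * (b * xGL hG1 hr' t * b⁻¹) * a⁻¹ := by group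
      rw [this, e₂, e₁, mul_assoc]
    · have : a * b * xGL hG1 hr' t * (a * b)⁻¹ = a * (b * xGL hG1 hr' t * b⁻¹) * a⁻¹ := by group
      rw [this, e₂', e₁', mul_inv, mul_assoc]
  | inv a _ ha =>
    obtain ⟨χ₁, h₁, e₁, e₁'⟩ := ha
    refine ⟨χ₁⁻¹, inv_ne_zero h₁, fun hr' t => ?_, fun hr' t => ?_⟩
    · have := e₁ hr' (χ₁⁻¹ * t)
      rw [← mul_assoc, mul_inv_cancel₀ h₁, one_mul] at this
      rw [← this]
      group
    · have := e₁' hr' (χ₁⁻¹⁻¹ * t)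
      rw [← mul_assoc, inv_inv, inv_mul_cancel₀ h₁, one_mul] at this
      rw [inv_inv, ← this]
      group

include h18 in
/-- the scalar of `σ r` for a fixed point of the twisting automorphism. -/
theorem e6m_okG_char_sigma {h : GL D.Idx K} (hfix : twAut h18 f h = h) {r : ℕ} (hr : r < D.nroots)
    {χ : K} (hχ : e6m_okG_IsChar hG h r χ) : e6m_okG_IsChar hG h (σ r) (f χ) := by
  have hG1 := hG.toGood1
  intro hs t
  have hε : (((ε r : ℤ) : K)) * (((ε r : ℤ) : K)) = 1 := by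
    rcases (h18.eps r hr).1 with h1 | h1 <;> rw [h1] <;> simp
  have ht : t = ((ε r : ℤ) : K) * f (f.symm (((ε r : ℤ) : K) * t)) := by
    rw [RingEquiv.apply_symm_apply, ← mul_assoc, hε, one_mul]
  have e := congrArg (twAut h18 f) (hχ hr (f.symm (((ε r : ℤ) : K) * t)))
  rw [map_mul, map_mul, map_inv, hfix, twAut_xGL hG1 h18 f hr, twAut_xGL hG1 h18 f hr, ← ht,
    map_mul, RingEquiv.apply_symm_apply] at e
  rw [e]
  congr 1
  rw [← mul_assoc, ← mul_assoc, mul_comm (((ε r : ℤ) : K)) (f χ), mul_assoc (f χ), hε, mul_one]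

include hT h8 in
/-- the scalar is determined. -/
theorem e6m_okG_char_unique {h : GL D.Idx K} {r : ℕ} (hr : r < D.nroots) {χ χ' : K}
    (hχ : e6m_okG_IsChar hG h r χ) (hχ' : e6m_okG_IsChar hG h r χ') : χ = χ' := by
  have e := (hχ hr 1).symm.trans (hχ' hr 1)
  have := xGL_injective hG hT h8 hr e
  rwa [mul_one, mul_one] at this

include hT h8 h18 in
/-- the scalars of an element of `H¹` on the roots of a class. -/
theorem e6m_okG_char_cls {c : ℕ × ℕ} (hc : c ∈ cls) {h : GL D.Idx K}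
    (hh : h ∈ twH hG h3 h4 h19 f) :
    ∃ a : K, a ≠ 0 ∧ Adm f c.2 a ∧ ∀ j < c.2,
      e6m_okG_IsChar hG h (clsRoot D ρ c.1 j) ((((f : K →+* K)) ^ j) a) ∧
      e6m_okG_IsChar hG h (D.neg (clsRoot D ρ c.1 j)) ((((f : K →+* K)) ^ j) a)⁻¹ := by
  have hG1 := hG.toGood1
  obtain ⟨hm, horb, hlt⟩ := h19.orbit c hc
  have hd : h ∈ D.diagonalSubgroup K := ((mem_twH hG h3 h4 h19 f).1 hh).1
  have hfix : twAut h18 f h = h := twGroup_le_twFix hG h3 h4 h18 h19 f ((mem_twH hG h3 h4 h19 f).1 hh).2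
  have hp0 : clsRoot D ρ c.1 0 < D.nroots := hG1.simple_lt (hlt 0 hm)
  obtain ⟨a, ha, e0, e0'⟩ := e6m_okG_char_exists hG hd hp0
  have hstep : ∀ j, j < c.2 →
      e6m_okG_IsChar hG h (clsRoot D ρ c.1 j) ((((f : K →+* K)) ^ j) a) ∧
      e6m_okG_IsChar hG h (D.neg (clsRoot D ρ c.1 j)) ((((f : K →+* K)) ^ j) a)⁻¹ := by
    intro j
    induction j with
    | zero => intro _; exact ⟨e0, e0'⟩
    | succ j ih =>
      intro hj
      have hj' : j < c.2 := by omega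
      obtain ⟨i1, i2⟩ := ih hj'
      have hp : clsRoot D ρ c.1 j < D.nroots := hG1.simple_lt (hlt j hj')
      have hs : σ (clsRoot D ρ c.1 j) = clsRoot D ρ c.1 (j + 1) := sigma_clsRoot h18 (hlt j hj')
      have hsn : σ (D.neg (clsRoot D ρ c.1 j)) = D.neg (clsRoot D ρ c.1 (j + 1)) := by
        rw [(h18.eps _ hp).2.2, hs]
      have k1 := e6m_okG_char_sigma hG h18 f hfix hp i1
      have k2 := e6m_okG_char_sigma hG h18 f hfix (hG1.neg_lt hp) i2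
      rw [hs] at k1
      rw [hsn, map_inv₀] at k2
      have e : (((f : K →+* K)) ^ (j + 1)) a = f ((((f : K →+* K)) ^ j) a) := by
        rw [pow_succ']; rfl
      rw [e]
      exact ⟨k1, k2⟩
  refine ⟨a, ha, ?_, hstep⟩
  -- admissibility
  obtain ⟨m', hm'⟩ : ∃ m', c.2 = m' + 1 := ⟨c.2 - 1, by omega⟩
  have hlast := (hstep m' (by omega)).1
  have hp : clsRoot D ρ c.1 m' < D.nroots := hG1.simple_lt (hlt m' (by omega))
  have k1 := e6m_okG_char_sigma hG h18 f hfix hp hlast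
  have hs : σ (clsRoot D ρ c.1 m') = clsRoot D ρ c.1 0 := by
    rw [sigma_clsRoot h18 (hlt m' (by omega))]
    unfold clsRoot
    rw [← hm', horb]
    rfl
  rw [hs] at k1
  have := e6m_okG_char_unique hG hT h8 hp0 k1 e0
  unfold Adm
  rw [hm', pow_succ']
  exact this

/-- conjugation of a product of a list. -/
theorem e6m_okG_conj_list_prod {G : Type*} [Group G] (h : G) (L : List G) :
    h * L.prod * h⁻¹ = (L.map fun x => h * x * h⁻¹).prod := by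
  induction L with
  | nil => simp
  | cons x L ih =>
    rw [List.prod_cons, List.map_cons, List.prod_cons, ← ih]
    group

include hT h8 h18 in
/-- **`H_X`, `H_Y`**: an element of `H¹` acts on `x_S(u)` by `u ↦ a u` and on `x_{-S}(u)` by `u ↦ a⁻¹ u`, `a` admissible. -/
theorem e6m_okG_tor_act {c : ℕ × ℕ} (hc : c ∈ cls) {h : GL D.Idx K}
    (hh : h ∈ twH hG h3 h4 h19 f) :
    ∃ a : K, a ≠ 0 ∧ Adm f c.2 a ∧
      (∀ u : K, h * clsHom hG h3 h4 h19 f hc (upperSL u) * h⁻¹ =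
        clsHom hG h3 h4 h19 f hc (upperSL (a * u))) ∧
      (∀ u : K, h * clsHom hG h3 h4 h19 f hc (lowerSL u) * h⁻¹ =
        clsHom hG h3 h4 h19 f hc (lowerSL (a⁻¹ * u))) := by
  have hG1 := hG.toGood1
  obtain ⟨hm, horb, hlt⟩ := h19.orbit c hc
  obtain ⟨a, ha, hadm, hch⟩ := e6m_okG_char_cls hG hT h3 h4 h8 h18 h19 f hc hh
  refine ⟨a, ha, hadm, fun u => ?_, fun u => ?_⟩
  · rw [clsHom_apply hG h3 h4 h19 f hc (upperSL u), clsHom_apply hG h3 h4 h19 f hc (upperSL (a * u)),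
      e6m_okG_conj_list_prod, List.map_map]
    congr 1
    apply List.map_congr_left
    intro k hk
    rw [List.mem_range] at hk
    simp only [Function.comp_apply]
    have hp' := hG1.simple_lt (hlt k hk)
    have hF : ∀ v : K, clsFactor hG1 ρ f c.1 k (upperSL v) =
        xGL hG1 hp' ((((f : K →+* K)) ^ k) v) := by
      intro v
      unfold clsFactor
      rw [MonoidHom.comp_apply, phiS_of_lt hG1 (hlt k hk), map_upperSL, phiHom_upper']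
    rw [hF, hF, map_mul]
    exact (hch k hk).1 hp' _
  · rw [clsHom_apply hG h3 h4 h19 f hc (lowerSL u), clsHom_apply hG h3 h4 h19 f hc (lowerSL (a⁻¹ * u)),
      e6m_okG_conj_list_prod, List.map_map]
    congr 1
    apply List.map_congr_left
    intro k hk
    rw [List.mem_range] at hk
    simp only [Function.comp_apply]
    have hp' := hG1.simple_lt (hlt k hk)
    have hF : ∀ v : K, clsFactor hG1 ρ f c.1 k (lowerSL v) =
        xGL hG1 (hG1.neg_lt hp') ((((f : K →+* K)) ^ k) v) := by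
      intro v
      unfold clsFactor
      rw [MonoidHom.comp_apply, phiS_of_lt hG1 (hlt k hk), map_lowerSL, phiHom_lower']
    rw [hF, hF, map_mul, map_inv₀]
    exact (hch k hk).2 (hG1.neg_lt hp') _

include hT h8 h18 in
/-- **`n_T`**: `n_S h n_S⁻¹ h⁻¹ = h_S(a)⁻¹` for `h ∈ H¹`, with `a` admissible. -/
theorem e6m_okG_n_T {c : ℕ × ℕ} (hc : c ∈ cls) {h : GL D.Idx K}
    (hh : h ∈ twH hG h3 h4 h19 f) :
    ∃ (a : K) (ha : a ≠ 0), Adm f c.2 a ∧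
      clsHom hG h3 h4 h19 f hc antiSL * h * (clsHom hG h3 h4 h19 f hc antiSL)⁻¹ * h⁻¹ =
        (clsHom hG h3 h4 h19 f hc (diagSL a ha))⁻¹ := by
  obtain ⟨a, ha, hadm, eu, el⟩ := e6m_okG_tor_act hG hT h3 h4 h8 h18 h19 f hc hh
  refine ⟨a, ha, hadm, ?_⟩
  have e1 : h * clsHom hG h3 h4 h19 f hc antiSL * h⁻¹ =
      clsHom hG h3 h4 h19 f hc (diagSL a ha) * clsHom hG h3 h4 h19 f hc antiSL := by
    rw [← map_mul, diagSL_mul_antiSL ha, map_mul, map_mul]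
    conv_lhs => rw [antiSL_eq, map_mul, map_mul]
    have e : ∀ A B C : GL D.Idx K, h * (A * B * C) * h⁻¹ =
        (h * A * h⁻¹) * (h * B * h⁻¹) * (h * C * h⁻¹) := by
      intro A B C; group
    rw [e, eu, el, mul_one, mul_neg, mul_one]
  have e2 : clsHom hG h3 h4 h19 f hc antiSL * h * (clsHom hG h3 h4 h19 f hc antiSL)⁻¹ * h⁻¹ =
      clsHom hG h3 h4 h19 f hc antiSL * (h * clsHom hG h3 h4 h19 f hc antiSL * h⁻¹)⁻¹ := by
    group
  rw [e2, e1]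
  group

/-- **`T_comm`**: `H¹` is commutative. -/
theorem e6m_okG_twH_comm {s t : GL D.Idx K} (hs : s ∈ twH hG h3 h4 h19 f)
    (ht : t ∈ twH hG h3 h4 h19 f) : s * t = t * s := by
  have h1 := ((mem_twH hG h3 h4 h19 f).1 hs).1
  have h2 := ((mem_twH hG h3 h4 h19 f).1 ht).1
  exact diagonalSubgroup_comm hG.toGood1 s h1 t h2

end tw

/-! ### the instances for `²E₆` -/

section e6

variable (f : K ≃+* K)

/-- `U¹ ∩ H¹ = 1`. -/
theorem e6m_okG_U_inf_H {u : GL chevE6.Idx K} (hu : u ∈ twU good2_E6 T3_E6 T4_E6 T19_E6 f)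
    (hh : u ∈ twH good2_E6 T3_E6 T4_E6 T19_E6 f) : u = 1 :=
  tadi_U_inf_H_gen good2_E6 T0_E6 T3_E6 T4_E6 T19_E6 f hu hh

/-- `U¹ H¹ ∩ N¹ ⊆ H¹`. -/
theorem e6m_okG_B_inf_N {u h : GL chevE6.Idx K} (hu : u ∈ twU good2_E6 T3_E6 T4_E6 T19_E6 f)
    (hh : h ∈ twH good2_E6 T3_E6 T4_E6 T19_E6 f) (hn : u * h ∈ twN good2_E6 T3_E6 T4_E6 T19_E6 f) :
    u = 1 :=
  tadi_B_inf_N_gen good2_E6 T0_E6 T3_E6 T4_E6 T6_E6 T8_E6 T9_E6 T19_E6 f hu hh hn

/-- **`dec`**: `U¹ = U_S X_S`. -/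
theorem e6m_okG_dec {c : ℕ × ℕ} (hc : c ∈ clsE6) {u : GL chevE6.Idx K}
    (hu : u ∈ twU good2_E6 T3_E6 T4_E6 T19_E6 f) :
    ∃ u' ∈ Subgroup.closure
        (upGenS chevE6 K (InCls chevE6 (fun i => [5, 1, 4, 3, 2, 0].getD i 0) c)),
      u' ∈ twGroup good2_E6 T3_E6 T4_E6 T19_E6 f ∧ ∃ t : K, Adm f c.2 t ∧
        u = u' * clsHom good2_E6 T3_E6 T4_E6 T19_E6 f hc (upperSL t) := by
  obtain ⟨u', hu', hu'G, t, ht, hb', hhb, rfl⟩ :=
    twB_decomp_cls good2_E6 T0_E6 T3_E6 T4_E6 T5_E6 T7_E6 T8_E6 T18_E6 T19_E6 T20_E6 f hc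
      (twU_le_twB good2_E6 T3_E6 T4_E6 T19_E6 f hu)
  refine ⟨u', hu', hu'G, t, ht, ?_⟩
  have hx : clsHom good2_E6 T3_E6 T4_E6 T19_E6 f hc (upperSL t) ∈
      twU good2_E6 T3_E6 T4_E6 T19_E6 f := by
    rw [mem_twU]
    exact ⟨clsHom_upper_mem good2_E6 T0_E6 T3_E6 T4_E6 T19_E6 f hc t,
      upper_mem_twGroup good2_E6 T3_E6 T4_E6 T19_E6 f hc ht⟩
  have hu'U : u' ∈ twU good2_E6 T3_E6 T4_E6 T19_E6 f := by
    rw [mem_twU]
    exact ⟨upS_le_pos _ hu', hu'G⟩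
  have h1 : hb' ∈ twU good2_E6 T3_E6 T4_E6 T19_E6 f := by
    have e : hb' = (u' * clsHom good2_E6 T3_E6 T4_E6 T19_E6 f hc (upperSL t))⁻¹ *
        (u' * clsHom good2_E6 T3_E6 T4_E6 T19_E6 f hc (upperSL t) * hb') := by group
    rw [e]
    exact mul_mem (inv_mem (mul_mem hu'U hx)) hu
  rw [e6m_okG_U_inf_H f h1 hhb, mul_one]

/-- **`n_Uc`**: `n_S U_S n_S⁻¹ ≤ U¹`. -/
theorem e6m_okG_n_conj {c : ℕ × ℕ} (hc : c ∈ clsE6) {u' : GL chevE6.Idx K}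
    (hu' : u' ∈ Subgroup.closure
      (upGenS chevE6 K (InCls chevE6 (fun i => [5, 1, 4, 3, 2, 0].getD i 0) c)))
    (hu'G : u' ∈ twGroup good2_E6 T3_E6 T4_E6 T19_E6 f) :
    clsHom good2_E6 T3_E6 T4_E6 T19_E6 f hc antiSL * u' *
      (clsHom good2_E6 T3_E6 T4_E6 T19_E6 f hc antiSL)⁻¹ ∈ twU good2_E6 T3_E6 T4_E6 T19_E6 f :=
  ncls_conj_mem_twU good2_E6 T0_E6 T3_E6 T4_E6 T6_E6 T19_E6 f hc hu' hu'G

/-- **`H_U`**: `H¹` normalizes `U¹`. -/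
theorem e6m_okG_H_U {h u : GL chevE6.Idx K} (hh : h ∈ twH good2_E6 T3_E6 T4_E6 T19_E6 f)
    (hu : u ∈ twU good2_E6 T3_E6 T4_E6 T19_E6 f) :
    h * u * h⁻¹ ∈ twU good2_E6 T3_E6 T4_E6 T19_E6 f :=
  (Subgroup.mem_set_normalizer_iff.mp (twH_le_normalizer good2_E6 T3_E6 T4_E6 T19_E6 f hh) u).mp hu

/-- **`dich`**: the dichotomy for the elements of `N¹`. -/
theorem e6m_okG_dich {c : ℕ × ℕ} (hc : c ∈ clsE6) {n : GL chevE6.Idx K}
    (hn : n ∈ twN good2_E6 T3_E6 T4_E6 T19_E6 f) :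
    (∀ t, Adm f c.2 t → n⁻¹ * clsHom good2_E6 T3_E6 T4_E6 T19_E6 f hc (upperSL t) * n ∈
      twU good2_E6 T3_E6 T4_E6 T19_E6 f) ∨
    (∀ t, Adm f c.2 t → ((clsHom good2_E6 T3_E6 T4_E6 T19_E6 f hc antiSL)⁻¹ * n)⁻¹ *
      clsHom good2_E6 T3_E6 T4_E6 T19_E6 f hc (upperSL t) *
        ((clsHom good2_E6 T3_E6 T4_E6 T19_E6 f hc antiSL)⁻¹ * n) ∈ twU good2_E6 T3_E6 T4_E6 T19_E6 f) :=
  tadi_dich_gen good2_E6 T0_E6 T3_E6 T4_E6 T5_E6 T6_E6 T7_E6 T8_E6 T9_E6 T18_E6 T19_E6 T20_E6 f hc hn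

/-- **`H_X`, `H_Y`** for `²E₆`. -/
theorem e6m_okG_tor_act_E6 {c : ℕ × ℕ} (hc : c ∈ clsE6) {h : GL chevE6.Idx K}
    (hh : h ∈ twH good2_E6 T3_E6 T4_E6 T19_E6 f) :
    ∃ a : K, a ≠ 0 ∧ Adm f c.2 a ∧
      (∀ u : K, h * clsHom good2_E6 T3_E6 T4_E6 T19_E6 f hc (upperSL u) * h⁻¹ =
        clsHom good2_E6 T3_E6 T4_E6 T19_E6 f hc (upperSL (a * u))) ∧
      (∀ u : K, h * clsHom good2_E6 T3_E6 T4_E6 T19_E6 f hc (lowerSL u) * h⁻¹ =
        clsHom good2_E6 T3_E6 T4_E6 T19_E6 f hc (lowerSL (a⁻¹ * u))) :=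
  e6m_okG_tor_act good2_E6 T0_E6 T3_E6 T4_E6 T8_E6 T18_E6 T19_E6 f hc hh

/-- **`n_T`** for `²E₆`. -/
theorem e6m_okG_n_T_E6 {c : ℕ × ℕ} (hc : c ∈ clsE6) {h : GL chevE6.Idx K}
    (hh : h ∈ twH good2_E6 T3_E6 T4_E6 T19_E6 f) :
    ∃ (a : K) (ha : a ≠ 0), Adm f c.2 a ∧
      clsHom good2_E6 T3_E6 T4_E6 T19_E6 f hc antiSL * h *
        (clsHom good2_E6 T3_E6 T4_E6 T19_E6 f hc antiSL)⁻¹ * h⁻¹ =
        (clsHom good2_E6 T3_E6 T4_E6 T19_E6 f hc (diagSL a ha))⁻¹ :=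
  e6m_okG_n_T good2_E6 T0_E6 T3_E6 T4_E6 T8_E6 T18_E6 T19_E6 f hc hh

/-- **`T_comm`** for `²E₆`. -/
theorem e6m_okG_comm_E6 {s t : GL chevE6.Idx K} (hs : s ∈ twH good2_E6 T3_E6 T4_E6 T19_E6 f)
    (ht : t ∈ twH good2_E6 T3_E6 T4_E6 T19_E6 f) : s * t = t * s :=
  e6m_okG_twH_comm good2_E6 T3_E6 T4_E6 T19_E6 f hs ht

end e6

end Cfsg.Agent.E6M
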