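import Mathlib
import Cfsg.Agent.E6M.ConcDefs
import Cfsg.Agent.E6M.ConcCox
import Cfsg.Agent.E6M.ConcOkC
import Cfsg.Agent.E6M.ConcOkG

set_option autoImplicit false
set_option linter.unusedSectionVars false
set_option linter.unusedVariables false

/-!
# S2108, package P8-A at the level of `↥(e6G f)`: the fields `dec`, `n_Uc`, `dich` of `BnDat.Ok (e6D f) CoxeterMatrix.F₄`

from helper6's `GL`-level statements `e6m_okG_dec`, `e6m_okG_n_conj`, `e6m_okG_dich` (`E6M/ConcOkG.lean`).  Prefix `e6m_okA9_`.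
-/

namespace Cfsg.Agent.E6M

open Cfsg Cfsg.Lie Cfsg.Agent.Helper7.Chev Cfsg.Agent.CtRecM Cfsg.Agent.CtRecT Cfsg.Agent.F4M

variable {K : Type*} [Field K] [Finite K] (f : K ≃+* K)

theorem e6m_okA9_dec (i : Fin 4) :
    ∀ u ∈ (e6D f).U, ∃ v ∈ (e6D f).Uc i, ∃ x ∈ ((e6D f).R i).X, u = v * x := by
  intro u hu
  have hu' : (u : GL chevE6.Idx K) ∈ twU good2_E6 T3_E6 T4_E6 T19_E6 f := Subgroup.mem_subgroupOf.mp hu
  obtain ⟨u', hu'c, hu'G, t, ht, e⟩ := e6m_okG_dec f (e6mCls_mem i) hu'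
  have hxG : clsHom good2_E6 T3_E6 T4_E6 T19_E6 f (e6mCls_mem i) (upperSL t) ∈ e6G f :=
    upper_mem_twGroup good2_E6 T3_E6 T4_E6 T19_E6 f (e6mCls_mem i) ht
  refine ⟨⟨u', hu'G⟩, ?_, ⟨_, hxG⟩, ?_, ?_⟩
  · show (⟨u', hu'G⟩ : ↥(e6G f)) ∈ (e6Uc f i).subgroupOf (e6G f)
    rw [Subgroup.mem_subgroupOf]
    exact Subgroup.mem_inf.mpr ⟨hu'c, hu'G⟩
  · exact (mem_e6D_X f i _).mpr ⟨t, ht, rfl⟩
  · exact Subtype.ext e

theorem e6m_okA9_n_Uc (i : Fin 4) :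
    ∀ v ∈ (e6D f).Uc i, ((e6D f).R i).n * v * ((e6D f).R i).n⁻¹ ∈ (e6D f).U := by
  intro v hv
  have hv' : (v : GL chevE6.Idx K) ∈ e6Uc f i := Subgroup.mem_subgroupOf.mp hv
  obtain ⟨hvc, hvG⟩ := Subgroup.mem_inf.mp hv'
  have h := e6m_okG_n_conj f (e6mCls_mem i) hvc hvG
  show ((e6D f).R i).n * v * ((e6D f).R i).n⁻¹ ∈ (e6U f).subgroupOf (e6G f)
  rw [Subgroup.mem_subgroupOf]
  have e : ((((e6D f).R i).n * v * ((e6D f).R i).n⁻¹ : ↥(e6G f)) : GL chevE6.Idx K) =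
      e6Phi f i antiSL * (v : GL chevE6.Idx K) * (e6Phi f i antiSL)⁻¹ := by
    rw [Subgroup.coe_mul, Subgroup.coe_mul, Subgroup.coe_inv, e6D_n]
  rw [e]
  exact h

theorem e6m_okA9_dich (i : Fin 4) :
    ∀ n ∈ (e6D f).N, (∀ x ∈ ((e6D f).R i).X, n⁻¹ * x * n ∈ (e6D f).U) ∨
      (∀ x ∈ ((e6D f).R i).X, (((e6D f).R i).n⁻¹ * n)⁻¹ * x * (((e6D f).R i).n⁻¹ * n) ∈ (e6D f).U) := by
  intro n hn
  have hnN : (n : GL chevE6.Idx K) ∈ twN good2_E6 T3_E6 T4_E6 T19_E6 f :=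
    Subgroup.mem_subgroupOf.mp (e6m_concCox_N_le f (e6m_okC_H_le f) hn)
  rcases e6m_okG_dich f (e6mCls_mem i) hnN with h | h
  · left
    intro x hx
    obtain ⟨t, ht, e⟩ := (mem_e6D_X f i x).mp hx
    show n⁻¹ * x * n ∈ (e6U f).subgroupOf (e6G f)
    rw [Subgroup.mem_subgroupOf]
    have e' : ((n⁻¹ * x * n : ↥(e6G f)) : GL chevE6.Idx K) =
        (n : GL chevE6.Idx K)⁻¹ * e6Phi f i (upperSL t) * (n : GL chevE6.Idx K) := by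
      rw [Subgroup.coe_mul, Subgroup.coe_mul, Subgroup.coe_inv, e]
    rw [e']
    exact h t ht
  · right
    intro x hx
    obtain ⟨t, ht, e⟩ := (mem_e6D_X f i x).mp hx
    show (((e6D f).R i).n⁻¹ * n)⁻¹ * x * (((e6D f).R i).n⁻¹ * n) ∈ (e6U f).subgroupOf (e6G f)
    rw [Subgroup.mem_subgroupOf]
    have e' : (((((e6D f).R i).n⁻¹ * n)⁻¹ * x * (((e6D f).R i).n⁻¹ * n) : ↥(e6G f)) : GL chevE6.Idx K) =
        ((e6Phi f i antiSL)⁻¹ * (n : GL chevE6.Idx K))⁻¹ * e6Phi f i (upperSL t) *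
          ((e6Phi f i antiSL)⁻¹ * (n : GL chevE6.Idx K)) := by
      rw [Subgroup.coe_mul, Subgroup.coe_mul, Subgroup.coe_inv, Subgroup.coe_mul, Subgroup.coe_inv, e6D_n, e]
    rw [e']
    exact h t ht

end Cfsg.Agent.E6M
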