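import Mathlib
import Cfsg.Agent.Helper7.ChevTwU4
import Cfsg.Agent.Helper7.TwAutG
import Cfsg.Agent.Helper7.ChevSub2

set_option autoImplicit false
set_option linter.unusedSectionVars false
set_option linter.unusedVariables false

/-!
# S2108, concrete side, package P1 (helper7): the root groups of a twisted group along a class word

Generic in the twisted group `twGroup hG h3 h4 h19 f` of `Helper7/ChevTw*`.  For a word `L = [c_0, …, c_{n-1}]` in the classes of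
fundamental roots all of whose prefixes map the next fundamental root to a positive root:
* `e6m_twr_tail L k` = the element `n_{c_k} ⋯ n_{c_{n-1}}` of `N`;
* `e6m_twr_x L hL k t = (tail (k+1))⁻¹ * x_{c_k}(t) * tail (k+1)`, `e6m_twr_U L hL k` = its values at the admissible parameters;
* `e6m_twr_iSup`: `⨆ k < j, U k` is the conjugate by `(tail j)⁻¹` of the group `twM` of the fixed points in `U_w⁻`, `w` the first `j` letters;
* `e6m_twr_comm` (one-sided commutator relations): `⁅U i, U j⁆ ⊆ ⨆ k < j, U k` for `i < j`;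
* `e6m_twr_card_U`, `e6m_twr_card`: the orders;
* `e6m_twr_torus`: the action of the torus, in terms of the character of the torus element on ONE root of the ambient group;
* `e6m_twr_scal`: all scalars from a linked class.
-/

namespace Cfsg.Agent.E6M

open Cfsg Cfsg.Lie Matrix Cfsg.Agent.Helper7.Chev

variable {D : ChevalleyDatum} {K : Type*} [Field K]

section generic

variable (hG : Good2 D) (hT : T0 D) (h3 : (tabOf D).T3) (h4 : (tabOf D).T4 60) (h5 : (tabOf D).T5)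
  (h6 : (tabOf D).T6) (h7 : (tabOf D).T7) (h8 : (tabOf D).T8) (h9 : (tabOf D).T9)
  {ρ ρ' σ σ' : ℕ → ℕ} {ε : ℕ → ℤ} (h18 : T18 D ρ ρ' σ σ' ε) {cls : List (ℕ × ℕ)}
  (h19 : T19 D ρ σ cls) (h20 : (tabOf D).T20 ρ cls) (f : K ≃+* K)

/-- the word of a word in the classes. -/
def e6m_twr_word (ρ : ℕ → ℕ) (L : List (ℕ × ℕ)) : List ℕ := L.flatMap (clsWord ρ)

/-- the element `n_{c_k} ⋯ n_{c_{n-1}}` of `N`. -/
noncomputable def e6m_twr_tail (ρ : ℕ → ℕ) (L : List (ℕ × ℕ)) (k : ℕ) : GL D.Idx K :=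
  nWordGL hG (e6m_twr_word ρ (L.drop k))

/-- the parametrisation of the root group of the position `k`. -/
noncomputable def e6m_twr_x (L : List (ℕ × ℕ)) (hL : ∀ c ∈ L, c ∈ cls) (k : ℕ) (t : K) : GL D.Idx K :=
  if hk : k < L.length then
    (e6m_twr_tail hG ρ L (k + 1))⁻¹ * clsHom hG h3 h4 h19 f (hL _ (List.getElem_mem hk)) (upperSL t) *
      e6m_twr_tail hG ρ L (k + 1)
  else 1

/-- the root group of the position `k`. -/
noncomputable def e6m_twr_U (L : List (ℕ × ℕ)) (hL : ∀ c ∈ L, c ∈ cls) (k : ℕ) : Subgroup (GL D.Idx K) :=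
  if hk : k < L.length then
    (twX hG h3 h4 h19 f (hL _ (List.getElem_mem hk))).map
      (MulAut.conj (e6m_twr_tail hG ρ L (k + 1))⁻¹).toMonoidHom
  else ⊥

include h19 in
theorem e6m_twr_word_lt {L : List (ℕ × ℕ)} (hL : ∀ c ∈ L, c ∈ cls) :
    ∀ i ∈ e6m_twr_word ρ L, i < D.rank := flatMap_clsWord_lt h19 hL

theorem e6m_twr_tail_length (L : List (ℕ × ℕ)) : (e6m_twr_tail hG ρ L L.length : GL D.Idx K) = 1 := by
  unfold e6m_twr_tail e6m_twr_word
  rw [List.drop_length, List.flatMap_nil]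
  rfl

theorem e6m_twr_tail_succ (L : List (ℕ × ℕ)) {k : ℕ} (hk : k < L.length) :
    (e6m_twr_tail hG ρ L k : GL D.Idx K) = nWordGL hG (clsWord ρ L[k]) * e6m_twr_tail hG ρ L (k + 1) := by
  unfold e6m_twr_tail e6m_twr_word
  rw [List.drop_eq_getElem_cons hk, List.flatMap_cons, nWordGL_append]

theorem e6m_twr_mem_U {L : List (ℕ × ℕ)} (hL : ∀ c ∈ L, c ∈ cls) {k : ℕ} (hk : k < L.length)
    {g : GL D.Idx K} :
    g ∈ e6m_twr_U hG h3 h4 h19 f L hL k ↔
      ∃ t : K, Adm f (L[k]).2 t ∧ g = e6m_twr_x hG h3 h4 h19 f L hL k t := by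
  unfold e6m_twr_U e6m_twr_x
  rw [dif_pos hk]
  constructor
  · rintro ⟨_, ⟨t, ht, rfl⟩, rfl⟩
    refine ⟨t, ht, ?_⟩
    rw [dif_pos hk]
    simp
  · rintro ⟨t, ht, rfl⟩
    rw [dif_pos hk]
    refine ⟨_, ⟨t, ht, rfl⟩, ?_⟩
    simp

/-! ### the recursion -/

include hT h5 h6 h7 h8 h18 h20 in
/-- the step of the recursion, as an equality of subgroups. -/
theorem e6m_twr_step {w' : List ℕ} (hw' : ∀ i ∈ w', i < D.rank) {c : ℕ × ℕ} (hc : c ∈ cls)
    (hpos : ∀ j < c.2, D.nroots / 2 ≤ (tabOf D).reflWord w' (clsRoot D ρ c.1 j))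
    (hle : twM hG h18 f w' ≤ Subgroup.closure (minusGen D K w')) :
    twM hG h18 f (w' ++ clsWord ρ c) =
      (twM hG h18 f w').map (MulAut.conj (nWordGL hG (clsWord ρ c))⁻¹).toMonoidHom ⊔
        twX hG h3 h4 h19 f hc := by
  apply le_antisymm
  · intro g hg
    obtain ⟨v', hv', t, ht, rfl⟩ := twM_decomp hG hT h3 h4 h5 h6 h7 h8 h18 h19 h20 f hw' hc hpos hg
    refine mul_mem (Subgroup.mem_sup_left ⟨v', hv', ?_⟩) (Subgroup.mem_sup_right ⟨t, ht, rfl⟩)
    simp [MulAut.conj_apply]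
  · refine sup_le ?_ ?_
    · rintro _ ⟨v', hv', rfl⟩
      have := (twM_compose hG hT h3 h4 h6 h8 h18 h19 f hw' hc hpos hle hv').2
      simpa [MulAut.conj_apply] using this
    · rintro _ ⟨t, ht, rfl⟩
      exact upper_mem_twM hG hT h3 h4 h18 h19 f hw' hc hpos ht

theorem e6m_twr_word_take_succ (ρ : ℕ → ℕ) (L : List (ℕ × ℕ)) {j : ℕ} (hj : j < L.length) :
    e6m_twr_word ρ (L.take (j + 1)) = e6m_twr_word ρ (L.take j) ++ clsWord ρ L[j] := by
  unfold e6m_twr_word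
  rw [List.take_succ_eq_append_getElem hj, List.flatMap_append, List.flatMap_singleton]

theorem e6m_twr_prefixPos_take {L : List (ℕ × ℕ)} (hpp : PrefixPos D (e6m_twr_word ρ L)) (j : ℕ) :
    PrefixPos D (e6m_twr_word ρ (L.take j)) := by
  intro w₁ k w₂ hw
  refine hpp w₁ k (w₂ ++ e6m_twr_word ρ (L.drop j)) ?_
  have : e6m_twr_word ρ L = e6m_twr_word ρ (L.take j) ++ e6m_twr_word ρ (L.drop j) := by
    unfold e6m_twr_word
    rw [← List.flatMap_append, List.take_append_drop]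
  rw [this, hw]
  simp

include hT h5 h6 h7 h8 h18 h20 in
/-- `⨆ k < j, U k` is the conjugate by `(tail j)⁻¹` of the fixed points in `U_w⁻`, `w` the first `j` letters. -/
theorem e6m_twr_iSup {L : List (ℕ × ℕ)} (hL : ∀ c ∈ L, c ∈ cls) (hpp : PrefixPos D (e6m_twr_word ρ L)) :
    ∀ j ≤ L.length, (⨆ k ∈ Finset.range j, e6m_twr_U hG h3 h4 h19 f L hL k) =
      (twM hG h18 f (e6m_twr_word ρ (L.take j))).map
        (MulAut.conj (e6m_twr_tail hG ρ L j)⁻¹).toMonoidHom := by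
  intro j
  induction j with
  | zero =>
    intro _
    rw [Finset.range_zero]
    simp only [Finset.notMem_empty, iSup_false, iSup_bot]
    rw [List.take_zero]
    unfold e6m_twr_word
    rw [List.flatMap_nil, twM_nil hG hT h18 f, Subgroup.map_bot]
  | succ j ih =>
    intro hj
    have hj' : j < L.length := hj
    have ih' := ih (le_of_lt hj')
    have hc : L[j] ∈ cls := hL _ (List.getElem_mem hj')
    have hLj : ∀ c ∈ L.take j, c ∈ cls := fun c hc => hL c (List.mem_of_mem_take hc)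
    have hw' := e6m_twr_word_lt h19 hLj
    have hppj := e6m_twr_prefixPos_take hpp (j + 1)
    rw [e6m_twr_word_take_succ ρ L hj'] at hppj
    obtain ⟨hpp', hpos⟩ := cls_pos_of_prefixPos hG h19 hc hppj
    have hle := (twM_main hG hT h3 h4 h5 h6 h7 h8 h18 h19 h20 f (L.take j) hLj hpp').1
    rw [Finset.range_add_one, Finset.iSup_insert, ih', e6m_twr_word_take_succ ρ L hj',
      e6m_twr_step hG hT h3 h4 h5 h6 h7 h8 h18 h19 h20 f hw' hc hpos hle, Subgroup.map_sup, sup_comm]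
    congr 1
    · rw [Subgroup.map_map, e6m_twr_tail_succ hG L hj']
      congr 1
      ext x
      simp [MulAut.conj_apply, mul_assoc]
    · unfold e6m_twr_U
      rw [dif_pos hj']

/-! ### the one-sided commutator relations -/

include hT h5 h6 h7 h8 h18 h20 in
/-- `x_S(t)` normalizes `n_S⁻¹ · twM(w') · n_S`. -/
theorem e6m_twr_norm {w' : List ℕ} (hw' : ∀ i ∈ w', i < D.rank) {c : ℕ × ℕ} (hc : c ∈ cls)
    (hpos : ∀ j < c.2, D.nroots / 2 ≤ (tabOf D).reflWord w' (clsRoot D ρ c.1 j))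
    (hle : twM hG h18 f w' ≤ Subgroup.closure (minusGen D K w'))
    {v : GL D.Idx K} (hv : v ∈ twM hG h18 f w') {t : K} (ht : Adm f c.2 t) :
    ∃ v₂ ∈ twM hG h18 f w',
      clsHom hG h3 h4 h19 f hc (upperSL t) *
          ((nWordGL hG (clsWord ρ c))⁻¹ * v * nWordGL hG (clsWord ρ c)) *
          (clsHom hG h3 h4 h19 f hc (upperSL t))⁻¹ =
        (nWordGL hG (clsWord ρ c))⁻¹ * v₂ * nWordGL hG (clsWord ρ c) := by
  set n : GL D.Idx K := nWordGL hG (clsWord ρ c) with hn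
  set x : GL D.Idx K := clsHom hG h3 h4 h19 f hc (upperSL t) with hx
  obtain ⟨hgS, hgM⟩ := twM_compose hG hT h3 h4 h6 h8 h18 h19 f hw' hc hpos hle hv
  have hxM : x ∈ twM hG h18 f (w' ++ clsWord ρ c) := upper_mem_twM hG hT h3 h4 h18 h19 f hw' hc hpos ht
  have hxN : x ∈ Subgroup.normalizer
      (Subgroup.closure (upGenS D K (InCls D ρ c)) : Set (GL D.Idx K)) := by
    rw [hx, clsHom_upper]
    exact xiHom_mem_normalizer hG hT h3 h4 h5 h19 h20 hc _
  have hzM : x * (n⁻¹ * v * n) * x⁻¹ ∈ twM hG h18 f (w' ++ clsWord ρ c) :=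
    mul_mem (mul_mem hxM hgM) (inv_mem hxM)
  have hzS : x * (n⁻¹ * v * n) * x⁻¹ ∈ Subgroup.closure (upGenS D K (InCls D ρ c)) :=
    (Subgroup.mem_set_normalizer_iff.mp hxN _).mp hgS
  obtain ⟨v₂, hv₂, t₂, ht₂, e⟩ := twM_decomp hG hT h3 h4 h5 h6 h7 h8 h18 h19 h20 f hw' hc hpos hzM
  have hg₂S := (twM_compose hG hT h3 h4 h6 h8 h18 h19 f hw' hc hpos hle hv₂).1
  rw [← hn] at e hg₂S
  have h1 : clsHom hG h3 h4 h19 f hc (upperSL t₂) ∈ Subgroup.closure (upGenS D K (InCls D ρ c)) := by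
    have e2 : clsHom hG h3 h4 h19 f hc (upperSL t₂) = (n⁻¹ * v₂ * n)⁻¹ * (x * (n⁻¹ * v * n) * x⁻¹) := by
      rw [e]; group
    rw [e2]
    exact mul_mem (inv_mem hg₂S) hzS
  have h2 : clsHom hG h3 h4 h19 f hc (upperSL t₂) ∈ (xiHom hG h3 h4 h19 hc (K := K)).range := by
    rw [clsHom_upper]; exact ⟨_, rfl⟩
  have h3' := upS_inf_xi hG hT h3 h4 h7 h8 h19 h20 hc h1 h2
  refine ⟨v₂, hv₂, ?_⟩
  rw [e, h3', mul_one]

include hT h5 h6 h7 h8 h18 h20 in
/-- `U j` normalizes `⨆ k < j, U k`. -/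
theorem e6m_twr_conj_mem {L : List (ℕ × ℕ)} (hL : ∀ c ∈ L, c ∈ cls) (hpp : PrefixPos D (e6m_twr_word ρ L))
    {j : ℕ} (hj : j < L.length) {y : GL D.Idx K} (hy : y ∈ e6m_twr_U hG h3 h4 h19 f L hL j)
    {g : GL D.Idx K} (hg : g ∈ ⨆ k ∈ Finset.range j, e6m_twr_U hG h3 h4 h19 f L hL k) :
    y * g * y⁻¹ ∈ ⨆ k ∈ Finset.range j, e6m_twr_U hG h3 h4 h19 f L hL k := by
  have hc : L[j] ∈ cls := hL _ (List.getElem_mem hj)
  have hLj : ∀ c ∈ L.take j, c ∈ cls := fun c hc => hL c (List.mem_of_mem_take hc)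
  have hw' := e6m_twr_word_lt h19 hLj
  have hppj := e6m_twr_prefixPos_take hpp (j + 1)
  rw [e6m_twr_word_take_succ ρ L hj] at hppj
  obtain ⟨hpp', hpos⟩ := cls_pos_of_prefixPos hG h19 hc hppj
  have hle := (twM_main hG hT h3 h4 h5 h6 h7 h8 h18 h19 h20 f (L.take j) hLj hpp').1
  rw [e6m_twr_iSup hG hT h3 h4 h5 h6 h7 h8 h18 h19 h20 f hL hpp j (le_of_lt hj)] at hg ⊢
  obtain ⟨v, hv, rfl⟩ := hg
  obtain ⟨t, ht, rfl⟩ := (e6m_twr_mem_U hG h3 h4 h19 f hL hj).mp hy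
  obtain ⟨v₂, hv₂, e⟩ := e6m_twr_norm hG hT h3 h4 h5 h6 h7 h8 h18 h19 h20 f hw' hc hpos hle hv ht
  refine ⟨v₂, hv₂, ?_⟩
  unfold e6m_twr_x
  rw [dif_pos hj]
  simp only [MulEquiv.coe_toMonoidHom, MulAut.conj_apply, inv_inv]
  rw [e6m_twr_tail_succ hG L hj]
  set m : GL D.Idx K := e6m_twr_tail hG ρ L (j + 1) with hm
  set n : GL D.Idx K := nWordGL hG (clsWord ρ L[j]) with hn
  set x : GL D.Idx K := clsHom hG h3 h4 h19 f hc (upperSL t) with hx
  have e1 : m⁻¹ * x * m * ((n * m)⁻¹ * v * (n * m)) * (m⁻¹ * x * m)⁻¹ =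
      m⁻¹ * (x * (n⁻¹ * v * n) * x⁻¹) * m := by group
  rw [e1, e]
  group

include hT h5 h6 h7 h8 h18 h20 in
/-- the one-sided commutator relations. -/
theorem e6m_twr_comm {L : List (ℕ × ℕ)} (hL : ∀ c ∈ L, c ∈ cls) (hpp : PrefixPos D (e6m_twr_word ρ L))
    {i j : ℕ} (hij : i < j) (hj : j < L.length) {x y : GL D.Idx K}
    (hx : x ∈ e6m_twr_U hG h3 h4 h19 f L hL i) (hy : y ∈ e6m_twr_U hG h3 h4 h19 f L hL j) :
    x * y * x⁻¹ * y⁻¹ ∈ ⨆ k ∈ Finset.range j, e6m_twr_U hG h3 h4 h19 f L hL k := by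
  have hxQ : x ∈ ⨆ k ∈ Finset.range j, e6m_twr_U hG h3 h4 h19 f L hL k :=
    (le_iSup₂ (f := fun k _ => e6m_twr_U hG h3 h4 h19 f L hL k) i (Finset.mem_range.mpr hij)) hx
  have h1 := e6m_twr_conj_mem hG hT h3 h4 h5 h6 h7 h8 h18 h19 h20 f hL hpp hj hy (inv_mem hxQ)
  have e : x * y * x⁻¹ * y⁻¹ = x * (y * x⁻¹ * y⁻¹) := by group
  rw [e]
  exact mul_mem hxQ h1

/-! ### the whole product and the orders -/

include hT h5 h6 h7 h8 h18 h20 in
/-- the root groups generate the group of the fixed points in `U_w⁻`. -/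
theorem e6m_twr_iSup_all {L : List (ℕ × ℕ)} (hL : ∀ c ∈ L, c ∈ cls) (hpp : PrefixPos D (e6m_twr_word ρ L)) :
    (⨆ k ∈ Finset.range L.length, e6m_twr_U hG h3 h4 h19 f L hL k) = twM hG h18 f (e6m_twr_word ρ L) := by
  rw [e6m_twr_iSup hG hT h3 h4 h5 h6 h7 h8 h18 h19 h20 f hL hpp L.length le_rfl, List.take_length,
    e6m_twr_tail_length]
  ext g
  simp [MulAut.conj_apply]

include hT h5 h6 h7 h8 h18 h20 in
/-- for a word of the longest element the root groups generate `U ⊓ G¹`. -/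
theorem e6m_twr_iSup_top {L : List (ℕ × ℕ)} (hL : ∀ c ∈ L, c ∈ cls) (hpp : PrefixPos D (e6m_twr_word ρ L))
    (hw0 : (tabOf D).W0ok (e6m_twr_word ρ L)) :
    (⨆ k ∈ Finset.range L.length, e6m_twr_U hG h3 h4 h19 f L hL k) =
      D.posUnipotent K ⊓ twGroup hG h3 h4 h19 f := by
  rw [e6m_twr_iSup_all hG hT h3 h4 h5 h6 h7 h8 h18 h19 h20 f hL hpp]
  exact ((posUnipotent_inf_twGroup hG hT h3 h4 h5 h6 h7 h8 h18 h19 h20 f hL hpp hw0).1).symm

include hT h7 h8 h20 in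
/-- the parametrisation is injective. -/
theorem e6m_twr_x_inj {L : List (ℕ × ℕ)} (hL : ∀ c ∈ L, c ∈ cls) {k : ℕ} (hk : k < L.length) {t u : K}
    (e : e6m_twr_x hG h3 h4 h19 f L hL k t = e6m_twr_x hG h3 h4 h19 f L hL k u) : t = u := by
  unfold e6m_twr_x at e
  rw [dif_pos hk, dif_pos hk] at e
  exact clsHom_upper_injective hG hT h3 h4 h7 h8 h19 h20 f _ (mul_left_cancel (mul_right_cancel e))

/-- the parametrisation is additive. -/
theorem e6m_twr_x_add {L : List (ℕ × ℕ)} (hL : ∀ c ∈ L, c ∈ cls) (k : ℕ) (t u : K) :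
    e6m_twr_x hG h3 h4 h19 f L hL k (t + u) =
      e6m_twr_x hG h3 h4 h19 f L hL k t * e6m_twr_x hG h3 h4 h19 f L hL k u := by
  unfold e6m_twr_x
  split_ifs with hk
  · rw [sl2p_upper_add, map_mul]
    group
  · rw [one_mul]

include hT h7 h8 h20 in
/-- the order of a root group. -/
theorem e6m_twr_card_U {L : List (ℕ × ℕ)} (hL : ∀ c ∈ L, c ∈ cls) {k : ℕ} (hk : k < L.length) :
    Nat.card (e6m_twr_U hG h3 h4 h19 f L hL k) = Nat.card {t : K // Adm f (L[k]).2 t} := by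
  symm
  apply Nat.card_congr
  refine Equiv.ofBijective
    (fun t => ⟨e6m_twr_x hG h3 h4 h19 f L hL k t.1,
      (e6m_twr_mem_U hG h3 h4 h19 f hL hk).mpr ⟨t.1, t.2, rfl⟩⟩) ⟨?_, ?_⟩
  · rintro ⟨t, ht⟩ ⟨u, hu⟩ e
    have e' : e6m_twr_x hG h3 h4 h19 f L hL k t = e6m_twr_x hG h3 h4 h19 f L hL k u :=
      congrArg Subtype.val e
    exact Subtype.ext (e6m_twr_x_inj hG hT h3 h4 h7 h8 h19 h20 f hL hk e')
  · rintro ⟨g, hg⟩
    obtain ⟨t, ht, rfl⟩ := (e6m_twr_mem_U hG h3 h4 h19 f hL hk).mp hg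
    exact ⟨⟨t, ht⟩, rfl⟩

theorem e6m_twr_prod_range {α : Type*} (g : α → ℕ) (L : List α) :
    (L.map g).prod = ∏ k ∈ Finset.range L.length, (if hk : k < L.length then g L[k] else 1) := by
  rw [Finset.prod_range (fun k => if hk : k < L.length then g L[k] else 1)]
  simp only [Fin.is_lt, dite_true]
  rw [← List.prod_ofFn]
  congr 1
  apply List.ext_getElem <;> simp

include hT h5 h6 h7 h8 h18 h20 in
/-- the order of the group generated by the root groups is the product of their orders. -/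
theorem e6m_twr_card {L : List (ℕ × ℕ)} (hL : ∀ c ∈ L, c ∈ cls) (hpp : PrefixPos D (e6m_twr_word ρ L)) :
    Nat.card ↥(⨆ k ∈ Finset.range L.length, e6m_twr_U hG h3 h4 h19 f L hL k) =
      ∏ k ∈ Finset.range L.length, Nat.card (e6m_twr_U hG h3 h4 h19 f L hL k) := by
  rw [e6m_twr_iSup_all hG hT h3 h4 h5 h6 h7 h8 h18 h19 h20 f hL hpp]
  unfold e6m_twr_word at hpp ⊢
  rw [(twM_main hG hT h3 h4 h5 h6 h7 h8 h18 h19 h20 f L hL hpp).2.2, e6m_twr_prod_range]
  apply Finset.prod_congr rfl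
  intro k hk
  have hk' : k < L.length := Finset.mem_range.mp hk
  rw [dif_pos hk', e6m_twr_card_U hG hT h3 h4 h7 h8 h19 h20 f hL hk']

include h19 in
/-- the root groups lie in the twisted group. -/
theorem e6m_twr_U_le {L : List (ℕ × ℕ)} (hL : ∀ c ∈ L, c ∈ cls) (k : ℕ) :
    e6m_twr_U hG h3 h4 h19 f L hL k ≤ twGroup hG h3 h4 h19 f := by
  unfold e6m_twr_U
  split_ifs with hk
  · rintro _ ⟨_, ⟨t, ht, rfl⟩, rfl⟩
    have hm : (e6m_twr_tail hG ρ L (k + 1) : GL D.Idx K) ∈ twGroup hG h3 h4 h19 f := by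
      unfold e6m_twr_tail e6m_twr_word
      have hLd : ∀ c ∈ L.drop (k + 1), c ∈ cls := fun c hc => hL c (List.mem_of_mem_drop hc)
      exact nWordGL_flatMap_mem hG h3 h4 h19 f hLd
    simp only [MulEquiv.coe_toMonoidHom, MulAut.conj_apply, inv_inv]
    exact mul_mem (mul_mem (inv_mem hm) (upper_mem_twGroup hG h3 h4 h19 f _ ht)) hm
  · exact bot_le

/-! ### the action of the torus -/

include hG in
/-- a diagonal element acts linearly on every root element: a choice of the scalars. -/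
theorem e6m_twr_diag_lin {h : GL D.Idx K} (hh : h ∈ D.diagonalSubgroup K) :
    ∃ χ : ℕ → K, ∀ (r : ℕ) (u : K),
      h * xGL' hG.toGood1 (r, u) * h⁻¹ = xGL' hG.toGood1 (r, χ r * u) := by
  classical
  have hG1 := hG.toGood1
  refine ⟨fun r => if hr : r < D.nroots then Classical.choose (diagonal_conj_xGL_lin hG hh hr) else 1, ?_⟩
  intro r u
  by_cases hr : r < D.nroots
  · rw [xGL'_of_lt hG1 hr, xGL'_of_lt hG1 hr]
    simp only [dif_pos hr]
    exact (Classical.choose_spec (diagonal_conj_xGL_lin hG hh hr)).2 u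
  · unfold xGL'
    simp only [dif_neg hr]
    group

/-- conjugation distributes over a product along a list. -/
theorem e6m_twr_conj_list_prod {G : Type*} [Group G] (h : G) (L : List G) :
    h * L.prod * h⁻¹ = (L.map fun x => h * x * h⁻¹).prod := by
  induction L with
  | nil => simp
  | cons x L ih =>
    rw [List.prod_cons, List.map_cons, List.prod_cons, ← ih]
    group

/-- conjugation of an element of `X_S` by an element acting linearly on the root elements. -/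
theorem e6m_twr_conj_xi {c : ℕ × ℕ} (hc : c ∈ cls) {h : GL D.Idx K} {χ : ℕ → K}
    (hχ : ∀ (r : ℕ) (u : K), h * xGL' hG.toGood1 (r, u) * h⁻¹ = xGL' hG.toGood1 (r, χ r * u))
    (a : Multiplicative (ℕ → K)) :
    h * xiHom hG h3 h4 h19 hc a * h⁻¹ =
      xiHom hG h3 h4 h19 hc
        (Multiplicative.ofAdd fun j => χ (clsRoot D ρ c.1 j) * (Multiplicative.toAdd a) j) := by
  rw [xiHom_apply, xiHom_apply, e6m_twr_conj_list_prod, List.map_map]
  congr 1
  apply List.map_congr_left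
  intro j _
  simp only [Function.comp_apply, toAdd_ofAdd]
  exact hχ _ _

include hT h5 h7 h8 h18 h20 in
/-- the action of an element of `H¹` on `x_S(t)`, in terms of its character on the first root of the class. -/
theorem e6m_twr_torus_fund {c : ℕ × ℕ} (hc : c ∈ cls) {h : GL D.Idx K} (hhD : h ∈ D.diagonalSubgroup K)
    (hhG : h ∈ twGroup hG h3 h4 h19 f) {χ₀ : K}
    (hχ₀ : ∀ u : K, h * xGL' hG.toGood1 (clsRoot D ρ c.1 0, u) * h⁻¹ =
      xGL' hG.toGood1 (clsRoot D ρ c.1 0, χ₀ * u))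
    {t : K} (ht : Adm f c.2 t) :
    Adm f c.2 (χ₀ * t) ∧ h * clsHom hG h3 h4 h19 f hc (upperSL t) * h⁻¹ =
      clsHom hG h3 h4 h19 f hc (upperSL (χ₀ * t)) := by
  have hG1 := hG.toGood1
  obtain ⟨hm, _, hlt⟩ := h19.orbit c hc
  have hp0 : clsRoot D ρ c.1 0 < D.nroots := hG1.simple_lt (hlt 0 hm)
  obtain ⟨χ, hχ⟩ := e6m_twr_diag_lin hG hhD
  -- the two characters on the first root agree
  have hχ0 : χ (clsRoot D ρ c.1 0) = χ₀ := by
    have e1 := hχ (clsRoot D ρ c.1 0) 1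
    rw [hχ₀ 1, xGL'_of_lt hG1 hp0, xGL'_of_lt hG1 hp0, mul_one, mul_one] at e1
    exact (xGL_injective hG hT h8 hp0 e1).symm
  set x : GL D.Idx K := clsHom hG h3 h4 h19 f hc (upperSL t) with hx
  have hxG : x ∈ twGroup hG h3 h4 h19 f := upper_mem_twGroup hG h3 h4 h19 f hc ht
  -- the conjugate is a fixed point in the subgroup generated by the root subgroups of the class
  have hz1 : h * x * h⁻¹ ∈ Subgroup.closure (rootGen D K (InCls D ρ c)) := by
    rw [hx, clsHom_upper, e6m_twr_conj_xi hG h3 h4 h19 hc hχ, xiHom_apply]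
    apply Subgroup.list_prod_mem
    intro y hy
    rw [List.mem_map] at hy
    obtain ⟨j, hj, rfl⟩ := hy
    rw [List.mem_range] at hj
    exact Subgroup.subset_closure ⟨_, _, ⟨j, hj, rfl⟩, xGL'_coe _ _⟩
  have hz2 : twAut h18 f (h * x * h⁻¹) = h * x * h⁻¹ :=
    (mem_twFix h18 f).mp (twGroup_le_twFix hG h3 h4 h18 h19 f (mul_mem (mul_mem hhG hxG) (inv_mem hhG)))
  obtain ⟨t', ht', e⟩ := mem_twX_of_fixed hG hT h3 h4 h5 h7 h8 h18 h19 h20 f hc hz1 hz2
  -- compare the first coordinates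
  have e2 := e
  rw [hx, clsHom_upper, clsHom_upper, e6m_twr_conj_xi hG h3 h4 h19 hc hχ] at e2
  have e3 : xiHom hG h3 h4 h19 hc
      (Multiplicative.ofAdd (fun j => χ (clsRoot D ρ c.1 j) *
          (Multiplicative.toAdd (Multiplicative.ofAdd fun j => (((f : K →+* K)) ^ j) t)) j) *
        (Multiplicative.ofAdd fun j => (((f : K →+* K)) ^ j) t')⁻¹) = 1 := by
    rw [map_mul, map_inv, e2, mul_inv_cancel]
  have e4 := xiHom_eq_one hG hT h3 h4 h7 h8 h19 h20 hc e3 0 hm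
  rw [toAdd_mul, toAdd_inv, toAdd_ofAdd, toAdd_ofAdd, toAdd_ofAdd] at e4
  simp only [Pi.add_apply, Pi.neg_apply, pow_zero] at e4
  have h1 : ((1 : K →+* K)) t = t := rfl
  have h2 : ((1 : K →+* K)) t' = t' := rfl
  rw [h1, h2, hχ0] at e4
  have ht'eq : t' = χ₀ * t := (add_neg_eq_zero.mp e4).symm
  rw [← ht'eq]
  exact ⟨ht', e⟩

include h19 in
theorem e6m_twr_tail_mem {L : List (ℕ × ℕ)} (hL : ∀ c ∈ L, c ∈ cls) (k : ℕ) :
    (e6m_twr_tail hG ρ L k : GL D.Idx K) ∈ twGroup hG h3 h4 h19 f := by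
  unfold e6m_twr_tail e6m_twr_word
  have hLd : ∀ c ∈ L.drop k, c ∈ cls := fun c hc => hL c (List.mem_of_mem_drop hc)
  exact nWordGL_flatMap_mem hG h3 h4 h19 f hLd

include hT h5 h7 h8 h18 h20 in
/-- **the action of the torus on the root group of the position `k`**, in terms of the character of the torus element on the
root `r` of the ambient group which the part of the word after the position `k` maps to the first root of the class. -/
theorem e6m_twr_torus {L : List (ℕ × ℕ)} (hL : ∀ c ∈ L, c ∈ cls) {k : ℕ} (hk : k < L.length)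
    {h : GL D.Idx K} (hhD : h ∈ D.diagonalSubgroup K) (hhG : h ∈ twGroup hG h3 h4 h19 f)
    {r : ℕ} (hr : r < D.nroots)
    (hrw : (tabOf D).reflWord (e6m_twr_word ρ (L.drop (k + 1))) r = clsRoot D ρ (L[k]).1 0)
    {χ : K} (hχ : ∀ u : K, h * xGL hG.toGood1 hr u * h⁻¹ = xGL hG.toGood1 hr (χ * u))
    {t : K} (ht : Adm f (L[k]).2 t) :
    Adm f (L[k]).2 (χ * t) ∧
      h * e6m_twr_x hG h3 h4 h19 f L hL k t * h⁻¹ = e6m_twr_x hG h3 h4 h19 f L hL k (χ * t) := by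
  have hG1 := hG.toGood1
  have hc : L[k] ∈ cls := hL _ (List.getElem_mem hk)
  obtain ⟨hm0, _, hlt⟩ := h19.orbit _ hc
  have hp0 : clsRoot D ρ (L[k]).1 0 < D.nroots := hG1.simple_lt (hlt 0 hm0)
  have hLd : ∀ c ∈ L.drop (k + 1), c ∈ cls := fun c hc => hL c (List.mem_of_mem_drop hc)
  have hw := e6m_twr_word_lt h19 hLd
  obtain ⟨m, hm⟩ : ∃ m : GL D.Idx K, m = e6m_twr_tail hG ρ L (k + 1) := ⟨_, rfl⟩
  have hmw : m = nWordGL hG (e6m_twr_word ρ (L.drop (k + 1))) := hm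
  have hmG : m ∈ twGroup hG h3 h4 h19 f := by rw [hm]; exact e6m_twr_tail_mem hG h3 h4 h19 f hL _
  have hmN : m ∈ D.monomialSubgroup K := by rw [hmw]; exact nWordGL_mem hG _
  have hh'D : m * h * m⁻¹ ∈ D.diagonalSubgroup K :=
    conj_mem_diagonal (monomialSubgroup_le_normalizer hG hmN) hhD
  have hh'G : m * h * m⁻¹ ∈ twGroup hG h3 h4 h19 f := mul_mem (mul_mem hmG hhG) (inv_mem hmG)
  -- the conjugation of the root elements of `r` by `m`
  have hη := etaWord_cast_mul_self (F := K) hG hw hr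
  have hconj : ∀ u : K, m * xGL hG1 hr u * m⁻¹ =
      xGL hG1 hp0 ((((tabOf D).etaWord (e6m_twr_word ρ (L.drop (k + 1))) r : ℤ) : K) * u) := by
    intro u
    rw [hmw, nWordGL_conj hG hw hr u]
    exact xGL_congr hG hrw _ _ _
  have hχ₀ : ∀ u : K, (m * h * m⁻¹) * xGL' hG1 (clsRoot D ρ (L[k]).1 0, u) * (m * h * m⁻¹)⁻¹ =
      xGL' hG1 (clsRoot D ρ (L[k]).1 0, χ * u) := by
    intro u
    rw [xGL'_of_lt hG1 hp0, xGL'_of_lt hG1 hp0]
    set η : K := (((tabOf D).etaWord (e6m_twr_word ρ (L.drop (k + 1))) r : ℤ) : K) with hηdef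
    have e1 : xGL hG1 hp0 u = m * xGL hG1 hr (η * u) * m⁻¹ := by
      rw [hconj, ← mul_assoc, hη, one_mul]
    have e2 : xGL hG1 hp0 (χ * u) = m * xGL hG1 hr (χ * (η * u)) * m⁻¹ := by
      rw [hconj]
      congr 1
      calc χ * u = (η * η) * (χ * u) := by rw [hη, one_mul]
        _ = η * (χ * (η * u)) := by ring
    rw [e1, e2, ← hχ]
    group
  obtain ⟨hadm, e⟩ := e6m_twr_torus_fund hG hT h3 h4 h5 h7 h8 h18 h19 h20 f hc hh'D hh'G hχ₀ ht
  refine ⟨hadm, ?_⟩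
  unfold e6m_twr_x
  rw [dif_pos hk, dif_pos hk, ← hm, ← e]
  group

include h19 in
/-- **all scalars**: for a class `c'` linked to the class of the position `k`, the conjugate of `h_{c'}(a⁻¹)` acts on the root group
of the position `k` through the multiplication by `a`. -/
theorem e6m_twr_scal {L : List (ℕ × ℕ)} (hL : ∀ c ∈ L, c ∈ cls) {k : ℕ} (hk : k < L.length)
    {c' : ℕ × ℕ} (hc' : c' ∈ cls) (hlink : Linked D ρ c' L[k]) {a : K} (ha : a ≠ 0) (hadm : Adm f c'.2 a) :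
    ∃ h : GL D.Idx K, h ∈ D.diagonalSubgroup K ∧ h ∈ twGroup hG h3 h4 h19 f ∧
      ∀ t : K, h * e6m_twr_x hG h3 h4 h19 f L hL k t * h⁻¹ = e6m_twr_x hG h3 h4 h19 f L hL k (a * t) := by
  have hc : L[k] ∈ cls := hL _ (List.getElem_mem hk)
  obtain ⟨m, hm⟩ : ∃ m : GL D.Idx K, m = e6m_twr_tail hG ρ L (k + 1) := ⟨_, rfl⟩
  have hmG : m ∈ twGroup hG h3 h4 h19 f := by rw [hm]; exact e6m_twr_tail_mem hG h3 h4 h19 f hL _
  have hmN : m ∈ D.monomialSubgroup K := by
    rw [hm]; unfold e6m_twr_tail; exact nWordGL_mem hG _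
  have ha' : a⁻¹ ≠ 0 := inv_ne_zero ha
  obtain ⟨d, hd⟩ : ∃ d : GL D.Idx K, d = clsHom hG h3 h4 h19 f hc' (diagSL a⁻¹ ha') := ⟨_, rfl⟩
  have hdD : d ∈ D.diagonalSubgroup K := by rw [hd]; exact clsHom_diag_mem hG h3 h4 h19 f hc' ha'
  have hdG : d ∈ twGroup hG h3 h4 h19 f := by
    rw [hd]; exact diag_mem_twGroup hG h3 h4 h19 f hc' ha' hadm.inv
  refine ⟨m⁻¹ * d * m, ?_, mul_mem (mul_mem (inv_mem hmG) hdG) hmG, ?_⟩
  · have := conj_mem_diagonal (monomialSubgroup_le_normalizer hG (inv_mem hmN)) hdD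
    rwa [inv_inv] at this
  · intro t
    have e := clsHom_diag_conj hG h3 h4 h19 f hc' hc hlink ha' hadm.inv t
    rw [inv_inv, ← hd] at e
    unfold e6m_twr_x
    rw [dif_pos hk, dif_pos hk, ← hm, ← e]
    group

end generic

end Cfsg.Agent.E6M
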