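import Mathlib
import Cfsg.Prelude.Def_ChevE6
import Cfsg.Prelude.Def_ChevStructure

set_option autoImplicit false

/-!
# S2108, package P4 (file `Cfsg/Agent/E6M/NcTab.lean`): the NC table for `²E₆(q)`, `q ≥ 3` (lead)

The 24 positive relative root groups `U k` of `²E₆(q)` in the order of helper7's `w0clsE6` (`U k` = conjugate of `X_{c_k}` by the tail
`n_{c_{k+1}} ⋯ n_{c_{23}}`), represented by the root `r_k = s_{c_{23}} ⋯ s_{c_{k+1}} (α_{c_k})` of `E₆` (`e6m_nc_root`, indices of `chevE6`).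
`e6m_nc_cart k l = ⟨r_k, α_l^∨⟩ = chevE6.cartan l r_k` (0-based `l`, Bourbaki numbering `p₁ … p₆`).

Torus parameters `c = (c₀,…,c₅)` with `c₅ = c₀^q`, `c₄ = c₂^q`, `c₁^q = c₁`, `c₃^q = c₃`; the character of the class of `r` is
`χ_r(c) = ∏_l c_l ^ ⟨r, α_l^∨⟩`.  For a generator `u` of `Kˣ` (`|K| = q²`) and `v = (x₁,y₁,x₃,y₃,a₂,a₄) : ℤ⁶` put
`c₀ = u^(x₁+y₁q)`, `c₅ = u^(y₁+x₁q)`, `c₂ = u^(x₃+y₃q)`, `c₄ = u^(y₃+x₃q)`, `c₁ = u^((q+1)a₂)`, `c₃ = u^((q+1)a₄)` (`e6m_nc_par`).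
Then `χ_r(c) = u^(α + β q)` with `α = e₀x₁+e₅y₁+e₂x₃+e₄y₃+e₁a₂+e₃a₄`, `β = e₀y₁+e₅x₁+e₂y₃+e₄x₃+e₁a₂+e₃a₄` (`e6m_nc_char`).

`e6m_nc_table` (by `decide`): for all `i ≠ j` the vector `v = e6m_nc_wit i j` has `α_j = β_j = 0` and `(α_i, β_i) ∈ {-1,0,1}² ∖ {0}`.
Since `0 < |α + β q| ≤ q + 1 < q² - 1` for `q ≥ 3`: `χ_j(c) = 1` and `χ_i(c) ≠ 1` (`e6m_nc_main`): the torus element with
parameters `c` centralizes `U j` and acts fixed-point-freely on `U i`.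
`e6m_nc_scal_main`: for every `k` a vector with `χ_k(c) = u` (short classes) resp. `u^(q+1)` (long classes): all scalars occur.
-/

namespace Cfsg.Agent.E6M

def e6m_nc_root : List ℕ := [46, 47, 36, 49, 39, 65, 48, 64, 63, 71, 58, 68, 53, 70, 52, 55, 60, 69, 40, 59, 51, 44, 57, 42]

def e6m_nc_cartL : List (List ℤ) :=
  [[0, 2, 0, -1, 0, 0],
   [0, 1, -1, 1, -1, 0],
   [0, 0, 0, 0, -1, 2],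
   [0, 1, -1, 0, 0, 1],
   [0, -1, -1, 2, -1, 0],
   [1, 0, -1, 1, -1, 1],
   [0, 1, -1, 0, 1, -1],
   [1, 0, -1, 1, 0, -1],
   [1, 1, 0, -1, 0, 1],
   [0, 1, 0, 0, 0, 0],
   [1, -1, 0, 1, -1, 0],
   [0, 0, 1, 0, -1, 1],
   [-1, 0, 0, 1, 0, -1],
   [0, -1, 0, 1, 0, 0],
   [-1, 1, 1, -1, 0, 1],
   [-1, 0, 0, 0, 1, 0],
   [1, -1, 0, 0, 0, 1],
   [0, 0, 1, -1, 1, 0],
   [0, -1, -1, 1, 1, -1],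
   [1, -1, 0, 0, 1, -1],
   [-1, 1, 1, -1, 1, -1],
   [-1, -1, 1, 0, 1, -1],
   [1, 0, 1, -1, 0, 0],
   [-1, 0, 2, -1, 0, 0]]

def e6m_nc_witL : List (List (List ℤ)) :=
  [[[0, 0, 0, 0, 0, 0], [0, 0, -1, 0, 0, -1], [0, 0, 0, 0, 0, -1], [0, 0, 0, 0, 0, -1], [0, 0, -2, 0, 0, -1], [-1, 0, 0, 0, 0, 1], [0, 0, 0, 0, 0, -1], [0, 0, -1, -1, 0, -1], [-1, 0, 0, 0, 0, -1], [0, 0, 0, 0, 0, -1], [0, 0, 0, 0, -1, -1], [0, 0, 0, 0, 0, -1], [-1, 0, 0, 0, 0, -1], [0, 0, 0, 0, -1, -1], [0, 0, 0, 0, -1, -1], [0, 0, 0, 0, 0, -1], [0, 0, 0, 0, 0, -1], [0, 0, -1, 0, 0, -1], [0, 0, 0, 0, -1, -1], [0, 0, 0, 0, 0, -1], [-1, 0, 0, 0, 0, 1], [0, 0, 0, 0, 0, -1], [-1, -1, 0, 0, 0, -1], [-1, -1, 0, 0, 0, 1]],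
   [[0, 0, -1, 0, 0, 0], [0, 0, 0, 0, 0, 0], [0, 0, 0, 0, -1, 0], [0, 0, 0, 0, 0, -1], [0, 0, -2, 0, 0, -1], [0, 0, 0, 0, -1, 0], [0, 0, 0, 0, 0, -1], [0, 0, 0, 0, -1, 0], [0, 0, -1, 0, 0, 0], [0, 0, -1, 0, 0, 0], [-1, 0, 0, -1, 0, 0], [0, 0, 0, 0, -1, 0], [0, 0, -1, 0, 0, 0], [0, 0, -1, 0, 0, 0], [0, 0, -1, -1, 0, -1], [0, 0, 0, 0, -1, 0], [0, 0, -1, 0, 0, 0], [0, 0, 0, 0, -1, 0], [-1, -1, 0, 0, 0, -1], [0, 0, 0, 0, 0, -1], [-1, 0, -1, 0, 0, 0], [0, 0, 0, 0, 0, -1], [0, 0, 0, 0, -1, 0], [0, 0, 0, 0, -1, 0]],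
   [[0, 0, -1, 0, 0, 0], [0, 0, -1, 0, -1, 0], [0, 0, 0, 0, 0, 0], [0, 0, -1, -1, -1, 0], [0, 0, -1, 0, 1, 0], [-1, 0, -1, 0, 0, 0], [0, 0, -1, -1, 0, 0], [-1, 0, -1, 1, 0, 0], [0, 0, -1, 0, 0, 0], [0, 0, -1, 0, 0, 0], [0, 0, -1, -1, 0, -1], [0, 0, -1, -1, 0, 0], [0, 0, -1, 0, 0, 0], [0, 0, -1, 0, 0, 0], [-1, 0, -1, 1, 0, 0], [-1, -1, -1, -1, 0, 0], [0, 0, -1, 0, 0, 0], [0, 0, -1, 0, 0, -1], [0, 0, -1, -1, 0, 0], [-1, 0, -1, 1, 0, 0], [-1, 0, -1, 0, 0, 0], [-1, 0, -1, 0, 0, 0], [0, 0, -1, -1, 0, -1], [0, 0, -1, -1, 0, -2]],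
   [[-1, 0, 0, 0, 0, 0], [-1, 0, 0, 0, 0, 0], [0, 0, 0, 0, -1, 0], [0, 0, 0, 0, 0, 0], [-1, 0, 0, 0, 0, 0], [0, 0, 0, 0, -1, 0], [0, 0, -1, -1, 0, 0], [0, 0, 0, 0, -1, 0], [0, 0, -1, 0, 0, 0], [-1, 0, 0, 0, 0, 0], [0, 0, 0, 0, -1, -1], [0, 0, 0, 0, -1, 0], [0, 0, -1, 0, 0, 0], [-1, 0, 0, 0, 0, 0], [-1, -1, 0, 0, 0, 0], [0, 0, 0, 0, -1, 0], [0, 0, -1, 0, 0, 0], [-1, 0, 0, 0, 0, 0], [0, 0, -1, -1, 0, 0], [-1, -1, 0, 0, 0, 0], [-1, 0, -1, 0, 0, 0], [-1, 0, -1, 0, 0, 0], [0, 0, 0, 0, -1, 0], [0, 0, 0, 0, -1, 0]],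
   [[0, 0, -1, 0, 0, 0], [0, 0, -1, 0, 0, -1], [0, 0, 0, 0, -1, 0], [-1, 0, 0, -1, 0, 0], [0, 0, 0, 0, 0, 0], [0, 0, 0, 0, -1, 0], [-1, -1, 0, 0, -1, 0], [0, 0, 0, 0, -1, 0], [0, 0, -1, 0, 0, 0], [0, 0, -1, 0, 0, 0], [-1, 0, 0, -1, 0, 0], [0, 0, 0, 0, -1, 0], [0, 0, -1, 0, 0, 0], [0, 0, -1, 0, 0, 0], [0, 0, 0, 0, -1, -1], [0, 0, 0, 0, -1, 0], [0, 0, -1, 0, 0, 0], [0, 0, 0, 0, -1, 0], [0, 0, 0, 0, -1, -1], [0, 0, -1, -1, -1, -1], [-1, 0, -1, 0, 0, 0], [-1, 0, -1, 0, 0, 0], [0, 0, 0, 0, -1, 0], [0, 0, 0, 0, -1, 0]],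
   [[-1, 0, 0, 0, 0, 0], [-1, 0, 0, 0, 0, 0], [0, 0, 0, 0, 0, -1], [0, 0, 0, 0, 0, -1], [-1, 0, 0, 0, 0, 0], [0, 0, 0, 0, 0, 0], [0, 0, 0, 0, 0, -1], [-1, 0, -1, 1, 0, 0], [0, 0, -1, 0, 0, 0], [-1, 0, 0, 0, 0, 0], [0, 0, 0, 0, -1, -1], [0, 0, 0, 0, 0, -1], [0, 0, -1, 0, 0, 0], [-1, 0, 0, 0, 0, 0], [0, 0, 0, 0, -1, -1], [0, 0, 0, 0, 0, -1], [0, 0, -1, 0, 0, 0], [-1, 0, 0, 0, 0, 0], [0, 0, 0, 0, -1, -1], [0, 0, 0, 0, 0, -1], [-1, 0, 0, 0, -1, 0], [0, 0, 0, 0, 0, -1], [-1, 0, 0, -1, 0, -1], [-2, 0, -1, 0, 0, 0]],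
   [[-1, 0, 0, 0, 0, 0], [-1, 0, 0, 0, 0, 0], [0, 0, 0, 0, -1, 0], [0, 0, -1, -1, -1, 0], [-1, 0, 0, 0, 0, 0], [0, 0, 0, 0, -1, 0], [0, 0, 0, 0, 0, 0], [0, 0, 0, 0, -1, 0], [0, 0, -1, 0, 0, 0], [-1, 0, 0, 0, 0, 0], [0, 0, 0, 0, -1, -1], [0, 0, 0, 0, -1, 0], [0, 0, -1, 0, 0, 0], [-1, 0, 0, 0, 0, 0], [-1, -1, 0, 0, 0, 0], [0, 0, 0, 0, -1, 0], [0, 0, -1, 0, 0, 0], [-1, 0, 0, 0, 0, 0], [0, 0, 0, 0, -1, -1], [-1, -1, 0, 0, 0, 0], [-1, 0, -1, 0, 0, 0], [-1, 0, -1, 0, 0, 0], [0, 0, 0, 0, -1, 0], [0, 0, 0, 0, -1, 0]],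
   [[-1, 0, 0, 0, 0, 0], [-1, 0, 0, 0, 0, 0], [0, 0, 0, 0, 0, -1], [0, 0, 0, 0, 0, -1], [-1, 0, 0, 0, 0, 0], [-1, 0, -1, 0, 0, 0], [0, 0, 0, 0, 0, -1], [0, 0, 0, 0, 0, 0], [0, 0, -1, 0, 0, 0], [-1, 0, 0, 0, 0, 0], [0, 0, 0, 0, -1, -1], [0, 0, 0, 0, 0, -1], [0, 0, -1, 0, 0, 0], [-1, 0, 0, 0, 0, 0], [0, 0, 0, 0, -1, -1], [0, 0, 0, 0, 0, -1], [0, 0, -1, 0, 0, 0], [-1, 0, 0, 0, 0, 0], [0, 0, -1, -1, 0, 0], [0, 0, 0, 0, 0, -1], [-1, 0, -1, 0, 0, 0], [0, 0, 0, 0, 0, -1], [-1, -1, 0, 0, 0, -1], [-1, -1, 0, 0, 0, 1]],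
   [[-1, 0, 0, 0, 0, 0], [-1, 0, 0, 0, 0, 0], [0, 0, 0, 0, -1, 0], [0, 0, 0, 0, 0, -1], [-1, 0, 0, 0, 0, 0], [0, 0, 0, 0, -1, 0], [0, 0, 0, 0, 0, -1], [0, 0, 0, 0, -1, 0], [0, 0, 0, 0, 0, 0], [-1, 0, 0, 0, 0, 0], [-1, 0, 0, -1, 0, 0], [0, 0, 0, 0, -1, 0], [0, 0, 0, 0, -1, 0], [-1, 0, 0, 0, 0, 0], [-1, 0, -1, 1, 0, 0], [0, 0, 0, 0, -1, 0], [0, 0, 0, 0, 0, -1], [-1, 0, 0, 0, 0, 0], [-1, -1, 0, 0, 0, -1], [0, 0, 0, 0, 0, -1], [-1, 0, -1, 0, 0, 0], [0, 0, 0, 0, 0, -1], [0, 0, 0, 0, -1, 0], [0, 0, 0, 0, -1, 0]],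
   [[0, 0, 0, 0, -1, -2], [0, 0, -1, 0, -1, 0], [0, 0, 0, 0, -1, 0], [-1, -1, 0, 0, 1, 0], [0, 0, -1, 0, 1, 0], [0, 0, 0, 0, -1, 0], [-1, -1, 0, 0, -1, 0], [0, 0, 0, 0, -1, 0], [-1, 0, 0, 0, 1, 0], [0, 0, 0, 0, 0, 0], [0, 0, 0, 0, -1, -1], [0, 0, 0, 0, -1, 0], [0, 0, 0, 0, -1, 0], [0, 0, 0, 0, -1, -1], [0, 0, 0, 0, -1, -1], [0, 0, 0, 0, -1, 0], [-1, 0, 0, 0, -1, 0], [0, 0, 0, 0, -1, 0], [0, 0, 0, 0, -1, -1], [0, 0, -1, -1, -1, 0], [-1, 0, 0, 0, -1, 0], [-1, 0, 0, 0, 1, 0], [0, 0, 0, 0, -1, 0], [0, 0, 0, 0, -1, 0]],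
   [[-1, 0, 0, 0, 0, 0], [-1, 0, 0, 0, 0, 0], [0, 0, 0, 0, -1, 0], [0, 0, 0, 0, 0, -1], [-1, 0, 0, 0, 0, 0], [0, 0, 0, 0, -1, 0], [0, 0, 0, 0, 0, -1], [0, 0, 0, 0, -1, 0], [0, 0, -1, 0, 0, 0], [-1, 0, 0, 0, 0, 0], [0, 0, 0, 0, 0, 0], [0, 0, 0, 0, -1, 0], [0, 0, -1, 0, 0, 0], [-1, 0, 0, 0, 0, 0], [-1, -1, 0, 0, 0, 0], [0, 0, 0, 0, -1, 0], [0, 0, -1, 0, 0, 0], [-1, 0, 0, 0, 0, 0], [0, 0, -1, -1, 0, 0], [0, 0, 0, 0, 0, -1], [-1, 0, -1, 0, 0, 0], [0, 0, 0, 0, 0, -1], [0, 0, 0, 0, -1, 0], [0, 0, 0, 0, -1, 0]],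
   [[-1, 0, 0, 0, 0, 0], [-1, 0, 0, 0, 0, 0], [-1, -1, -2, -2, 0, 0], [-1, -1, 0, 0, 1, 0], [-1, 0, 0, 0, 0, 0], [-1, 0, -1, 0, 0, 0], [-1, -1, 0, 0, -1, 0], [-1, -1, 0, 0, 0, 0], [0, 0, -1, 0, 0, 0], [-1, 0, 0, 0, 0, 0], [-1, -1, 0, 0, -1, 0], [0, 0, 0, 0, 0, 0], [0, 0, -1, 0, 0, 0], [-1, 0, 0, 0, 0, 0], [-1, -1, 0, 0, 0, 0], [-1, -1, -1, -1, 0, 0], [0, 0, -1, 0, 0, 0], [-1, 0, 0, 0, 0, 0], [-1, -1, 0, 0, 0, -1], [-1, -1, 0, 0, 0, 0], [-1, 0, -1, 0, 0, 0], [-1, 0, -1, 0, 0, 0], [-1, -1, 0, 0, 0, -1], [-2, 0, -1, 0, 0, 0]],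
   [[-1, 0, 0, 0, 0, 0], [-1, 0, 0, 0, 0, 0], [0, 0, 0, 0, 0, -1], [0, 0, 0, 0, 0, -1], [-1, 0, 0, 0, 0, 0], [-1, 0, -1, 0, 0, 0], [0, 0, 0, 0, 0, -1], [-1, 0, -1, 1, 0, 0], [-1, 0, 0, 0, 1, 0], [-1, 0, 0, 0, 0, 0], [-1, 0, 0, -1, 0, 0], [0, 0, 0, 0, 0, -1], [0, 0, 0, 0, 0, 0], [-1, 0, 0, 0, 0, 0], [0, 0, 0, 0, -1, -1], [0, 0, 0, 0, 0, -1], [0, 0, 0, 0, 0, -1], [-1, 0, 0, 0, 0, 0], [0, 0, 0, 0, -1, -1], [0, 0, 0, 0, 0, -1], [-1, 0, -1, 0, 0, 0], [0, 0, 0, 0, 0, -1], [-1, 0, 1, 0, 0, 0], [-1, 1, -1, 0, 0, -1]],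
   [[0, 0, 0, 0, -1, -2], [0, 0, -1, 0, -1, 0], [0, 0, 0, 0, -1, 0], [0, 0, 0, 0, 0, -1], [0, 0, -1, 0, 1, 0], [0, 0, 0, 0, -1, 0], [0, 0, 0, 0, 0, -1], [0, 0, 0, 0, -1, 0], [-1, 0, 0, 0, 0, -1], [0, 0, 0, 0, 0, -1], [-1, -1, 0, 0, -1, 0], [0, 0, 0, 0, -1, 0], [0, 0, 0, 0, -1, 0], [0, 0, 0, 0, 0, 0], [0, 0, -1, -1, 0, -1], [0, 0, 0, 0, -1, 0], [0, 0, 0, 0, 0, -1], [0, 0, 0, 0, -1, 0], [-1, -1, 0, 0, 0, -1], [0, 0, 0, 0, 0, -1], [-1, 0, 0, 0, -1, 0], [0, 0, 0, 0, 0, -1], [0, 0, 0, 0, -1, 0], [0, 0, 0, 0, -1, 0]],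
   [[-1, 0, 0, 0, 0, 0], [-1, 0, 0, 0, 0, 0], [0, 0, 0, 0, -1, 0], [0, 0, 0, 0, 0, -1], [-1, 0, 0, 0, 0, 0], [0, 0, 0, 0, -1, 0], [0, 0, 0, 0, 0, -1], [0, 0, 0, 0, -1, 0], [0, 0, -1, 0, 0, 0], [-1, 0, 0, 0, 0, 0], [-1, -1, 0, 0, -1, 0], [0, 0, 0, 0, -1, 0], [0, 0, -1, 0, 0, 0], [-1, 0, 0, 0, 0, 0], [0, 0, 0, 0, 0, 0], [0, 0, 0, 0, -1, 0], [0, 0, -1, 0, 0, 0], [-1, 0, 0, 0, 0, 0], [0, 0, -1, -1, 0, 0], [0, 0, 0, 0, 0, -1], [-1, 0, -1, 0, 0, 0], [0, 0, 0, 0, 0, -1], [0, 0, 0, 0, -1, 0], [0, 0, 0, 0, -1, 0]],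
   [[-1, 0, 0, 0, 0, 0], [-1, 0, 0, 0, 0, 0], [-1, -1, -2, -2, 0, 0], [-1, -1, 0, 0, 1, 0], [-1, 0, 0, 0, 0, 0], [-1, 0, -1, 0, 0, 0], [0, 0, -1, -1, 0, 0], [-1, -1, 0, 0, 0, 0], [0, 0, -1, 0, 0, 0], [-1, 0, 0, 0, 0, 0], [-1, -1, 0, 0, -1, 0], [0, 0, -1, -1, 0, 0], [0, 0, -1, 0, 0, 0], [-1, 0, 0, 0, 0, 0], [-1, -1, 0, 0, 0, 0], [0, 0, 0, 0, 0, 0], [0, 0, -1, 0, 0, 0], [-1, 0, 0, 0, 0, 0], [0, 0, -1, -1, 0, 0], [-1, -1, 0, 0, 0, 0], [-1, 0, -1, 0, 0, 0], [-1, 0, -1, 0, 0, 0], [-1, 0, 1, 0, 0, 0], [-1, -1, 0, 0, 0, 1]],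
   [[-1, 0, 0, 0, 0, 0], [-1, 0, 0, 0, 0, 0], [0, 0, 0, 0, -1, 0], [-1, 0, 0, -1, 0, 0], [-1, 0, 0, 0, 0, 0], [0, 0, 0, 0, -1, 0], [-1, -1, 0, 0, -1, 0], [0, 0, 0, 0, -1, 0], [-1, 0, 0, 0, 0, -1], [-1, 0, 0, 0, 0, 0], [-1, 0, 0, -1, 0, 0], [0, 0, 0, 0, -1, 0], [0, 0, 0, 0, -1, 0], [-1, 0, 0, 0, 0, 0], [0, 0, 0, 0, -1, -1], [0, 0, 0, 0, -1, 0], [0, 0, 0, 0, 0, 0], [-1, 0, 0, 0, 0, 0], [0, 0, 0, 0, -1, -1], [-1, 0, -1, 1, 0, 0], [-1, 0, -1, 0, 0, 0], [-1, 0, -1, 0, 0, 0], [0, 0, 0, 0, -1, 0], [0, 0, 0, 0, -1, 0]],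
   [[0, 0, -1, 0, 0, 0], [0, 0, -1, 0, -1, 0], [0, 0, 0, 0, 0, -1], [0, 0, 0, 0, 0, -1], [0, 0, -1, 0, 1, 0], [-1, 0, -1, 0, 0, 0], [0, 0, 0, 0, 0, -1], [0, 0, -1, -1, 0, -1], [0, 0, -1, 0, 0, 0], [0, 0, -1, 0, 0, 0], [-1, 0, 0, -1, 0, 0], [0, 0, 0, 0, 0, -1], [0, 0, -1, 0, 0, 0], [0, 0, -1, 0, 0, 0], [0, 0, 0, 0, -1, -1], [0, 0, 0, 0, 0, -1], [0, 0, -1, 0, 0, 0], [0, 0, 0, 0, 0, 0], [0, 0, 0, 0, -1, -1], [0, 0, 0, 0, 0, -1], [-1, 0, -1, 0, 0, 0], [0, 0, 0, 0, 0, -1], [-1, 0, 1, 0, 0, 0], [-2, 0, -1, 0, 0, 0]],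
   [[-1, 0, 0, 0, 0, 0], [-1, 0, 0, 0, 0, 0], [0, 0, 0, 0, -1, 0], [0, 0, 0, 0, 0, -1], [-1, 0, 0, 0, 0, 0], [0, 0, 0, 0, -1, 0], [0, 0, 0, 0, 0, -1], [0, 0, 0, 0, -1, 0], [0, 0, -1, 0, 0, 0], [-1, 0, 0, 0, 0, 0], [0, 0, -1, -1, 0, -1], [0, 0, 0, 0, -1, 0], [0, 0, -1, 0, 0, 0], [-1, 0, 0, 0, 0, 0], [-1, -1, 0, 0, 0, 0], [0, 0, 0, 0, -1, 0], [0, 0, -1, 0, 0, 0], [-1, 0, 0, 0, 0, 0], [0, 0, 0, 0, 0, 0], [0, 0, 0, 0, 0, -1], [-1, 0, -1, 0, 0, 0], [0, 0, 0, 0, 0, -1], [0, 0, 0, 0, -1, 0], [0, 0, 0, 0, -1, 0]],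
   [[-1, 0, 0, 0, 0, 0], [-1, 0, 0, 0, 0, 0], [0, 0, 0, 0, -1, 0], [-1, -1, 0, 0, 1, 0], [-1, 0, 0, 0, 0, 0], [0, 0, 0, 0, -1, 0], [0, 0, -1, -1, 0, 0], [0, 0, 0, 0, -1, 0], [0, 0, -1, 0, 0, 0], [-1, 0, 0, 0, 0, 0], [0, 0, 0, 0, -1, -1], [0, 0, 0, 0, -1, 0], [0, 0, -1, 0, 0, 0], [-1, 0, 0, 0, 0, 0], [0, 0, 0, 0, -1, -1], [0, 0, 0, 0, -1, 0], [0, 0, -1, 0, 0, 0], [-1, 0, 0, 0, 0, 0], [0, 0, -1, -1, 0, 0], [0, 0, 0, 0, 0, 0], [-1, 0, -1, 0, 0, 0], [-1, 0, -1, 0, 0, 0], [0, 0, 0, 0, -1, 0], [0, 0, 0, 0, -1, 0]],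
   [[-1, 0, 0, 0, 0, 0], [-1, 0, 0, 0, 0, 0], [0, 0, 0, 0, -1, 0], [0, 0, 0, 0, 0, -1], [-1, 0, 0, 0, 0, 0], [0, 0, 0, 0, -1, 0], [0, 0, 0, 0, 0, -1], [0, 0, 0, 0, -1, 0], [0, 0, -1, 0, 0, 0], [-1, 0, 0, 0, 0, 0], [-1, -1, 0, 0, -1, 0], [0, 0, 0, 0, -1, 0], [0, 0, -1, 0, 0, 0], [-1, 0, 0, 0, 0, 0], [-1, 0, -1, 1, 0, 0], [0, 0, 0, 0, -1, 0], [0, 0, -1, 0, 0, 0], [-1, 0, 0, 0, 0, 0], [-1, 1, -1, 0, 0, 0], [0, 0, 0, 0, 0, -1], [0, 0, 0, 0, 0, 0], [0, 0, 0, 0, 0, -1], [0, 0, 0, 0, -1, 0], [0, 0, 0, 0, -1, 0]],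
   [[-1, 0, 0, 0, 0, 0], [-1, 0, 0, 0, 0, 0], [0, 0, 0, 0, -1, 0], [-1, -1, 0, 0, 1, 0], [-1, 0, 0, 0, 0, 0], [0, 0, 0, 0, -1, 0], [-1, 1, -1, 0, 0, 0], [0, 0, 0, 0, -1, 0], [0, 0, -1, 0, 0, 0], [-1, 0, 0, 0, 0, 0], [0, 0, 0, 0, -1, -1], [0, 0, 0, 0, -1, 0], [0, 0, -1, 0, 0, 0], [-1, 0, 0, 0, 0, 0], [0, 0, 0, 0, -1, -1], [0, 0, 0, 0, -1, 0], [0, 0, -1, 0, 0, 0], [-1, 0, 0, 0, 0, 0], [0, 0, 0, 0, -1, -1], [-1, 0, -1, 1, 0, 0], [-1, 0, 0, 0, 0, 1], [0, 0, 0, 0, 0, 0], [0, 0, 0, 0, -1, 0], [0, 0, 0, 0, -1, 0]],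
   [[-1, 0, 0, 0, 0, 0], [-1, 0, 0, 0, 0, 0], [0, 0, 0, 0, 0, -1], [0, 0, 0, 0, 0, -1], [-1, 0, 0, 0, 0, 0], [-1, 0, 0, -1, 0, 0], [0, 0, 0, 0, 0, -1], [-1, -1, 0, 0, 0, 0], [0, 0, -1, 0, 0, 0], [-1, 0, 0, 0, 0, 0], [-1, 0, 0, -1, 0, 0], [0, 0, 0, 0, 0, -1], [0, 0, -1, 0, 0, 0], [-1, 0, 0, 0, 0, 0], [-1, -1, 0, 0, 0, 0], [0, 0, 0, 0, 0, -1], [0, 0, -1, 0, 0, 0], [-1, 0, 0, 0, 0, 0], [0, 0, -1, -1, 0, 0], [0, 0, 0, 0, 0, -1], [-1, 0, 0, -1, 0, 0], [0, 0, 0, 0, 0, -1], [0, 0, 0, 0, 0, 0], [0, 0, -1, -1, 0, -2]],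
   [[-1, 0, 0, 0, 0, 0], [-1, 0, 0, 0, 0, 0], [0, 0, 0, 0, 0, -1], [0, 0, 0, 0, 0, -1], [-1, 0, 0, 0, 0, 0], [-1, 0, -1, 0, 0, 0], [0, 0, 0, 0, 0, -1], [-1, -1, 0, 0, 0, 0], [-1, 0, 0, 0, 1, 0], [-1, 0, 0, 0, 0, 0], [0, 0, 0, 0, -1, -1], [0, 0, 0, 0, 0, -1], [-1, 1, 0, 0, 0, 0], [-1, 0, 0, 0, 0, 0], [-1, -1, 0, 0, 0, 0], [0, 0, 0, 0, 0, -1], [0, 0, 0, 0, 0, -1], [-1, 0, 0, 0, 0, 0], [0, 0, 0, 0, -1, -1], [0, 0, 0, 0, 0, -1], [-1, 0, -1, 0, 0, 0], [0, 0, 0, 0, 0, -1], [0, 0, -1, -1, 0, -1], [0, 0, 0, 0, 0, 0]]]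

def e6m_nc_scalL : List (List ℤ) :=
  [[0, 0, 0, 0, 0, -1],
   [0, 0, -1, 0, 0, 0],
   [0, 0, 0, -1, 0, 0],
   [0, 0, -1, 0, 0, 0],
   [0, 0, -1, 0, 0, 0],
   [0, 0, -1, 0, 0, 0],
   [0, -1, 0, 0, 0, 0],
   [0, 0, -1, 0, 0, 0],
   [0, 0, 0, 0, 0, -1],
   [0, 0, 0, 0, 1, 0],
   [0, 0, 0, -1, 0, 0],
   [0, 1, 0, 0, 0, 0],
   [-1, 0, 0, 0, 0, 0],
   [0, 0, 0, 0, -1, 0],
   [0, 0, 1, 0, 0, 0],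
   [-1, 0, 0, 0, 0, 0],
   [0, 0, 0, 0, -1, 0],
   [0, 0, 0, 0, 0, -1],
   [0, -1, 0, 0, 0, 0],
   [0, 0, 0, 1, 0, 0],
   [-1, 0, 0, 0, 0, 0],
   [-1, 0, 0, 0, 0, 0],
   [0, 0, 1, 0, 0, 0],
   [-1, 0, 0, 0, 0, 0]]

def e6m_nc_longL : List Bool := [true, true, false, false, true, true, false, false, true, true, false, false, true, true, false, false, true, true, false, false, true, true, false, false]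


/-- `⟨r_k, α_l^∨⟩`. -/
def e6m_nc_cart (k l : ℕ) : ℤ := (e6m_nc_cartL.getD k []).getD l 0

/-- the witness vector `(x₁,y₁,x₃,y₃,a₂,a₄)` of the ordered pair `(i, j)`. -/
def e6m_nc_wit (i j l : ℕ) : ℤ := ((e6m_nc_witL.getD i []).getD j []).getD l 0

/-- the vector giving the scalar `u` (short) resp. `u^(q+1)` (long) on `U k`. -/
def e6m_nc_scal (k l : ℕ) : ℤ := (e6m_nc_scalL.getD k []).getD l 0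

/-- `U k` is a long root group (isomorphic to the fixed field). -/
def e6m_nc_long (k : ℕ) : Bool := e6m_nc_longL.getD k false

/-- the exponent of `u` in `χ_r(c)`. -/
def e6m_nc_alpha (e v : ℕ → ℤ) : ℤ := e 0 * v 0 + e 5 * v 1 + e 2 * v 2 + e 4 * v 3 + e 1 * v 4 + e 3 * v 5

/-- the exponent of `u^q` in `χ_r(c)`. -/
def e6m_nc_beta (e v : ℕ → ℤ) : ℤ := e 0 * v 1 + e 5 * v 0 + e 2 * v 3 + e 4 * v 2 + e 1 * v 4 + e 3 * v 5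

set_option maxRecDepth 100000 in
theorem e6m_nc_table : ∀ i < 24, ∀ j < 24, i ≠ j →
    e6m_nc_alpha (e6m_nc_cart j) (e6m_nc_wit i j) = 0 ∧ e6m_nc_beta (e6m_nc_cart j) (e6m_nc_wit i j) = 0 ∧
    |e6m_nc_alpha (e6m_nc_cart i) (e6m_nc_wit i j)| ≤ 1 ∧ |e6m_nc_beta (e6m_nc_cart i) (e6m_nc_wit i j)| ≤ 1 ∧
    ¬ (e6m_nc_alpha (e6m_nc_cart i) (e6m_nc_wit i j) = 0 ∧ e6m_nc_beta (e6m_nc_cart i) (e6m_nc_wit i j) = 0) := by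
  decide

set_option maxRecDepth 100000 in
theorem e6m_nc_scal_table : ∀ k < 24,
    e6m_nc_alpha (e6m_nc_cart k) (e6m_nc_scal k) = 1 ∧
    e6m_nc_beta (e6m_nc_cart k) (e6m_nc_scal k) = (if e6m_nc_long k then 1 else 0) := by
  decide

set_option maxRecDepth 100000 in
/-- the table `e6m_nc_cart` is the table of Cartan integers of `chevE6` at the roots `e6m_nc_root`. -/
theorem e6m_nc_cart_eq : ∀ k < 24, ∀ l < 6,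
    Cfsg.Lie.chevE6.cartan l (e6m_nc_root.getD k 0) = e6m_nc_cart k l := by
  decide

section field

variable {K : Type*} [Field K]

/-- the parameter vector `(c₀,…,c₅)` attached to `u`, `q` and `v = (x₁,y₁,x₃,y₃,a₂,a₄)`. -/
def e6m_nc_par (u : Kˣ) (q : ℕ) (v : ℕ → ℤ) (l : ℕ) : Kˣ :=
  if l = 0 then u ^ (v 0 + v 1 * (q : ℤ)) else if l = 1 then u ^ (((q : ℤ) + 1) * v 4)
  else if l = 2 then u ^ (v 2 + v 3 * (q : ℤ)) else if l = 3 then u ^ (((q : ℤ) + 1) * v 5)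
  else if l = 4 then u ^ (v 3 + v 2 * (q : ℤ)) else if l = 5 then u ^ (v 1 + v 0 * (q : ℤ)) else 1

/-- the character of a class with Cartan integers `e` at the parameter vector of `v`. -/
theorem e6m_nc_char (u : Kˣ) (q : ℕ) (e v : ℕ → ℤ) :
    ((List.range 6).map (fun l => e6m_nc_par u q v l ^ e l)).prod =
      u ^ (e6m_nc_alpha e v + e6m_nc_beta e v * (q : ℤ)) := by
  have h6 : List.range 6 = [0, 1, 2, 3, 4, 5] := by decide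
  rw [h6]
  simp only [List.map_cons, List.map_nil, List.prod_cons, List.prod_nil, mul_one]
  have e0 : e6m_nc_par u q v 0 = u ^ (v 0 + v 1 * (q : ℤ)) := by simp [e6m_nc_par]
  have e1 : e6m_nc_par u q v 1 = u ^ (((q : ℤ) + 1) * v 4) := by simp [e6m_nc_par]
  have e2 : e6m_nc_par u q v 2 = u ^ (v 2 + v 3 * (q : ℤ)) := by simp [e6m_nc_par]
  have e3 : e6m_nc_par u q v 3 = u ^ (((q : ℤ) + 1) * v 5) := by simp [e6m_nc_par]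
  have e4 : e6m_nc_par u q v 4 = u ^ (v 3 + v 2 * (q : ℤ)) := by simp [e6m_nc_par]
  have e5 : e6m_nc_par u q v 5 = u ^ (v 1 + v 0 * (q : ℤ)) := by simp [e6m_nc_par]
  rw [e0, e1, e2, e3, e4, e5]
  simp only [← zpow_mul, ← zpow_add]
  congr 1
  unfold e6m_nc_alpha e6m_nc_beta
  ring

/-- the parameter vector is fixed by the twisted Frobenius. -/
theorem e6m_nc_par_frob {q : ℕ} (u : Kˣ) (hu : u ^ (q ^ 2) = u) (v : ℕ → ℤ) :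
    e6m_nc_par u q v 0 ^ q = e6m_nc_par u q v 5 ∧ e6m_nc_par u q v 2 ^ q = e6m_nc_par u q v 4 ∧
    e6m_nc_par u q v 5 ^ q = e6m_nc_par u q v 0 ∧ e6m_nc_par u q v 4 ^ q = e6m_nc_par u q v 2 ∧
    e6m_nc_par u q v 1 ^ q = e6m_nc_par u q v 1 ∧ e6m_nc_par u q v 3 ^ q = e6m_nc_par u q v 3 := by
  have hz : ∀ y : ℤ, u ^ (((q : ℤ) ^ 2) * y) = u ^ y := by
    intro y
    have h1 : u ^ ((q : ℤ) ^ 2) = u := by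
      have h2 : ((q : ℤ) ^ 2) = ((q ^ 2 : ℕ) : ℤ) := by push_cast; rfl
      rw [h2, zpow_natCast, hu]
    rw [zpow_mul, h1]
  have key : ∀ x y : ℤ, (u ^ (x + y * (q : ℤ))) ^ q = u ^ (y + x * (q : ℤ)) := by
    intro x y
    rw [← zpow_natCast, ← zpow_mul]
    have : (x + y * (q : ℤ)) * (q : ℤ) = x * q + ((q : ℤ) ^ 2) * y := by ring
    rw [this, zpow_add, hz, ← zpow_add]
    congr 1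
    ring
  have key2 : ∀ a : ℤ, (u ^ (((q : ℤ) + 1) * a)) ^ q = u ^ (((q : ℤ) + 1) * a) := by
    intro a
    rw [← zpow_natCast, ← zpow_mul]
    have : ((q : ℤ) + 1) * a * (q : ℤ) = a * q + ((q : ℤ) ^ 2) * a := by ring
    rw [this, zpow_add, hz, ← zpow_add]
    congr 1
    ring
  have e0 : e6m_nc_par u q v 0 = u ^ (v 0 + v 1 * (q : ℤ)) := by simp [e6m_nc_par]
  have e1 : e6m_nc_par u q v 1 = u ^ (((q : ℤ) + 1) * v 4) := by simp [e6m_nc_par]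
  have e2 : e6m_nc_par u q v 2 = u ^ (v 2 + v 3 * (q : ℤ)) := by simp [e6m_nc_par]
  have e3 : e6m_nc_par u q v 3 = u ^ (((q : ℤ) + 1) * v 5) := by simp [e6m_nc_par]
  have e4 : e6m_nc_par u q v 4 = u ^ (v 3 + v 2 * (q : ℤ)) := by simp [e6m_nc_par]
  have e5 : e6m_nc_par u q v 5 = u ^ (v 1 + v 0 * (q : ℤ)) := by simp [e6m_nc_par]
  rw [e0, e1, e2, e3, e4, e5]
  exact ⟨key _ _, key _ _, key _ _, key _ _, key2 _, key2 _⟩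

/-- a small non-zero exponent `a + b q` does not kill a generator of `Kˣ`, `|K| = q²`, `q ≥ 3`. -/
theorem e6m_nc_zpow_ne_one {q : ℕ} (hq : 3 ≤ q) (u : Kˣ) (hu : orderOf u = q ^ 2 - 1) {a b : ℤ}
    (ha : |a| ≤ 1) (hb : |b| ≤ 1) (hab : ¬ (a = 0 ∧ b = 0)) : u ^ (a + b * (q : ℤ)) ≠ 1 := by
  intro h
  have hdvd : ((orderOf u : ℕ) : ℤ) ∣ a + b * (q : ℤ) := orderOf_dvd_iff_zpow_eq_one.mpr h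
  rw [hu] at hdvd
  have hq2 : (q : ℤ) ^ 2 - 1 = ((q ^ 2 - 1 : ℕ) : ℤ) := by
    have : 1 ≤ q ^ 2 := Nat.one_le_pow _ _ (by omega)
    push_cast [Nat.cast_sub this]
    ring
  rw [← hq2] at hdvd
  have hq' : (3 : ℤ) ≤ q := by exact_mod_cast hq
  obtain ⟨ha1, ha2⟩ := abs_le.mp ha
  obtain ⟨hb1, hb2⟩ := abs_le.mp hb
  have hlt : |a + b * (q : ℤ)| < (q : ℤ) ^ 2 - 1 := by
    rw [abs_lt]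
    constructor <;> nlinarith
  have h0 := Int.eq_zero_of_abs_lt_dvd hdvd hlt
  apply hab
  have hb' : b = -1 ∨ b = 0 ∨ b = 1 := by omega
  rcases hb' with rfl | rfl | rfl
  · exfalso; omega
  · exact ⟨by omega, rfl⟩
  · exfalso; omega

/-- **NC for `²E₆(q)`, `q ≥ 3`**: for `i ≠ j` the parameter vector of `e6m_nc_wit i j` has `χ_j = 1` and `χ_i ≠ 1`. -/
theorem e6m_nc_main {q : ℕ} (hq : 3 ≤ q) (u : Kˣ) (hu : orderOf u = q ^ 2 - 1) :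
    ∀ i < 24, ∀ j < 24, i ≠ j →
      ((List.range 6).map (fun l => e6m_nc_par u q (e6m_nc_wit i j) l ^ e6m_nc_cart j l)).prod = 1 ∧
      ((List.range 6).map (fun l => e6m_nc_par u q (e6m_nc_wit i j) l ^ e6m_nc_cart i l)).prod ≠ 1 := by
  intro i hi j hj hij
  obtain ⟨h1, h2, h3, h4, h5⟩ := e6m_nc_table i hi j hj hij
  constructor
  · rw [e6m_nc_char, h1, h2, zero_mul, add_zero, zpow_zero]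
  · rw [e6m_nc_char]
    exact e6m_nc_zpow_ne_one hq u hu h3 h4 h5

/-- all scalars: the parameter vector of `e6m_nc_scal k` has `χ_k = u` (short) resp. `u^(q+1)` (long). -/
theorem e6m_nc_scal_main (q : ℕ) (u : Kˣ) : ∀ k < 24,
    ((List.range 6).map (fun l => e6m_nc_par u q (e6m_nc_scal k) l ^ e6m_nc_cart k l)).prod =
      if e6m_nc_long k then u ^ ((q : ℤ) + 1) else u := by
  intro k hk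
  obtain ⟨h1, h2⟩ := e6m_nc_scal_table k hk
  rw [e6m_nc_char, h1, h2]
  split_ifs
  · congr 1; ring
  · rw [zero_mul, add_zero, zpow_one]

end field

end Cfsg.Agent.E6M
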