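import Mathlib
import Cfsg.Agent.E6M.NcTab
import Cfsg.Agent.E6M.TwTor
import Cfsg.Agent.E6M.ConcRk1

set_option autoImplicit false
set_option linter.unusedSectionVars false
set_option linter.unusedVariables false

/-!
# S2108, packages P3/P4 (bridge): the torus `H¹` of `²E₆(q)` and the condition (NC) (file `Cfsg/Agent/E6M/TwRootsNC.lean`)

`e6m_twrN_H f = H¹ = (diagonal ⊓ G¹)` as a subgroup of `↥(e6mG f)`.  The 24 root groups enter through an ABSTRACT family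
`x : ℕ → K → GL chevE6.Idx K` with `TwrAct f x`: `x k 0 = 1`, `x k` injective, and for every `σ`-fixed parameter vector `c`
`torusHom c * x k t * (torusHom c)⁻¹ = x k (χ_k(c) * t)` with `χ_k(c) = ∏_l c_l ^ e6m_nc_cart k l` (`e6m_twrN_chi`), and through subgroups
`U k ≤ ↥(e6mG f)` with `g ∈ U k ↔ ∃ t, Adm f (e6m_twrN_len k) t ∧ ↑g = x k t` (`e6m_twrN_len k = (w0clsE6[k]).2`).
Results = the fields `H_comm`, `H_cop`, `norm`, `nc` of `AbRoots ↥(e6mG f) p 24`: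
`e6m_twrN_H_comm`, `e6m_twrN_H_cop`, `e6m_twrN_norm`, `e6m_twrN_nc` (`q ≥ 3`, lead's table `E6M/NcTab.lean`).
-/

namespace Cfsg.Agent.E6M

open Cfsg Cfsg.Lie Cfsg.Agent.Helper7.Chev

variable {K : Type*} [Field K]

/-- the character `χ_k(c) = ∏_l c_l ^ ⟨r_k, α_l^∨⟩` of the `k`-th root group at the parameter vector `c`. -/
def e6m_twrN_chi (k : ℕ) (c : Fin chevE6.rank → Kˣ) : Kˣ :=
  ((List.range 6).map (fun l => extu chevE6.rank c l ^ e6m_nc_cart k l)).prod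

/-- `χ_k(c)` in the form of `tMat_mul_x` (`Helper7/ChevRootCent.lean`) at the root `r_k = e6m_nc_root[k]`. -/
theorem e6m_twrN_chi_coe {k : ℕ} (hk : k < 24) (c : Fin chevE6.rank → Kˣ) :
    ((e6m_twrN_chi k c : Kˣ) : K) =
      ((List.range chevE6.rank).map
        (fun l => extc chevE6.rank c l ^ chevE6.cartan l (e6m_nc_root.getD k 0))).prod := by
  unfold e6m_twrN_chi
  have h6 : List.range chevE6.rank = List.range 6 := rfl
  rw [h6, ← Units.coeHom_apply, map_list_prod, List.map_map]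
  congr 1
  apply List.map_congr_left
  intro l hl
  have hl' : l < 6 := List.mem_range.mp hl
  simp only [Function.comp_apply, Units.coeHom_apply, Units.val_zpow_eq_zpow_val]
  rw [e6m_nc_cart_eq k hk l hl', extu_coe]

/-- the length of the class of the `k`-th root group: `1` (long, parameters in the fixed field) or `2` (short). -/
def e6m_twrN_len (k : ℕ) : ℕ := if e6m_nc_long k then 1 else 2

theorem e6m_twrN_len_eq : ∀ k < 24, e6m_twrN_len k = (w0clsE6.getD k (0, 0)).2 := by decide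

/-- the hypotheses on the parametrisations `x k` of the 24 root groups. -/
structure TwrAct (f : K ≃+* K) (x : ℕ → K → GL chevE6.Idx K) : Prop where
  x_zero : ∀ k < 24, x k 0 = 1
  x_inj : ∀ k < 24, ∀ t t' : K, x k t = x k t' → t = t'
  act : ∀ k < 24, ∀ c : Fin chevE6.rank → Kˣ, sigC T18_E6 f c = c → ∀ t : K,
    torusHom chevE6 K c * x k t * (torusHom chevE6 K c)⁻¹ = x k ((e6m_twrN_chi k c : K) * t)

/-- the torus `H¹` as a subgroup of `²E₆`. -/
def e6m_twrN_H (f : K ≃+* K) : Subgroup ↥(e6mG f) :=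
  (twH good2_E6 T3_E6 T4_E6 T19_E6 f).subgroupOf (e6mG f)

theorem e6m_twrN_mem_H (f : K ≃+* K) (h : ↥(e6mG f)) :
    h ∈ e6m_twrN_H f ↔ (h : GL chevE6.Idx K) ∈ chevE6.diagonalSubgroup K := by
  unfold e6m_twrN_H
  rw [Subgroup.mem_subgroupOf]
  constructor
  · intro hh
    exact (Subgroup.mem_inf.mp hh).1
  · intro hh
    exact Subgroup.mem_inf.mpr ⟨hh, h.2⟩

/-- every element of `H¹` is a torus element with `σ`-fixed parameters. -/
theorem e6m_twrN_exists_par (f : K ≃+* K) (hf2 : ∀ t, (((f : K →+* K)) ^ 2) t = t) (h : ↥(e6mG f))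
    (hh : h ∈ e6m_twrN_H f) :
    ∃ c : Fin chevE6.rank → Kˣ, sigC T18_E6 f c = c ∧ (h : GL chevE6.Idx K) = torusHom chevE6 K c := by
  have h1 : (h : GL chevE6.Idx K) ∈ chevE6.diagonalSubgroup K ⊓ twGroup good2_E6 T3_E6 T4_E6 T19_E6 f :=
    Subgroup.mem_inf.mpr ⟨(e6m_twrN_mem_H f h).mp hh, h.2⟩
  rw [diagonal_inf_twGroup good2_E6 T3_E6 T4_E6 T18_E6 T19_E6 f rhoperm_E6 clsperm_E6 (e6m_tor_hv f hf2)] at h1
  obtain ⟨c, hc, e⟩ := h1
  exact ⟨c, hc, e.symm⟩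

/-- a torus element with `σ`-fixed parameters lies in `H¹`. -/
theorem e6m_twrN_torus_mem (f : K ≃+* K) {c : Fin chevE6.rank → Kˣ} (hc : sigC T18_E6 f c = c) :
    ∃ h : ↥(e6mG f), h ∈ e6m_twrN_H f ∧ (h : GL chevE6.Idx K) = torusHom chevE6 K c := by
  have hm : torusHom chevE6 K c ∈ e6mG f :=
    torusHom_mem_twGroup good2_E6 T3_E6 T4_E6 T18_E6 T19_E6 f clsperm_E6 hc
  refine ⟨⟨torusHom chevE6 K c, hm⟩, ?_, rfl⟩
  rw [e6m_twrN_mem_H]
  exact tGL_mem good1_E6 c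

/-- `H¹` is commutative. -/
theorem e6m_twrN_H_comm (f : K ≃+* K) (hf2 : ∀ t, (((f : K →+* K)) ^ 2) t = t) :
    ∀ h ∈ e6m_twrN_H f, ∀ k ∈ e6m_twrN_H f, h * k = k * h := by
  intro h hh k hk
  obtain ⟨c, -, e⟩ := e6m_twrN_exists_par f hf2 h hh
  obtain ⟨c', -, e'⟩ := e6m_twrN_exists_par f hf2 k hk
  apply Subtype.ext
  rw [Subgroup.coe_mul, Subgroup.coe_mul, e, e', ← map_mul, ← map_mul, mul_comm]

section cop

variable [Fintype K] {q : ℕ}

/-- the order of `H¹` is prime to `p`. -/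
theorem e6m_twrN_H_cop (hq : IsPrimePow q) (hK : Fintype.card K = q ^ 2) {f : K ≃+* K}
    (hf : ∀ t, f t = t ^ q) (hf2 : ∀ t, (((f : K →+* K)) ^ 2) t = t) {p : ℕ} (hp : p.Prime) (hpq : p ∣ q) :
    (Nat.card (e6m_twrN_H f)).Coprime p := by
  have h1 := e6m_tor_card_twH hq hK hf hf2
  have hle : twH good2_E6 T3_E6 T4_E6 T19_E6 f ≤ e6mG f := inf_le_right
  have h2 : Nat.card (e6m_twrN_H f) = Nat.card (twH good2_E6 T3_E6 T4_E6 T19_E6 f) :=
    e6m_tor_card_subgroupOf hle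
  rw [h2]
  have hq1 : 1 ≤ q := hq.one_lt.le
  have hq2 : 1 ≤ q ^ 2 := Nat.one_le_pow _ _ hq1
  -- `p ∤ q - 1`, `p ∤ q² - 1`
  have hc1 : (q - 1).Coprime p := by
    rw [Nat.coprime_comm, Nat.Prime.coprime_iff_not_dvd hp]
    intro hd
    have : p ∣ 1 := by
      have h3 : p ∣ q - (q - 1) := Nat.dvd_sub hpq hd
      rwa [Nat.sub_sub_self hq1] at h3
    exact hp.one_lt.ne' (Nat.dvd_one.mp this)
  have hc2 : (q ^ 2 - 1).Coprime p := by
    rw [Nat.coprime_comm, Nat.Prime.coprime_iff_not_dvd hp]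
    intro hd
    have hpq2 : p ∣ q ^ 2 := Dvd.dvd.pow hpq two_ne_zero
    have : p ∣ 1 := by
      have h3 : p ∣ q ^ 2 - (q ^ 2 - 1) := Nat.dvd_sub hpq2 hd
      rwa [Nat.sub_sub_self hq2] at h3
    exact hp.one_lt.ne' (Nat.dvd_one.mp this)
  have hc : ((q - 1) * ((q - 1) * ((q ^ 2 - 1) * (q ^ 2 - 1)))).Coprime p :=
    Nat.Coprime.mul_left hc1 (Nat.Coprime.mul_left hc1 (Nat.Coprime.mul_left hc2 hc2))
  rw [← h1] at hc
  exact Nat.Coprime.coprime_mul_left hc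

end cop

/-! ### admissibility of the characters -/

set_option maxRecDepth 100000 in
theorem e6m_twrN_long_table : ∀ k < 24, e6m_nc_long k = true →
    e6m_nc_cart k 0 = e6m_nc_cart k 5 ∧ e6m_nc_cart k 2 = e6m_nc_cart k 4 := by decide

theorem e6m_twrN_extu (c : Fin chevE6.rank → Kˣ) {l : ℕ} (hl : l < chevE6.rank) :
    extu chevE6.rank c l = c ⟨l, hl⟩ := by
  unfold extu
  rw [dif_pos hl]

theorem e6m_twrN_chi_eq (k : ℕ) (c : Fin chevE6.rank → Kˣ) :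
    e6m_twrN_chi k c = c e6i0 ^ e6m_nc_cart k 0 * (c e6i1 ^ e6m_nc_cart k 1 * (c e6i2 ^ e6m_nc_cart k 2 *
      (c e6i3 ^ e6m_nc_cart k 3 * (c e6i4 ^ e6m_nc_cart k 4 * c e6i5 ^ e6m_nc_cart k 5)))) := by
  unfold e6m_twrN_chi
  have h6 : List.range 6 = [0, 1, 2, 3, 4, 5] := by decide
  rw [h6]
  simp only [List.map_cons, List.map_nil, List.prod_cons, List.prod_nil, mul_one]
  rw [e6m_twrN_extu c (by decide : 0 < chevE6.rank), e6m_twrN_extu c (by decide : 1 < chevE6.rank),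
    e6m_twrN_extu c (by decide : 2 < chevE6.rank), e6m_twrN_extu c (by decide : 3 < chevE6.rank),
    e6m_twrN_extu c (by decide : 4 < chevE6.rank), e6m_twrN_extu c (by decide : 5 < chevE6.rank)]

/-- the character of a long root group at `σ`-fixed parameters lies in the fixed field. -/
theorem e6m_twrN_chi_fixed (f : K ≃+* K) {k : ℕ} (hk : k < 24) (hlong : e6m_nc_long k = true)
    {c : Fin chevE6.rank → Kˣ} (hc : sigC T18_E6 f c = c) : uF f (e6m_twrN_chi k c) = e6m_twrN_chi k c := by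
  obtain ⟨h0, h1, h2, h3, h4, h5⟩ := (sigC_fixed_E6 f c).mp hc
  obtain ⟨t1, t2⟩ := e6m_twrN_long_table k hk hlong
  rw [e6m_twrN_chi_eq]
  simp only [map_mul, map_zpow]
  rw [h0, h1, h2, h3, h4, h5, t1, t2]
  ac_rfl

/-- `χ_k(c) * t` is admissible for `σ`-fixed `c` and admissible `t`. -/
theorem e6m_twrN_adm_chi (f : K ≃+* K) (hf2 : ∀ t, (((f : K →+* K)) ^ 2) t = t) {k : ℕ} (hk : k < 24)
    {c : Fin chevE6.rank → Kˣ} (hc : sigC T18_E6 f c = c) {t : K} (ht : Adm f (e6m_twrN_len k) t) :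
    Adm f (e6m_twrN_len k) ((e6m_twrN_chi k c : K) * t) := by
  refine Adm.mul ?_ ht
  unfold e6m_twrN_len
  by_cases hlong : e6m_nc_long k = true
  · rw [if_pos hlong, adm_one_iff]
    have h1 := e6m_twrN_chi_fixed f hk hlong hc
    exact congrArg Units.val h1
  · rw [if_neg hlong]
    exact hf2 _

section fields

variable (f : K ≃+* K) {x : ℕ → K → GL chevE6.Idx K} (hA : TwrAct f x) (U : ℕ → Subgroup ↥(e6mG f))
  (hU : ∀ k < 24, ∀ g : ↥(e6mG f),
    g ∈ U k ↔ ∃ t, Adm f (e6m_twrN_len k) t ∧ (g : GL chevE6.Idx K) = x k t)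

include hA hU in
/-- `H¹` normalizes every root group. -/
theorem e6m_twrN_norm (hf2 : ∀ t, (((f : K →+* K)) ^ 2) t = t) :
    ∀ i < 24, ∀ h ∈ e6m_twrN_H f, ∀ y ∈ U i, h * y * h⁻¹ ∈ U i := by
  intro i hi h hh y hy
  obtain ⟨c, hc, e⟩ := e6m_twrN_exists_par f hf2 h hh
  obtain ⟨t, ht, ey⟩ := (hU i hi y).mp hy
  refine (hU i hi _).mpr ⟨(e6m_twrN_chi i c : K) * t, e6m_twrN_adm_chi f hf2 hi hc ht, ?_⟩
  rw [Subgroup.coe_mul, Subgroup.coe_mul, Subgroup.coe_inv, e, ey]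
  exact hA.act i hi c hc t

include hA hU in
/-- a torus element with `χ_j(c) = 1` centralizes `U j`. -/
theorem e6m_twrN_cent {j : ℕ} (hj : j < 24) {c : Fin chevE6.rank → Kˣ} (hc : sigC T18_E6 f c = c)
    (hχ : e6m_twrN_chi j c = 1) (h : ↥(e6mG f)) (e : (h : GL chevE6.Idx K) = torusHom chevE6 K c) :
    ∀ y ∈ U j, h * y = y * h := by
  intro y hy
  obtain ⟨t, ht, ey⟩ := (hU j hj y).mp hy
  apply Subtype.ext
  rw [Subgroup.coe_mul, Subgroup.coe_mul, e, ey]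
  have h1 := hA.act j hj c hc t
  rw [hχ, Units.val_one, one_mul] at h1
  exact mul_inv_eq_iff_eq_mul.mp h1

include hA hU in
/-- a torus element with `χ_i(c) ≠ 1` acts fixed-point-freely on `U i`. -/
theorem e6m_twrN_free {i : ℕ} (hi : i < 24) {c : Fin chevE6.rank → Kˣ} (hc : sigC T18_E6 f c = c)
    (hχ : e6m_twrN_chi i c ≠ 1) (h : ↥(e6mG f)) (e : (h : GL chevE6.Idx K) = torusHom chevE6 K c) :
    ∀ y ∈ U i, h * y = y * h → y = 1 := by
  intro y hy hcomm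
  obtain ⟨t, ht, ey⟩ := (hU i hi y).mp hy
  have h0 := congrArg (Subtype.val : ↥(e6mG f) → GL chevE6.Idx K) hcomm
  rw [Subgroup.coe_mul, Subgroup.coe_mul, e, ey] at h0
  have h1 := hA.act i hi c hc t
  have h2 : x i ((e6m_twrN_chi i c : K) * t) = x i t := by
    rw [← h1, h0]
    group
  have h3 := hA.x_inj i hi _ _ h2
  have hχ' : (e6m_twrN_chi i c : K) ≠ 1 := fun h => hχ (Units.ext h)
  have ht0 : t = 0 := by
    have h4 : ((e6m_twrN_chi i c : K) - 1) * t = 0 := by rw [sub_mul, h3, one_mul, sub_self]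
    rcases mul_eq_zero.mp h4 with h5 | h5
    · exact absurd (sub_eq_zero.mp h5) hχ'
    · exact h5
  apply Subtype.ext
  rw [ey, ht0, hA.x_zero i hi]
  rfl

end fields

section nc

variable [Fintype K] {q : ℕ}

/-- a generator of `Kˣ`. -/
theorem e6m_twrN_exists_gen (hK : Fintype.card K = q ^ 2) : ∃ u : Kˣ, orderOf u = q ^ 2 - 1 := by
  classical
  obtain ⟨u, hu⟩ := IsCyclic.exists_generator (α := Kˣ)
  refine ⟨u, ?_⟩
  rw [orderOf_eq_card_of_forall_mem_zpowers hu, Nat.card_eq_fintype_card, Fintype.card_units, hK]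

/-- the parameter vector of lead's table as a tuple. -/
def e6m_twrN_par (u : Kˣ) (q : ℕ) (v : ℕ → ℤ) : Fin chevE6.rank → Kˣ := fun l => e6m_nc_par u q v l.val

/-- the parameter vectors of lead's table are `σ`-fixed. -/
theorem e6m_twrN_par_fixed {f : K ≃+* K} (hf : ∀ t, f t = t ^ q) (u : Kˣ) (hu : u ^ (q ^ 2) = u) (v : ℕ → ℤ) :
    sigC T18_E6 f (e6m_twrN_par u q v) = e6m_twrN_par u q v := by
  obtain ⟨p0, p2, p5, p4, p1, p3⟩ := e6m_nc_par_frob u hu v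
  rw [sigC_fixed_E6]
  simp only [uF_eq_pow f hf]
  exact ⟨p5, p1, p4, p3, p2, p0⟩

/-- the characters of lead's table. -/
theorem e6m_twrN_chi_par (k : ℕ) (u : Kˣ) (v : ℕ → ℤ) :
    e6m_twrN_chi k (e6m_twrN_par u q v) =
      ((List.range 6).map (fun l => e6m_nc_par u q v l ^ e6m_nc_cart k l)).prod := by
  unfold e6m_twrN_chi
  congr 1

/-- **(NC)** for `²E₆(q)`, `q ≥ 3`. -/
theorem e6m_twrN_nc (hq : 3 ≤ q) (hK : Fintype.card K = q ^ 2) {f : K ≃+* K} (hf : ∀ t, f t = t ^ q)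
    {x : ℕ → K → GL chevE6.Idx K} (hA : TwrAct f x) (U : ℕ → Subgroup ↥(e6mG f))
    (hU : ∀ k < 24, ∀ g : ↥(e6mG f),
      g ∈ U k ↔ ∃ t, Adm f (e6m_twrN_len k) t ∧ (g : GL chevE6.Idx K) = x k t) :
    ∀ i < 24, ∀ j < 24, i ≠ j → ∃ h ∈ e6m_twrN_H f,
      (∀ y ∈ U i, h * y = y * h → y = 1) ∧ ∀ y ∈ U j, h * y = y * h := by
  intro i hi j hj hij
  obtain ⟨u, hu⟩ := e6m_twrN_exists_gen (K := K) hK
  have hq2 : 1 ≤ q ^ 2 := Nat.one_le_pow _ _ (by omega)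
  have hu' : u ^ (q ^ 2) = u := by
    have h1 : u ^ (q ^ 2 - 1) = 1 := by rw [← hu]; exact pow_orderOf_eq_one u
    calc u ^ (q ^ 2) = u ^ (q ^ 2 - 1 + 1) := by rw [Nat.sub_add_cancel hq2]
      _ = u := by rw [pow_succ, h1, one_mul]
  obtain ⟨hc1, hc2⟩ := e6m_nc_main hq u hu i hi j hj hij
  have hfix := e6m_twrN_par_fixed hf u hu' (e6m_nc_wit i j)
  obtain ⟨h, hh, e⟩ := e6m_twrN_torus_mem f hfix
  refine ⟨h, hh, ?_, ?_⟩
  · exact e6m_twrN_free f hA U hU hi hfix (by rw [e6m_twrN_chi_par]; exact hc2) h e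
  · exact e6m_twrN_cent f hA U hU hj hfix (by rw [e6m_twrN_chi_par]; exact hc1) h e

end nc

end Cfsg.Agent.E6M
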