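import Mathlib
import Cfsg.Agent.E6M.ConcDefs
import Cfsg.Agent.E6M.ConcH
import Cfsg.Agent.E6M.TwRoots
import Cfsg.Agent.E6M.TwRootsNC
import Cfsg.Agent.F4M.Rk1Lift

set_option autoImplicit false
set_option linter.unusedSectionVars false
set_option linter.unusedVariables false

/-! S2108 package P8-B (file `Cfsg/Agent/E6M/ConcOkB.lean`, helper2): the torus fields `H_U`, `H_X`, `H_Y`, `T_comm`, `n_T` of
`BnDat.Ok (e6D f) CoxeterMatrix.F₄` (statements of `notes/S2108_stubfiles/ConcOkA.lean.txt` with the prefix `e6m_okB_`).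
`H_X`, `H_Y`: helper7's `e6m_twr_torus_fund`; `n_T`: `⁅n_i, t⁆ ∈ L_i ∩ H¹`, and `L_i ∩ H¹ = T_i` by the Bruhat decomposition of the
rank-one group (`f4m_rk1_sub_le_C`) and `U ∩ H = 1`, `B ∩ V = 1` in the ambient Chevalley group. -/

namespace Cfsg.Agent.E6M

open Cfsg Cfsg.Lie Cfsg.Agent.Helper7.Chev Cfsg.Agent.CtRecM Cfsg.Agent.CtRecT Cfsg.Agent.F4M

variable {K : Type*} [Field K] [Finite K] (f : K ≃+* K) (hf2 : ∀ t, (((f : K →+* K)) ^ 2) t = t)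

include hf2 in
theorem e6m_okB_mem_H {g : ↥(e6G f)} (hg : g ∈ (e6D f).H) :
    (g : GL chevE6.Idx K) ∈ chevE6.diagonalSubgroup K := by
  rw [e6m_concH_eq f hf2, Subgroup.mem_subgroupOf] at hg
  exact ((mem_twH good2_E6 T3_E6 T4_E6 T19_E6 f).mp hg).1

theorem e6m_okB_T_le (i : Fin 4) : ((e6D f).R i).T ≤ (e6D f).H :=
  le_iSup (fun i => ((e6D f).R i).T) i

include hf2 in
theorem e6m_okB_H_U : ∀ h ∈ (e6D f).H, ∀ u ∈ (e6D f).U, h * u * h⁻¹ ∈ (e6D f).U := by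
  intro h hh u hu
  rw [e6m_concH_eq f hf2, Subgroup.mem_subgroupOf] at hh
  rw [e6D_U, Subgroup.mem_subgroupOf] at hu ⊢
  rw [Subgroup.coe_mul, Subgroup.coe_mul, Subgroup.coe_inv]
  exact (Subgroup.mem_set_normalizer_iff.mp (twH_le_normalizer good2_E6 T3_E6 T4_E6 T19_E6 f hh) _).mp hu

/-- a diagonal element of `²E₆` maps `x_S(t)` to some `x_S(s)`. -/
theorem e6m_okB_conj_upper {h : GL chevE6.Idx K} (hhD : h ∈ chevE6.diagonalSubgroup K) (hhG : h ∈ e6G f)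
    (i : Fin 4) {t : K} (ht : Adm f (e6Cls i).2 t) :
    ∃ s : K, Adm f (e6Cls i).2 s ∧ h * e6Phi f i (upperSL t) * h⁻¹ = e6Phi f i (upperSL s) := by
  obtain ⟨χ, hχ⟩ := e6m_twr_diag_lin good2_E6 hhD
  obtain ⟨h1, h2⟩ := e6m_twr_torus_fund good2_E6 T0_E6 T3_E6 T4_E6 T5_E6 T7_E6 T8_E6 T18_E6 T19_E6 T20_E6 f
    (e6mCls_mem i) hhD hhG (fun u => hχ _ u) ht
  exact ⟨_, h1, h2⟩

theorem e6m_okB_n_mem (i : Fin 4) : e6Phi f i antiSL ∈ e6G f :=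
  anti_mem_twGroup good2_E6 T3_E6 T4_E6 T19_E6 f (e6mCls_mem i)

theorem e6m_okB_n_mono (i : Fin 4) : e6Phi f i antiSL ∈ chevE6.monomialSubgroup K := by
  rw [clsHom_anti good2_E6 T3_E6 T4_E6 T19_E6 f (e6mCls_mem i)]
  exact nWordGL_mem good2_E6 _

/-- a diagonal element of `²E₆` maps `x_{-S}(t)` to some `x_{-S}(s)`. -/
theorem e6m_okB_conj_lower {h : GL chevE6.Idx K} (hhD : h ∈ chevE6.diagonalSubgroup K) (hhG : h ∈ e6G f)
    (i : Fin 4) {t : K} (ht : Adm f (e6Cls i).2 t) :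
    ∃ s : K, Adm f (e6Cls i).2 s ∧ h * e6Phi f i (lowerSL t) * h⁻¹ = e6Phi f i (lowerSL s) := by
  obtain ⟨n, hn⟩ : ∃ n : GL chevE6.Idx K, n = e6Phi f i antiSL := ⟨_, rfl⟩
  have hnG : n ∈ e6G f := by rw [hn]; exact e6m_okB_n_mem f i
  have hnN : n ∈ chevE6.monomialSubgroup K := by rw [hn]; exact e6m_okB_n_mono f i
  have h'D : n⁻¹ * h * n ∈ chevE6.diagonalSubgroup K :=
    conj_mem_diagonal' (monomialSubgroup_le_normalizer good2_E6 hnN) hhD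
  have h'G : n⁻¹ * h * n ∈ e6G f := mul_mem (mul_mem (inv_mem hnG) hhG) hnG
  obtain ⟨s', hs', e⟩ := e6m_okB_conj_upper f h'D h'G i ht.neg
  refine ⟨-s', hs'.neg, ?_⟩
  have e1 := clsHom_lower_eq_conj good2_E6 T3_E6 T4_E6 T19_E6 f (e6mCls_mem i) t
  have e2 := clsHom_lower_eq_conj good2_E6 T3_E6 T4_E6 T19_E6 f (e6mCls_mem i) (-s')
  rw [neg_neg] at e2
  change e6Phi f i (lowerSL t) = e6Phi f i antiSL * e6Phi f i (upperSL (-t)) * (e6Phi f i antiSL)⁻¹ at e1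
  change e6Phi f i (lowerSL (-s')) = e6Phi f i antiSL * e6Phi f i (upperSL s') * (e6Phi f i antiSL)⁻¹ at e2
  rw [e1, e2, ← hn, ← e]
  group

include hf2 in
theorem e6m_okB_H_X (i : Fin 4) : ∀ h ∈ (e6D f).H, ∀ x ∈ ((e6D f).R i).X, h * x * h⁻¹ ∈ ((e6D f).R i).X := by
  intro h hh x hx
  obtain ⟨t, ht, e⟩ := (mem_e6D_X f i x).mp hx
  obtain ⟨s, hs, e'⟩ := e6m_okB_conj_upper f (e6m_okB_mem_H f hf2 hh) h.2 i ht
  refine (mem_e6D_X f i _).mpr ⟨s, hs, ?_⟩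
  rw [Subgroup.coe_mul, Subgroup.coe_mul, Subgroup.coe_inv, e, e']

include hf2 in
theorem e6m_okB_H_Y (i : Fin 4) : ∀ h ∈ (e6D f).H, ∀ y ∈ ((e6D f).R i).Y, h * y * h⁻¹ ∈ ((e6D f).R i).Y := by
  intro h hh y hy
  obtain ⟨t, ht, e⟩ := (mem_e6D_Y f i y).mp hy
  obtain ⟨s, hs, e'⟩ := e6m_okB_conj_lower f (e6m_okB_mem_H f hf2 hh) h.2 i ht
  refine (mem_e6D_Y f i _).mpr ⟨s, hs, ?_⟩
  rw [Subgroup.coe_mul, Subgroup.coe_mul, Subgroup.coe_inv, e, e']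

include hf2 in
theorem e6m_okB_H_comm : ∀ s ∈ (e6D f).H, ∀ t ∈ (e6D f).H, s * t = t * s := by
  intro s hs t ht
  rw [e6m_concH_eq f hf2] at hs ht
  exact e6m_twrN_H_comm f hf2 s hs t ht

include hf2 in
theorem e6m_okB_T_comm (i j : Fin 4) : ∀ s ∈ ((e6D f).R i).T, ∀ t ∈ ((e6D f).R j).T, s * t = t * s :=
  fun s hs t ht => e6m_okB_H_comm f hf2 s (e6m_okB_T_le f i hs) t (e6m_okB_T_le f j ht)

/-! ### `n_T` -/

theorem e6m_okB_xp_coe (i : Fin 4) (t : ↥(admField f (e6mCls i).2)) :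
    (((e6mS f i).xp t : ↥(e6G f)) : GL chevE6.Idx K) = e6Phi f i (upperSL (t : K)) :=
  e6m_concRk1_xp_coe good2_E6 T3_E6 T4_E6 T19_E6 f (e6mCls_mem i) t

theorem e6m_okB_xm_coe (i : Fin 4) (t : ↥(admField f (e6mCls i).2)) :
    (((e6mS f i).xm t : ↥(e6G f)) : GL chevE6.Idx K) = e6Phi f i (lowerSL (t : K)) :=
  e6m_concRk1_xm_coe good2_E6 T3_E6 T4_E6 T19_E6 f (e6mCls_mem i) t

theorem e6m_okB_h_coe (i : Fin 4) {t : ↥(admField f (e6mCls i).2)} (ht : t ≠ 0) :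
    (((e6mS f i).h t : ↥(e6G f)) : GL chevE6.Idx K) ∈ chevE6.diagonalSubgroup K := by
  rw [show (e6mS f i).h t = (e6m_concRk1_S good2_E6 T3_E6 T4_E6 T19_E6 f (e6mCls_mem i)).h t from rfl,
    e6m_concRk1_h_coe good2_E6 T3_E6 T4_E6 T19_E6 f (e6mCls_mem i) ht]
  exact clsHom_diag_mem good2_E6 T3_E6 T4_E6 T19_E6 f (e6mCls_mem i) _

theorem e6m_okB_w_coe (i : Fin 4) :
    (((e6mS f i).w 1 : ↥(e6G f)) : GL chevE6.Idx K) = e6Phi f i antiSL :=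
  e6m_concRk1_w_one_coe good2_E6 T3_E6 T4_E6 T19_E6 f (e6mCls_mem i)

theorem e6m_okB_xp_mem_U (i : Fin 4) (t : ↥(admField f (e6mCls i).2)) :
    (((e6mS f i).xp t : ↥(e6G f)) : GL chevE6.Idx K) ∈ chevE6.posUnipotent K := by
  rw [e6m_okB_xp_coe]
  exact clsHom_upper_mem good2_E6 T0_E6 T3_E6 T4_E6 T19_E6 f (e6mCls_mem i) _

/-- the Weyl element `n_i` does not lie in the Borel subgroup of the ambient group. -/
theorem e6m_okB_n_not_mem_B (i : Fin 4) : e6Phi f i antiSL ∉ chevE6.borelSubgroup K := by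
  intro hn
  have hU : e6Phi f i (upperSL 1) ∈ chevE6.borelSubgroup K :=
    Subgroup.mem_sup_left (clsHom_upper_mem good2_E6 T0_E6 T3_E6 T4_E6 T19_E6 f (e6mCls_mem i) 1)
  have e1 := clsHom_lower_eq_conj good2_E6 T3_E6 T4_E6 T19_E6 f (e6mCls_mem i) (-1)
  rw [neg_neg] at e1
  have h1 : e6Phi f i (lowerSL (-1)) ∈ chevE6.borelSubgroup K := by
    change clsHom good2_E6 T3_E6 T4_E6 T19_E6 f (e6mCls_mem i) (lowerSL (-1)) ∈ _
    rw [e1]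
    exact mul_mem (mul_mem hn hU) (inv_mem hn)
  have h2 : e6Phi f i (lowerSL (-1)) ∈ chevE6.negUnipotent K :=
    clsHom_lower_mem good2_E6 T0_E6 T3_E6 T4_E6 T19_E6 f (e6mCls_mem i) _
  have h3 : e6Phi f i (lowerSL (-1)) ∈ (⊥ : Subgroup (GL chevE6.Idx K)) := by
    rw [← borel_inf_negUnipotent (F := K) good2_E6 T0_E6]
    exact ⟨h1, h2⟩
  rw [Subgroup.mem_bot] at h3
  have h4 : e6Phi f i (lowerSL (-1)) = e6Phi f i (lowerSL 0) := by
    rw [h3, sl2p_lower_zero, map_one]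
  have h5 := clsHom_lower_injective good2_E6 T0_E6 T3_E6 T4_E6 T7_E6 T8_E6 T19_E6 T20_E6 f (e6mCls_mem i) h4
  exact one_ne_zero (neg_eq_zero.mp h5)

/-- `L_i ∩ H¹ ≤ T_i`. -/
theorem e6m_okB_sub_inf_H (i : Fin 4) (z : ↥(e6G f)) (hz : z ∈ (e6mS f i).sub)
    (hzD : (z : GL chevE6.Idx K) ∈ chevE6.diagonalSubgroup K) : z ∈ ((e6D f).R i).T := by
  have hHB : chevE6.diagonalSubgroup K ≤ chevE6.borelSubgroup K := le_sup_right
  have hUB : chevE6.posUnipotent K ≤ chevE6.borelSubgroup K := le_sup_left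
  rcases f4m_rk1_sub_le_C (e6mS f i) z hz with ⟨u, s, hs, rfl⟩ | ⟨b, ⟨u, s, hs, rfl⟩, v, rfl⟩
  · -- `z = xp u * h s`
    have h1 : (((e6mS f i).xp u : ↥(e6G f)) : GL chevE6.Idx K) ∈ chevE6.diagonalSubgroup K := by
      have e : (((e6mS f i).xp u : ↥(e6G f)) : GL chevE6.Idx K) =
          ((((e6mS f i).xp u * (e6mS f i).h s : ↥(e6G f)) : ↥(e6G f)) : GL chevE6.Idx K) *
            ((((e6mS f i).h s : ↥(e6G f)) : GL chevE6.Idx K))⁻¹ := by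
        rw [Subgroup.coe_mul]; group
      rw [e]
      exact mul_mem hzD (inv_mem (e6m_okB_h_coe f i hs))
    have h2 : (((e6mS f i).xp u : ↥(e6G f)) : GL chevE6.Idx K) ∈ (⊥ : Subgroup (GL chevE6.Idx K)) := by
      rw [← posUnipotent_inf_diagonal (F := K) good2_E6 T0_E6]
      exact ⟨e6m_okB_xp_mem_U f i u, h1⟩
    rw [Subgroup.mem_bot] at h2
    have h3 : (e6mS f i).xp u = 1 := Subtype.ext h2
    rw [h3, one_mul]
    exact e6m_rk1gen_h_mem_T _ hs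
  · -- `z = xp u * h s * w 1 * xp v`: impossible
    exfalso
    apply e6m_okB_n_not_mem_B f i
    rw [← e6m_okB_w_coe f i]
    have e : (((e6mS f i).w 1 : ↥(e6G f)) : GL chevE6.Idx K) =
        ((((e6mS f i).h s : ↥(e6G f)) : GL chevE6.Idx K))⁻¹ *
          ((((e6mS f i).xp u : ↥(e6G f)) : GL chevE6.Idx K))⁻¹ *
          (((e6mS f i).xp u * (e6mS f i).h s * (e6mS f i).w 1 * (e6mS f i).xp v : ↥(e6G f)) :
            GL chevE6.Idx K) *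
          ((((e6mS f i).xp v : ↥(e6G f)) : GL chevE6.Idx K))⁻¹ := by
      rw [Subgroup.coe_mul, Subgroup.coe_mul, Subgroup.coe_mul]; group
    rw [e]
    exact mul_mem (mul_mem (mul_mem (inv_mem (hHB (e6m_okB_h_coe f i hs)))
      (inv_mem (hUB (e6m_okB_xp_mem_U f i u)))) (hHB hzD)) (inv_mem (hUB (e6m_okB_xp_mem_U f i v)))

include hf2 in
/-- `H` normalizes `L_i`. -/
theorem e6m_okB_H_sub (i : Fin 4) (h : ↥(e6G f)) (hh : h ∈ (e6D f).H) :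
    ∀ e ∈ (e6mS f i).sub, h * e * h⁻¹ ∈ (e6mS f i).sub := by
  intro e he
  unfold Rk1.sub at he
  induction he using Subgroup.closure_induction with
  | mem x hx =>
    rcases hx with ⟨t, rfl⟩ | ⟨t, rfl⟩
    · have h1 := e6m_okB_H_X f hf2 i h hh ((e6mS f i).xp t) ⟨t, rfl⟩
      obtain ⟨s, hs⟩ := h1
      rw [← hs]
      exact (e6mS f i).xp_mem_sub s
    · have h1 := e6m_okB_H_Y f hf2 i h hh ((e6mS f i).xm t) ⟨t, rfl⟩
      obtain ⟨s, hs⟩ := h1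
      rw [← hs]
      exact (e6mS f i).xm_mem_sub s
  | one => rw [mul_one, mul_inv_cancel]; exact one_mem _
  | mul a b _ _ ha hb =>
    have e : h * (a * b) * h⁻¹ = (h * a * h⁻¹) * (h * b * h⁻¹) := by group
    rw [e]; exact mul_mem ha hb
  | inv a _ ha =>
    have e : h * a⁻¹ * h⁻¹ = (h * a * h⁻¹)⁻¹ := by group
    rw [e]; exact inv_mem ha

include hf2 in
theorem e6m_okB_n_T (i j : Fin 4) (hij : i ≠ j) :
    ∀ t ∈ ((e6D f).R j).T, ((e6D f).R i).n * t * ((e6D f).R i).n⁻¹ * t⁻¹ ∈ ((e6D f).R i).T := by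
  intro t ht
  have htH : t ∈ (e6D f).H := e6m_okB_T_le f j ht
  have hn : ((e6D f).R i).n = (e6mS f i).w 1 := e6m_rk1gen_n (e6mS f i)
  have hnsub : (e6mS f i).w 1 ∈ (e6mS f i).sub := by
    unfold Rk1.w
    exact mul_mem (mul_mem ((e6mS f i).xp_mem_sub _) ((e6mS f i).xm_mem_sub _)) ((e6mS f i).xp_mem_sub _)
  apply e6m_okB_sub_inf_H f i
  · rw [hn]
    have e : (e6mS f i).w 1 * t * ((e6mS f i).w 1)⁻¹ * t⁻¹ =
        (e6mS f i).w 1 * (t * ((e6mS f i).w 1)⁻¹ * t⁻¹) := by group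
    rw [e]
    exact mul_mem hnsub (e6m_okB_H_sub f hf2 i t htH _ (inv_mem hnsub))
  · rw [Subgroup.coe_mul, Subgroup.coe_mul, Subgroup.coe_mul, Subgroup.coe_inv, Subgroup.coe_inv, e6D_n]
    have htD := e6m_okB_mem_H f hf2 htH
    exact mul_mem (conj_mem_diagonal (monomialSubgroup_le_normalizer good2_E6 (e6m_okB_n_mono f i)) htD)
      (inv_mem htD)

end Cfsg.Agent.E6M
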