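import Mathlib
import Cfsg.Agent.E6M.ConcDefs
import Cfsg.Agent.E6M.ConcH
import Cfsg.Agent.E6M.ConcCox
import Cfsg.Agent.E6M.ConcBrD
import Cfsg.Agent.E6M.ConcOkA9
import Cfsg.Agent.E6M.ConcOkB
import Cfsg.Agent.E6M.ConcOkC

set_option autoImplicit false
set_option linter.unusedSectionVars false
set_option linter.unusedVariables false

/-!
# S2108: the axioms `BnDat.Ok (e6D f) CoxeterMatrix.F₄` for the concrete `²E₆(q)`

Assembly of the packages P7 (`e6D_ok`), P8 (`ConcOkA9/B/C`, `ConcOkG`), P9 (`ConcBrD`), P10 (`ConcCox`), P11 (`ConcH`).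
-/

namespace Cfsg.Agent.E6M

open Cfsg Cfsg.Lie Cfsg.Agent.Helper7.Chev Cfsg.Agent.CtRecM Cfsg.Agent.CtRecT Cfsg.Agent.F4M

variable {K : Type*} [Field K] [Finite K] (f : K ≃+* K)

/-- the concrete `²E₆(q)` satisfies the axioms of Part II. -/
theorem e6m_concOk (hf2 : ∀ t, (((f : K →+* K)) ^ 2) t = t) : (e6D f).Ok CoxeterMatrix.F₄ := by
  obtain ⟨hbX, hbY, hbn⟩ := e6m_concBrD_E6 f (e6D f) (fun _ => rfl)
  exact
    { ok := e6D_ok f
      X_le := e6m_okC_X_le f
      Uc_le := e6m_okC_Uc_le f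
      dec := e6m_okA9_dec f
      n_Uc := e6m_okA9_n_Uc f
      H_U := e6m_okB_H_U f hf2
      H_X := e6m_okB_H_X f hf2
      H_Y := e6m_okB_H_Y f hf2
      T_comm := e6m_okB_T_comm f hf2
      n_T := e6m_okB_n_T f hf2
      braid_X := hbX
      braid_Y := hbY
      braid_n := hbn
      cox := e6m_concCox_cox f (e6m_concH_eq f hf2)
      dich := e6m_okA9_dich f
      U_inf_H := e6m_okC_U_inf_H f
      B_inf_N := e6m_okC_B_inf_N f
      top := e6m_concCox_top f }

end Cfsg.Agent.E6M
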