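import Mathlib
import Cfsg.Agent.F4M.Pair

set_option autoImplicit false

/-!
# S2108, Part I: the ONE-SIDED variant of `F4M/Pair.lean` (`f4m_pairs`, `f4m_card_iSup_le`, `f4m_iSup_lift_inf_ker`)

The concrete side of S2108 delivers the membership-level commutator relations only in the one-sided form
`⁅U i, U j⁆ ⊆ ⟨U k : k < j⟩` for `i < j` (i.e. `U j` normalizes the initial segment `U 0 ⋯ U (j-1)`).  This is enough:
* `e6m_pairs_one`: `f4m_pair_lift` with `Dt := ⨆ k < j, lift (U k)` (normalized by `lift (U i)` because `i < j`, and by `h`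
  because `Ht` normalizes every lift); no induction needed.
* `e6m_card_iSup_le_one`: induction on `m ≤ n` for `⨆ k ∈ range m`.
* `e6m_iSup_lift_inf_ker_one`: the proof of `f4m_iSup_lift_inf_ker` with the two lemmas above.
Prefix `e6m_pairone_` for helpers.  Statements verbatim from `notes/S2108_stubfiles/PairOne.lean.txt`.
-/

namespace Cfsg.Agent.E6M

open Cfsg.Agent.F4M

variable {Γ G : Type*} [Group Γ] [Group G] [Finite Γ] [Finite G] {p : ℕ} [Fact p.Prime]
  {σ : Γ →* G} {Ht : Subgroup Γ}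

/-- all one-sided membership-level commutator relations of `U 0, …, U (n-1)` lift. -/
theorem e6m_pairs_one (S : CopSetting σ p Ht) (U : ℕ → Subgroup G) (n : ℕ)
    (hN : ∀ i < n, NormOn σ Ht (U i))
    (hNC : ∀ i < n, ∀ j < n, i ≠ j → ∃ h ∈ Ht, FreeOn σ h (U i) ∧ CentOn σ h (U j))
    (hcomm : ∀ i j, i < j → j < n → ∀ x ∈ U i, ∀ y ∈ U j,
      x * y * x⁻¹ * y⁻¹ ∈ ⨆ k ∈ Finset.range j, U k) :
    ∀ i j, i < j → j < n → ∀ x ∈ f4m_lift σ Ht (U i), ∀ y ∈ f4m_lift σ Ht (U j),
      x * y * x⁻¹ * y⁻¹ ∈ ⨆ k ∈ Finset.range j, f4m_lift σ Ht (U k) := by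
  intro i j hij hjn
  have hin : i < n := lt_trans hij hjn
  obtain ⟨h, hh, hfree, hcent⟩ := hNC i hin j hjn (ne_of_lt hij)
  refine f4m_pair_lift S (hN i hin) (hN j hjn) hh hfree hcent
    (⨆ k ∈ Finset.range j, f4m_lift σ Ht (U k)) ?_ ?_ ?_
  · intro x hx y hy
    have h1 := hcomm i j hij hjn x hx y hy
    have hle : (⨆ k ∈ Finset.range j, U k) ≤
        (⨆ k ∈ Finset.range j, f4m_lift σ Ht (U k)).map σ := by
      refine iSup₂_le ?_
      intro k hk
      have hk' := Finset.mem_range.mp hk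
      have hkn : k < n := lt_trans hk' hjn
      rw [← f4m_pair_map_lift S U n hN hNC hkn hjn (ne_of_lt hk')]
      exact Subgroup.map_mono (le_iSup₂ (f := fun k _ => f4m_lift σ Ht (U k)) k hk)
    exact hle h1
  · intro x hx d hd
    have hx' : x ∈ ⨆ k ∈ Finset.range j, f4m_lift σ Ht (U k) :=
      (le_iSup₂ (f := fun k _ => f4m_lift σ Ht (U k)) i (Finset.mem_range.mpr hij)) hx
    exact Subgroup.mul_mem _ (Subgroup.mul_mem _ hx' hd) (Subgroup.inv_mem _ hx')
  · refine f4m_pair_conj_iSup (Finset.range j) (fun k => f4m_lift σ Ht (U k)) h ?_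
    intro k hk e he
    have hk' := Finset.mem_range.mp hk
    have hkn : k < n := lt_trans hk' hjn
    exact (le_iSup₂ (f := fun l _ => f4m_lift σ Ht (U l)) k hk)
      (f4m_lift_conj_Ht (hN k hkn) h hh e he)

/-- a group generated by subgroups `T 0, …, T (n-1)` with `[T i, T j] ⊆ ⟨T k : k < j⟩` (`i < j`) has order at most the product. -/
theorem e6m_card_iSup_le_one {E : Type*} [Group E] [Finite E] (T : ℕ → Subgroup E) (n : ℕ)
    (hcomm : ∀ i j, i < j → j < n → ∀ x ∈ T i, ∀ y ∈ T j, x * y * x⁻¹ * y⁻¹ ∈ ⨆ k ∈ Finset.range j, T k) :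
    Nat.card ↥(⨆ k ∈ Finset.range n, T k) ≤ ∏ k ∈ Finset.range n, Nat.card (T k) := by
  have key : ∀ m, m ≤ n → Nat.card ↥(⨆ k ∈ Finset.range m, T k) ≤
      ∏ k ∈ Finset.range m, Nat.card (T k) := by
    intro m
    induction m with
    | zero =>
      intro _
      simp
    | succ m ih =>
      intro hm
      have ih' := ih (by omega)
      have hmn : m < n := by omega
      rw [Finset.range_add_one, Finset.iSup_insert, Finset.prod_insert (by simp)]
      -- `T m` normalizes `D`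
      have hconj : ∀ y ∈ T m, ∀ d ∈ ⨆ k ∈ Finset.range m, T k,
          y * d * y⁻¹ ∈ ⨆ k ∈ Finset.range m, T k := by
        intro y hy
        refine f4m_pair_conj_iSup (Finset.range m) T y ?_
        intro k hk e he
        have hk' := Finset.mem_range.mp hk
        have h1 := hcomm k m hk' hmn e⁻¹ ((T k).inv_mem he) y hy
        have h2 : e ∈ ⨆ l ∈ Finset.range m, T l := (le_iSup₂ (f := fun l _ => T l) k hk) he
        have e1 : y * e * y⁻¹ = e * (e⁻¹ * y * e⁻¹⁻¹ * y⁻¹) := by group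
        rw [e1]
        exact Subgroup.mul_mem _ h2 h1
      have hnorm : T m ≤ Subgroup.normalizer ((⨆ k ∈ Finset.range m, T k : Subgroup E) : Set E) := by
        intro x hx
        rw [Subgroup.mem_normalizer_iff]
        intro d
        constructor
        · exact hconj x hx d
        · intro hd
          have := hconj x⁻¹ ((T m).inv_mem hx) _ hd
          have e1 : x⁻¹ * (x * d * x⁻¹) * x⁻¹⁻¹ = d := by group
          rwa [e1] at this
      have hcoe := Subgroup.coe_mul_of_left_le_normalizer_right (T m)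
        (⨆ k ∈ Finset.range m, T k) hnorm
      have hsurj : Function.Surjective
          (fun q : T m × ↥(⨆ k ∈ Finset.range m, T k) =>
            (⟨(q.1 : E) * (q.2 : E), Subgroup.mul_mem _ (le_sup_left (a := T m) q.1.2)
              (le_sup_right (a := T m) q.2.2)⟩ :
              ↥(T m ⊔ ⨆ k ∈ Finset.range m, T k))) := by
        rintro ⟨u, hu⟩
        have hu' : u ∈ ((T m ⊔ ⨆ k ∈ Finset.range m, T k : Subgroup E) : Set E) := hu
        rw [hcoe] at hu'
        obtain ⟨a, ha, b, hb, hab⟩ := hu'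
        exact ⟨(⟨a, ha⟩, ⟨b, hb⟩), Subtype.ext hab⟩
      calc Nat.card ↥(T m ⊔ ⨆ k ∈ Finset.range m, T k)
          ≤ Nat.card (T m × ↥(⨆ k ∈ Finset.range m, T k)) :=
            Nat.card_le_card_of_surjective _ hsurj
        _ = Nat.card (T m) * Nat.card ↥(⨆ k ∈ Finset.range m, T k) := Nat.card_prod _ _
        _ ≤ Nat.card (T m) * ∏ k ∈ Finset.range m, Nat.card (T k) :=
            Nat.mul_le_mul_left _ ih'
  exact key n le_rfl

/-- (d), one-sided: the lift of the whole unipotent group meets the kernel trivially. -/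
theorem e6m_iSup_lift_inf_ker_one (S : CopSetting σ p Ht) (U : ℕ → Subgroup G) (n : ℕ)
    (hN : ∀ i < n, NormOn σ Ht (U i))
    (hNC : ∀ i < n, ∀ j < n, i ≠ j → ∃ h ∈ Ht, FreeOn σ h (U i) ∧ CentOn σ h (U j))
    (hcomm : ∀ i j, i < j → j < n → ∀ x ∈ U i, ∀ y ∈ U j,
      x * y * x⁻¹ * y⁻¹ ∈ ⨆ k ∈ Finset.range j, U k)
    (hker : ∀ i < n, f4m_lift σ Ht (U i) ⊓ σ.ker = ⊥)
    (hcard : Nat.card ↥(⨆ k ∈ Finset.range n, U k) = ∏ k ∈ Finset.range n, Nat.card (U k)) (hn : 2 ≤ n) :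
    (⨆ k ∈ Finset.range n, f4m_lift σ Ht (U k)) ⊓ σ.ker = ⊥ ∧
      (⨆ k ∈ Finset.range n, f4m_lift σ Ht (U k)).map σ = ⨆ k ∈ Finset.range n, U k := by
  -- another index
  have hother : ∀ k < n, ∃ j < n, k ≠ j := by
    intro k _
    by_cases hk0 : k = 0
    · exact ⟨1, by omega, by omega⟩
    · exact ⟨0, by omega, hk0⟩
  have hmapk : ∀ k < n, (f4m_lift σ Ht (U k)).map σ = U k := by
    intro k hk
    obtain ⟨j, hj, hkj⟩ := hother k hk
    exact f4m_pair_map_lift S U n hN hNC hk hj hkj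
  have hcardk : ∀ k < n, Nat.card (f4m_lift σ Ht (U k)) = Nat.card (U k) := by
    intro k hk
    obtain ⟨j, hj, hkj⟩ := hother k hk
    obtain ⟨h, hh, hfree, _⟩ := hNC k hk j hj hkj
    exact f4m_card_lift S (hN k hk) hh hfree (hker k hk)
  have hmap : (⨆ k ∈ Finset.range n, f4m_lift σ Ht (U k)).map σ = ⨆ k ∈ Finset.range n, U k := by
    rw [Subgroup.map_iSup]
    refine iSup_congr ?_
    intro k
    rw [Subgroup.map_iSup]
    refine iSup_congr ?_
    intro hk
    exact hmapk k (Finset.mem_range.mp hk)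
  refine ⟨?_, hmap⟩
  have hle : Nat.card ↥(⨆ k ∈ Finset.range n, f4m_lift σ Ht (U k)) ≤
      Nat.card ↥(⨆ k ∈ Finset.range n, U k) := by
    have h1 := e6m_card_iSup_le_one (fun k => f4m_lift σ Ht (U k)) n
      (e6m_pairs_one S U n hN hNC hcomm)
    have h2 : ∏ k ∈ Finset.range n, Nat.card (f4m_lift σ Ht (U k)) =
        ∏ k ∈ Finset.range n, Nat.card (U k) :=
      Finset.prod_congr rfl (fun k hk => hcardk k (Finset.mem_range.mp hk))
    rw [hcard, ← h2]
    exact h1
  -- the surjection `Ũ → U`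
  let f : ↥(⨆ k ∈ Finset.range n, f4m_lift σ Ht (U k)) → ↥(⨆ k ∈ Finset.range n, U k) :=
    fun x => ⟨σ x.1, by rw [← hmap]; exact Subgroup.mem_map_of_mem σ x.2⟩
  have hfsurj : Function.Surjective f := by
    rintro ⟨u, hu⟩
    rw [← hmap] at hu
    obtain ⟨x, hx, hxu⟩ := hu
    exact ⟨⟨x, hx⟩, Subtype.ext hxu⟩
  have hfbij := hfsurj.bijective_of_nat_card_le hle
  rw [eq_bot_iff]
  intro z hz
  rw [Subgroup.mem_bot]
  obtain ⟨hz1, hz2⟩ := Subgroup.mem_inf.mp hz
  have h1 : f ⟨z, hz1⟩ = f 1 := by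
    apply Subtype.ext
    show σ z = σ 1
    rw [map_one]
    exact hz2
  have h2 := hfbij.1 h1
  exact congrArg Subtype.val h2

end Cfsg.Agent.E6M
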