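import Mathlib
import Cfsg.Agent.F4M.PartI
import Cfsg.Agent.F4M.CopQ4
import Cfsg.Agent.F4M.Rk1Lift
import Cfsg.Agent.E6M.PairOne

set_option autoImplicit false
set_option linter.unusedSectionVars false
set_option linter.unusedVariables false

/-!
# S2108, Part I in general (helper9): root groups with commutative full preimages

`AbRoots G p n`: a torus `H` and `n` root groups `U 0, …, U (n-1)` in an order with the condition (NC), the ONE-SIDED commutator condition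
`⁅U i, U j⁆ ⊆ ⟨U k : k < j⟩` for `i < j` (`E6M/PairOne.lean`), the product formula and `p ∤ |G : U|`, and for every root group a `σ`-free reason (`AbBase`) why its full preimage in every central extension is
commutative: a field with more than four elements inducing all scalars, cyclicity, the situation of `F4M/CopQ4.lean`, or inclusion in a
conjugate of a root group with such a reason.  `e6m_partI`: every finite stem extension of `G` has kernel of order prime to `p`.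
This is case (A) of `F4M/PartI.lean` for all root groups.  Prefix `e6m_partI_`.
-/

namespace Cfsg.Agent.E6M

open Cfsg.Agent.F4M

universe u

variable {G : Type u} [Group G]

/-- a `σ`-free reason for the full preimage of `U i` to be commutative in every central extension. -/
def AbBase (U : ℕ → Subgroup G) (n i : ℕ) : Prop :=
  (∃ (F : Type u) (_ : Field F) (x : F → G), (∃ s : Finset F, 4 < s.card) ∧ (∀ t u, x (t + u) = x t * x u) ∧
      (∀ c : F, c ≠ 0 → ∃ g : G, ∀ t, g * x t * g⁻¹ = x (c * t)) ∧ ∀ y ∈ U i, ∃ t, y = x t) ∨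
    IsCyclic (U i) ∨
    ∃ a < n, a ≠ i ∧ (∀ x ∈ U a, ∀ y ∈ U i, x * y = y * x) ∧ (∀ x ∈ U a, x * x = 1) ∧
      ∃ z₀ : G, (∀ x ∈ U a, x * z₀ * x⁻¹ * z₀⁻¹ ∈ U i) ∧ ∀ y ∈ U i, ∃ x ∈ U a, x * z₀ * x⁻¹ * z₀⁻¹ = y

/-- the data of Part I for a group all of whose root groups have commutative full preimages. -/
structure AbRoots (G : Type u) [Group G] (p n : ℕ) where
  /-- the torus -/
  H : Subgroup G
  /-- the root groups `U 0, …, U (n - 1)` -/
  U : ℕ → Subgroup G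
  hn : 2 ≤ n
  H_comm : ∀ h ∈ H, ∀ k ∈ H, h * k = k * h
  H_cop : (Nat.card H).Coprime p
  norm : ∀ i < n, ∀ h ∈ H, ∀ y ∈ U i, h * y * h⁻¹ ∈ U i
  nc : ∀ i < n, ∀ j < n, i ≠ j → ∃ h ∈ H, (∀ y ∈ U i, h * y = y * h → y = 1) ∧ ∀ y ∈ U j, h * y = y * h
  comm : ∀ i j, i < j → j < n → ∀ x ∈ U i, ∀ y ∈ U j, x * y * x⁻¹ * y⁻¹ ∈ ⨆ k ∈ Finset.range j, U k
  card : Nat.card ↥(⨆ k ∈ Finset.range n, U k) = ∏ k ∈ Finset.range n, Nat.card (U k)
  idx : ¬ p ∣ (⨆ k ∈ Finset.range n, U k).index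
  ab : ∀ i < n, AbBase U n i ∨ ∃ j < n, ∃ g : G, (∀ x ∈ U i, g⁻¹ * x * g ∈ U j) ∧ AbBase U n j

variable {p n : ℕ}

/-- the full preimage of a root group with a reason is commutative. -/
theorem e6m_partI_base [Finite G] [Fact p.Prime] {Γ : Type*} [Group Γ] [Finite Γ] {σ : Γ →* G} {Ht : Subgroup Γ}
    (S : CopSetting σ p Ht) (U : ℕ → Subgroup G) (hN : ∀ i < n, NormOn σ Ht (U i))
    (hNC : ∀ i < n, ∀ j < n, i ≠ j → ∃ h ∈ Ht, FreeOn σ h (U i) ∧ CentOn σ h (U j))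
    (hfreeOf : ∀ i < n, ∃ h ∈ Ht, FreeOn σ h (U i)) (i : ℕ) (hi : i < n) (hab : AbBase U n i) :
    ∀ x ∈ (U i).comap σ, ∀ y ∈ (U i).comap σ, x * y = y * x := by
  rcases hab with ⟨F, _, x, hF, hadd, hscal, hsurj⟩ | hcyc | ⟨a, ha, hai, hcomm, hexp, z₀, hz1, hz2⟩
  · exact f4m_field_comap_comm hF S.surj S.central x hadd hscal (U i) hsurj
  · haveI := hcyc
    exact f4m_comap_comm_of_cyclic S.surj S.central (U i)
  · obtain ⟨h₁, hh₁, hfree₁, hcent₁⟩ := hNC a ha i hi hai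
    obtain ⟨h₂, hh₂, hfree₂⟩ := hfreeOf i hi
    exact f4m_q4_comap_comm S (hN a ha) (hN i hi) hh₁ hfree₁ hcent₁ hh₂ hfree₂ hcomm hexp z₀ hz1 hz2

/-- Part I for a stem extension whose kernel is a `p`-group. -/
theorem e6m_partI_pgroup [Finite G] [Fact p.Prime] (R : AbRoots G p n)
    {Γ : Type*} [Group Γ] [Finite Γ] (σ : Γ →* G) (hσ : Cfsg.IsStemExtension σ) (hp : IsPGroup p σ.ker) : σ.ker = ⊥ := by
  obtain ⟨hs, hc, hk⟩ := hσ
  obtain ⟨Ht, S, hmap⟩ := f4m_exists_Ht hs hc hp R.H R.H_comm R.H_cop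
  have hmemH : ∀ h ∈ Ht, σ h ∈ R.H := fun h hh => hmap ▸ (⟨h, hh, rfl⟩ : σ h ∈ Ht.map σ)
  have hN : ∀ i < n, NormOn σ Ht (R.U i) := fun i hi h hh y hy => R.norm i hi (σ h) (hmemH h hh) y hy
  have hNC : ∀ i < n, ∀ j < n, i ≠ j → ∃ h ∈ Ht, FreeOn σ h (R.U i) ∧ CentOn σ h (R.U j) := by
    intro i hi j hj hij
    obtain ⟨h₀, hh₀, hfree, hcent⟩ := R.nc i hi j hj hij
    rw [← hmap] at hh₀
    obtain ⟨h, hh, rfl⟩ := hh₀
    exact ⟨h, hh, hfree, hcent⟩
  have hn := R.hn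
  have hother : ∀ k < n, ∃ j < n, k ≠ j := by
    intro k _
    by_cases hk0 : k = 0
    · exact ⟨1, by omega, by omega⟩
    · exact ⟨0, by omega, hk0⟩
  have hfreeOf : ∀ i < n, ∃ h ∈ Ht, FreeOn σ h (R.U i) := by
    intro i hi
    obtain ⟨j, hj, hij⟩ := hother i hi
    obtain ⟨h, hh, hfree, -⟩ := hNC i hi j hj hij
    exact ⟨h, hh, hfree⟩
  have hker : ∀ i < n, f4m_lift σ Ht (R.U i) ⊓ σ.ker = ⊥ := by
    intro i hi
    obtain ⟨h, hh, hfree⟩ := hfreeOf i hi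
    refine f4m_lift_inf_ker_of_comm S (hN i hi) hh hfree ?_
    rcases R.ab i hi with hab | ⟨j, hj, g, hg, hab⟩
    · exact e6m_partI_base S R.U hN hNC hfreeOf i hi hab
    · exact f4m_comap_comm_of_le_conj hs (R.U j) (e6m_partI_base S R.U hN hNC hfreeOf j hj hab) (R.U i) g hg
  obtain ⟨h1, h2⟩ := e6m_iSup_lift_inf_ker_one S R.U n hN hNC R.comm hker R.card hn
  refine f4m_split_transfer ⟨hs, hc, hk⟩ hp _ h1 ?_
  rw [h2]
  exact R.idx

/-- **Part I**: every finite stem extension of `G` has kernel of order prime to `p`. -/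
theorem e6m_partI [Finite G] [Fact p.Prime] (R : AbRoots G p n)
    (Γ : Type u) [Group Γ] [Finite Γ] (σ : Γ →* G) (hσ : Cfsg.IsStemExtension σ) : (Nat.card σ.ker).Coprime p :=
  f4m_coprime_of_pgroup_case p (fun _ _ _ σ hσ hp => e6m_partI_pgroup R σ hσ hp) Γ σ hσ

end Cfsg.Agent.E6M
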