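import Mathlib
import Cfsg.Agent.E6M.PartIAb
import Cfsg.Agent.E6M.TwRoots
import Cfsg.Agent.E6M.TwRootsNC
import Cfsg.Agent.E6M.ConcBr
import Cfsg.Agent.Helper7.ChevPerfect

set_option autoImplicit false
set_option linter.unusedSectionVars false
set_option linter.unusedVariables false

/-!
# S2108, package P5 (file `Cfsg/Agent/E6M/TwRootsAb.lean`): the field `ab` of `AbRoots` for `²E₆(q)`, `q ≠ 2`

For the 24 root groups `U k` of `E6M/TwRoots.lean` (word `w0clsE6`), as subgroups of `↥(e6mG f)` with the membership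
characterisation `hU` of `E6M/TwRootsNC.lean`: every `U k` has a `σ`-free reason (`AbBase` of `E6M/PartIAb.lean`) for its full preimage
in a central extension to be commutative, or is conjugate into a root group with such a reason:
* short `k` (class of length 2), and long `k` for `q ≥ 5`: the field `admField f _` has more than four elements and the torus induces
  all its scalars (`e6m_twr_scal` with a linked class of the same length);
* long `k`, `q = 3`: `U k` is cyclic of order 3;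
* long `k`, `q = 4`: `U 1` (root `p₂ + p₄`) is the set of commutators `⁅x, x_{p₄}(1)⁆`, `x ∈ U 0` (root `p₂`), `U 0` commutes with `U 1` and
  has exponent 2; every long `U i` is conjugate to `U 1` (tails of the word and the braid element `n₀ n₁`).
Prefix `e6m_twrA_`.
-/

namespace Cfsg.Agent.E6M

open Cfsg Cfsg.Lie Matrix Cfsg.Agent.Helper7.Chev Cfsg.Agent.F4M

universe u

variable {K : Type u} [Field K]

/-! ### Generalities -/

/-- the single term commutator formula as a commutator of root elements. -/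
theorem e6m_twrA_comm_single {D : ChevalleyDatum} (hG : Good2 D) (h3 : (tabOf D).T3) (h4 : (tabOf D).T4 60)
    {q r s : ℕ} {c : ℤ} (hst : (tabOf D).SingleTerm q r s c) (hq : q < D.nroots) (t u : K) :
    xGL hG.toGood1 hst.2.1 u * xGL hG.toGood1 hst.1 t * (xGL hG.toGood1 hst.2.1 u)⁻¹ *
      (xGL hG.toGood1 hst.1 t)⁻¹ = xGL hG.toGood1 hq (-(c : K) * t * u) := by
  have hG1 := hG.toGood1
  obtain ⟨hr, hs, hsr, hsn, hct⟩ := hst
  have hr' : r < D.nroots := hr
  have hs' : s < D.nroots := hs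
  have hcomm := comm_all (F := K) hG h3 h4 hr' hs' hsr hsn
  have hW : D.commWord K r s (-t) (-u) = [(q, -(c : K) * t * u)] := by
    rw [commWord_eq]
    unfold Tab.commMono
    rw [hct]
    simp only [List.map_cons, List.map_nil, Mono.eval]
    congr 2
    push_cast
    ring
  have hf := hcomm (-t) (-u)
  rw [hW, wordMat_cons, wordMat_nil, mul_one] at hf
  have e1 : xGL hG1 hs' (-u) * xGL hG1 hr' (-t) =
      xGL hG1 hr' (-t) * xGL hG1 hs' (-u) * xGL hG1 hq (-(c : K) * t * u) := by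
    apply Units.ext
    rw [Units.val_mul, Units.val_mul, Units.val_mul, xGL_coe, xGL_coe, xGL_coe]
    exact hf
  have hA : xGL hG1 hs' u = (xGL hG1 hs' (-u))⁻¹ := by rw [xGL_inv, neg_neg]
  have hB : xGL hG1 hr' t = (xGL hG1 hr' (-t))⁻¹ := by rw [xGL_inv, neg_neg]
  rw [hA, hB, inv_inv, inv_inv]
  calc (xGL hG1 hs' (-u))⁻¹ * (xGL hG1 hr' (-t))⁻¹ * xGL hG1 hs' (-u) * xGL hG1 hr' (-t)
      = (xGL hG1 hs' (-u))⁻¹ * (xGL hG1 hr' (-t))⁻¹ * (xGL hG1 hs' (-u) * xGL hG1 hr' (-t)) := by group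
    _ = xGL hG1 hq (-(c : K) * t * u) := by rw [e1]; group

/-- the class homomorphism does not depend on the way the class is written. -/
theorem e6m_twrA_clsHom_congr {D : ChevalleyDatum} (hG : Good2 D) (h3 : (tabOf D).T3) (h4 : (tabOf D).T4 60)
    {ρ σ : ℕ → ℕ} {cls : List (ℕ × ℕ)} (h19 : T19 D ρ σ cls) (f : K ≃+* K) {c c' : ℕ × ℕ} (h : c = c')
    (hc : c ∈ cls) (hc' : c' ∈ cls) (g : Matrix.SpecialLinearGroup (Fin 2) K) :
    clsHom hG h3 h4 h19 f hc g = clsHom hG h3 h4 h19 f hc' g := by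
  subst h; rfl

/-! ### The root groups of `²E₆` -/

/-- the parametrisation of the `k`-th root group of `²E₆`. -/
noncomputable abbrev e6m_twrA_x (f : K ≃+* K) (k : ℕ) (t : K) : GL chevE6.Idx K :=
  e6m_twr_x good2_E6 T3_E6 T4_E6 T19_E6 f w0clsE6 w0clsE6_mem k t

/-- the tail `n_{c_k} ⋯ n_{c_23}`. -/
noncomputable abbrev e6m_twrA_tail (k : ℕ) : GL chevE6.Idx K :=
  e6m_twr_tail good2_E6 (fun i => [5, 1, 4, 3, 2, 0].getD i 0) w0clsE6 k

theorem e6m_twrA_len : w0clsE6.length = 24 := rfl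

/-- the class of the position `k`. -/
def e6m_twrA_cls (k : ℕ) : ℕ × ℕ := w0clsE6.getD k (0, 0)

theorem e6m_twrA_cls_eq {k : ℕ} (hk : k < w0clsE6.length) : w0clsE6[k] = e6m_twrA_cls k := by
  unfold e6m_twrA_cls
  rw [List.getD_eq_getElem _ _ hk]

theorem e6m_twrA_cls_mem {k : ℕ} (hk : k < 24) : e6m_twrA_cls k ∈ clsE6 := by
  have hk' : k < w0clsE6.length := hk
  rw [← e6m_twrA_cls_eq hk']
  exact w0clsE6_mem _ (List.getElem_mem hk')

theorem e6m_twrA_cls_len {k : ℕ} (hk : k < 24) : (e6m_twrA_cls k).2 = e6m_twrN_len k :=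
  (e6m_twrN_len_eq k hk).symm

/-- the parametrisation unfolded. -/
theorem e6m_twrA_x_eq (f : K ≃+* K) {k : ℕ} (hk : k < 24) (t : K) :
    e6m_twrA_x f k t = (e6m_twrA_tail (K := K) (k + 1))⁻¹ *
      clsHom good2_E6 T3_E6 T4_E6 T19_E6 f (e6m_twrA_cls_mem hk) (upperSL t) * e6m_twrA_tail (k + 1) := by
  have hk' : k < w0clsE6.length := hk
  unfold e6m_twrA_x e6m_twr_x
  rw [dif_pos hk']
  rw [e6m_twrA_clsHom_congr good2_E6 T3_E6 T4_E6 T19_E6 f (e6m_twrA_cls_eq hk') _ (e6m_twrA_cls_mem hk)]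

theorem e6m_twrA_tail_mem (f : K ≃+* K) (k : ℕ) : (e6m_twrA_tail (K := K) k) ∈ e6mG f :=
  e6m_twr_tail_mem good2_E6 T3_E6 T4_E6 T19_E6 f w0clsE6_mem k

/-- admissible parameters give elements of the twisted group. -/
theorem e6m_twrA_x_mem (f : K ≃+* K) {k : ℕ} (hk : k < 24) {t : K} (ht : Adm f (e6m_twrN_len k) t) :
    e6m_twrA_x f k t ∈ e6mG f := by
  rw [e6m_twrA_x_eq f hk]
  rw [← e6m_twrA_cls_len hk] at ht
  exact mul_mem (mul_mem (inv_mem (e6m_twrA_tail_mem f _))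
    (upper_mem_twGroup good2_E6 T3_E6 T4_E6 T19_E6 f (e6m_twrA_cls_mem hk) ht)) (e6m_twrA_tail_mem f _)

theorem e6m_twrA_x_add (f : K ≃+* K) (k : ℕ) (t u : K) :
    e6m_twrA_x f k (t + u) = e6m_twrA_x f k t * e6m_twrA_x f k u :=
  e6m_twr_x_add good2_E6 T3_E6 T4_E6 T19_E6 f w0clsE6_mem k t u

theorem e6m_twrA_x_zero (f : K ≃+* K) (k : ℕ) : e6m_twrA_x f k 0 = 1 := by
  have h := e6m_twrA_x_add f k 0 0
  rw [add_zero] at h
  exact mul_eq_left.mp h.symm

theorem e6m_twrA_x_inj (f : K ≃+* K) {k : ℕ} (hk : k < 24) {t u : K}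
    (e : e6m_twrA_x f k t = e6m_twrA_x f k u) : t = u :=
  e6m_twr_x_inj good2_E6 T0_E6 T3_E6 T4_E6 T7_E6 T8_E6 T19_E6 T20_E6 f w0clsE6_mem (k := k) hk e

/-! ### All scalars -/

set_option maxRecDepth 1000000 in
set_option maxHeartbeats 0 in
theorem e6m_twrA_linkedfast_ba :
    e6m_tor_LinkedT fastE6 chevE6 (fun i => [5, 1, 4, 3, 2, 0].getD i 0) (3, 1) (1, 1) := by decide +kernel

/-- every class of `²E₆` is linked FROM a class of the same length. -/
theorem e6m_twrA_linked_to {c : ℕ × ℕ} (hc : c ∈ clsE6) : ∃ c' ∈ clsE6,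
    Linked chevE6 (fun i => [5, 1, 4, 3, 2, 0].getD i 0) c' c ∧ c'.2 = c.2 := by
  have h : c = (1, 1) ∨ c = (3, 1) ∨ c = (0, 2) ∨ c = (2, 2) := by simpa using hc
  rcases h with rfl | rfl | rfl | rfl
  · exact ⟨(3, 1), by decide, e6m_tor_linked_of (tab_E6 ▸ e6m_twrA_linkedfast_ba), rfl⟩
  · exact ⟨(1, 1), by decide, e6m_tor_linked_of (tab_E6 ▸ e6m_tor_linkedfast_0), rfl⟩
  · exact ⟨(2, 2), by decide, e6m_tor_linked_of (tab_E6 ▸ e6m_tor_linkedfast_2), rfl⟩
  · exact ⟨(0, 2), by decide, e6m_tor_linked_of (tab_E6 ▸ e6m_tor_linkedfast_3), rfl⟩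

/-- **all scalars**: every admissible `a ≠ 0` is induced on the `k`-th root group by an element of the twisted group. -/
theorem e6m_twrA_scal (f : K ≃+* K) {k : ℕ} (hk : k < 24) {a : K} (ha : a ≠ 0)
    (hadm : Adm f (e6m_twrN_len k) a) :
    ∃ h : ↥(e6mG f), ∀ t : K, (h : GL chevE6.Idx K) * e6m_twrA_x f k t * (h : GL chevE6.Idx K)⁻¹ =
      e6m_twrA_x f k (a * t) := by
  have hk' : k < w0clsE6.length := hk
  obtain ⟨c', hc', hlink, hlen⟩ := e6m_twrA_linked_to (e6m_twrA_cls_mem hk)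
  rw [← e6m_twrA_cls_eq hk'] at hlink
  rw [← e6m_twrA_cls_len hk, ← hlen] at hadm
  obtain ⟨h, -, hhG, hh⟩ := e6m_twr_scal good2_E6 T3_E6 T4_E6 T19_E6 f w0clsE6_mem hk' hc' hlink ha hadm
  exact ⟨⟨h, hhG⟩, hh⟩

/-! ### The first reason: a field with more than four elements -/

section field

variable [Finite K] (f : K ≃+* K) (U : ℕ → Subgroup ↥(e6mG f))
  (hU : ∀ k < 24, ∀ g : ↥(e6mG f),
    g ∈ U k ↔ ∃ t, Adm f (e6m_twrN_len k) t ∧ (g : GL chevE6.Idx K) = e6m_twrA_x f k t)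

include hU in
/-- the root group `U k` has the first reason if its field of parameters has more than four elements. -/
theorem e6m_twrA_base_field {k : ℕ} (hk : k < 24) (hcard : 4 < Nat.card ↥(admField f (e6m_twrN_len k))) :
    AbBase U 24 k := by
  left
  have : Fintype ↥(admField f (e6m_twrN_len k)) := Fintype.ofFinite _
  refine ⟨↥(admField f (e6m_twrN_len k)), inferInstance,
    fun t => ⟨e6m_twrA_x f k (t : K), e6m_twrA_x_mem f hk t.2⟩, ⟨Finset.univ, ?_⟩, ?_, ?_, ?_⟩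
  · rw [Finset.card_univ, ← Nat.card_eq_fintype_card]
    exact hcard
  · intro t u
    apply Subtype.ext
    rw [Subgroup.coe_mul]
    exact e6m_twrA_x_add f k (t : K) (u : K)
  · intro c hc
    have hc' : (c : K) ≠ 0 := fun h => hc (Subtype.ext h)
    obtain ⟨h, hh⟩ := e6m_twrA_scal f hk hc' c.2
    refine ⟨h, fun t => ?_⟩
    apply Subtype.ext
    rw [Subgroup.coe_mul, Subgroup.coe_mul, Subgroup.coe_inv]
    exact hh (t : K)
  · intro y hy
    obtain ⟨t, ht, e⟩ := (hU k hk y).mp hy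
    exact ⟨⟨t, ht⟩, Subtype.ext e⟩

end field

/-! ### The orders of the fields of parameters -/

section card

variable [Fintype K] {q : ℕ}

/-- all elements are admissible for a class of length `2`. -/
theorem e6m_twrA_card_adm_two (hK : Fintype.card K = q ^ 2) {f : K ≃+* K}
    (hf2 : ∀ t, (((f : K →+* K)) ^ 2) t = t) : Nat.card ↥(admField f 2) = q ^ 2 := by
  rw [← hK, ← Nat.card_eq_fintype_card]
  exact Nat.card_congr (Equiv.subtypeUnivEquiv (fun t => hf2 t))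

/-- the units of the field of parameters of a class are the admissible units. -/
noncomputable def e6m_twrA_unitsEquiv (f : K ≃+* K) (m : ℕ) : (↥(admField f m))ˣ ≃ ↥(e6m_tor_admU f m) where
  toFun a := ⟨Units.map ((admField f m).subtype : ↥(admField f m) →* K) a, (a : ↥(admField f m)).2⟩
  invFun b := Units.mk0 ⟨((b : Kˣ) : K), b.2⟩ (fun h => (b : Kˣ).ne_zero (congrArg Subtype.val h))
  left_inv a := by
    apply Units.ext
    rfl
  right_inv b := by
    apply Subtype.ext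
    apply Units.ext
    rfl

/-- the field of parameters of a class of length `1` has `q` elements. -/
theorem e6m_twrA_card_adm_one (hq : 2 ≤ q) (hK : Fintype.card K = q ^ 2) {f : K ≃+* K}
    (hf : ∀ t, f t = t ^ q) : Nat.card ↥(admField f 1) = q := by
  rw [Nat.card_eq_card_units_add_one, Nat.card_congr (e6m_twrA_unitsEquiv f 1),
    e6m_tor_card_admU_one hq hK hf]
  omega

end card

/-! ### The second reason: `q = 3`, a long root group is cyclic of order `3` -/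

section cyclic

variable (f : K ≃+* K) (U : ℕ → Subgroup ↥(e6mG f))
  (hU : ∀ k < 24, ∀ g : ↥(e6mG f),
    g ∈ U k ↔ ∃ t, Adm f (e6m_twrN_len k) t ∧ (g : GL chevE6.Idx K) = e6m_twrA_x f k t)

include hU in
/-- for `q = 3` a long root group is cyclic. -/
theorem e6m_twrA_base_cyclic (hf : ∀ t, f t = t ^ 3) {k : ℕ} (hk : k < 24) (hlen : e6m_twrN_len k = 1) :
    AbBase U 24 k := by
  right; left
  have h1mem : e6m_twrA_x f k 1 ∈ e6mG f := e6m_twrA_x_mem f hk Adm.one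
  have h1U : (⟨e6m_twrA_x f k 1, h1mem⟩ : ↥(e6mG f)) ∈ U k :=
    (hU k hk _).mpr ⟨1, Adm.one, rfl⟩
  refine ⟨⟨⟨⟨e6m_twrA_x f k 1, h1mem⟩, h1U⟩, fun y => ?_⟩⟩
  obtain ⟨t, ht, e⟩ := (hU k hk y.1).mp y.2
  rw [hlen] at ht
  have ht3 : t ^ 3 = t := by
    have : f t = t := by
      have h := ht
      unfold Adm at h
      rw [pow_one] at h
      exact h
    rw [← hf, this]
  have hcases : t = 0 ∨ t = 1 ∨ t = -1 := by
    have h0 : t * ((t - 1) * (t + 1)) = 0 := by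
      have : t * ((t - 1) * (t + 1)) = t ^ 3 - t := by ring
      rw [this, ht3, sub_self]
    rcases mul_eq_zero.mp h0 with h | h
    · exact Or.inl h
    · rcases mul_eq_zero.mp h with h | h
      · exact Or.inr (Or.inl (sub_eq_zero.mp h))
      · exact Or.inr (Or.inr (eq_neg_of_add_eq_zero_left h))
  rcases hcases with rfl | rfl | rfl
  · refine ⟨0, ?_⟩
    change _ ^ (0 : ℤ) = y
    rw [zpow_zero]
    apply Subtype.ext
    apply Subtype.ext
    rw [e, e6m_twrA_x_zero]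
    rfl
  · refine ⟨1, ?_⟩
    change _ ^ (1 : ℤ) = y
    rw [zpow_one]
    apply Subtype.ext
    apply Subtype.ext
    exact e.symm
  · refine ⟨-1, ?_⟩
    change _ ^ (-1 : ℤ) = y
    rw [_root_.zpow_neg_one]
    apply Subtype.ext
    apply Subtype.ext
    rw [e]
    change (e6m_twrA_x f k 1)⁻¹ = _
    apply inv_eq_of_mul_eq_one_right
    rw [← e6m_twrA_x_add, add_neg_cancel, e6m_twrA_x_zero]

end cyclic

/-! ### Explicit forms of the long root groups `U 0` (root `p₂ = 46`) and `U 1` (root `p₂ + p₄ = 47`) -/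

/-- the explicit form of a root group of a class with one root: `x k t = x_r(η t)` for the root `r` which the part of the word after
the position `k` maps to the fundamental root of the class. -/
theorem e6m_twrA_x_explicit (f : K ≃+* K) {k : ℕ} (hk : k < 24) {i : ℕ} (hi : i < chevE6.rank)
    (hcls : e6m_twrA_cls k = (i, 1)) {r : ℕ} (hr : r < chevE6.nroots)
    (hrw : (tabOf chevE6).reflWord (e6m_twr_word (fun i => [5, 1, 4, 3, 2, 0].getD i 0) (w0clsE6.drop (k + 1))) r =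
      chevE6.simple i) (t : K) :
    e6m_twrA_x f k t = xGL good1_E6 hr
      ((((tabOf chevE6).etaWord (e6m_twr_word (fun i => [5, 1, 4, 3, 2, 0].getD i 0) (w0clsE6.drop (k + 1))) r : ℤ) : K) * t) := by
  have hc' : (i, 1) ∈ clsE6 := hcls ▸ e6m_twrA_cls_mem hk
  have hLd : ∀ c ∈ w0clsE6.drop (k + 1), c ∈ clsE6 := fun c hc => w0clsE6_mem c (List.mem_of_mem_drop hc)
  have hw := e6m_twr_word_lt T19_E6 hLd
  have hp := good1_E6.simple_lt hi
  rw [e6m_twrA_x_eq f hk, e6m_twrA_clsHom_congr good2_E6 T3_E6 T4_E6 T19_E6 f hcls _ hc',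
    clsHom_upper_one good2_E6 T3_E6 T4_E6 T19_E6 f hc' hi t]
  set η : K := (((tabOf chevE6).etaWord (e6m_twr_word (fun i => [5, 1, 4, 3, 2, 0].getD i 0)
    (w0clsE6.drop (k + 1))) r : ℤ) : K) with hη
  have hηη : η * η = 1 := etaWord_cast_mul_self good2_E6 hw hr
  have c := nWordGL_conj (F := K) good2_E6 hw hr (η * t)
  rw [← hη, ← mul_assoc, hηη, one_mul] at c
  have c' : e6m_twrA_tail (K := K) (k + 1) * xGL good1_E6 hr (η * t) * (e6m_twrA_tail (K := K) (k + 1))⁻¹ =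
      xGL good1_E6 hp t := by
    change nWordGL good2_E6 _ * _ * (nWordGL good2_E6 _)⁻¹ = _
    rw [c]
    exact xGL_congr good2_E6 hrw _ _ _
  rw [← c']
  group

set_option maxRecDepth 1000000 in
set_option maxHeartbeats 0 in
theorem e6m_twrA_refl0_fast : fastE6.reflWord
    (e6m_twr_word (fun i => [5, 1, 4, 3, 2, 0].getD i 0) (w0clsE6.drop (0 + 1))) 46 = chevE6.simple 1 := by
  decide +kernel

set_option maxRecDepth 1000000 in
set_option maxHeartbeats 0 in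
theorem e6m_twrA_refl1_fast : fastE6.reflWord
    (e6m_twr_word (fun i => [5, 1, 4, 3, 2, 0].getD i 0) (w0clsE6.drop (1 + 1))) 47 = chevE6.simple 3 := by
  decide +kernel

set_option maxRecDepth 1000000 in
set_option maxHeartbeats 0 in
theorem e6m_twrA_st_fast : fastE6.SingleTerm 47 39 46 1 := by decide +kernel

set_option maxRecDepth 1000000 in
set_option maxHeartbeats 0 in
theorem e6m_twrA_terms_fast : fastE6.commTerms 46 47 = [] := by decide +kernel

theorem e6m_twrA_st : (tabOf chevE6).SingleTerm 47 39 46 1 := tab_E6 ▸ e6m_twrA_st_fast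

theorem e6m_twrA_lt46 : (46 : ℕ) < chevE6.nroots := by decide

theorem e6m_twrA_lt47 : (47 : ℕ) < chevE6.nroots := by decide

theorem e6m_twrA_lt39 : (39 : ℕ) < chevE6.nroots := by decide

/-- the sign of the explicit form of `U 0`. -/
def e6m_twrA_eta0 (K : Type u) [Field K] : K :=
  (((tabOf chevE6).etaWord (e6m_twr_word (fun i => [5, 1, 4, 3, 2, 0].getD i 0) (w0clsE6.drop (0 + 1))) 46 : ℤ) : K)

/-- the sign of the explicit form of `U 1`. -/
def e6m_twrA_eta1 (K : Type u) [Field K] : K :=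
  (((tabOf chevE6).etaWord (e6m_twr_word (fun i => [5, 1, 4, 3, 2, 0].getD i 0) (w0clsE6.drop (1 + 1))) 47 : ℤ) : K)

theorem e6m_twrA_eta0_sq : e6m_twrA_eta0 K * e6m_twrA_eta0 K = 1 :=
  etaWord_cast_mul_self good2_E6
    (e6m_twr_word_lt T19_E6 (fun c hc => w0clsE6_mem c (List.mem_of_mem_drop hc))) e6m_twrA_lt46

theorem e6m_twrA_eta1_sq : e6m_twrA_eta1 K * e6m_twrA_eta1 K = 1 :=
  etaWord_cast_mul_self good2_E6
    (e6m_twr_word_lt T19_E6 (fun c hc => w0clsE6_mem c (List.mem_of_mem_drop hc))) e6m_twrA_lt47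

theorem e6m_twrA_x0 (f : K ≃+* K) (t : K) :
    e6m_twrA_x f 0 t = xGL good1_E6 e6m_twrA_lt46 (e6m_twrA_eta0 K * t) :=
  e6m_twrA_x_explicit f (by norm_num) (i := 1) (by decide) rfl e6m_twrA_lt46 (tab_E6 ▸ e6m_twrA_refl0_fast) t

theorem e6m_twrA_x1 (f : K ≃+* K) (t : K) :
    e6m_twrA_x f 1 t = xGL good1_E6 e6m_twrA_lt47 (e6m_twrA_eta1 K * t) :=
  e6m_twrA_x_explicit f (by norm_num) (i := 3) (by decide) rfl e6m_twrA_lt47 (tab_E6 ▸ e6m_twrA_refl1_fast) t

/-- `x_{p₂}(u)` and `x_{p₂+p₄}(v)` commute. -/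
theorem e6m_twrA_commute (u v : K) :
    xGL good1_E6 e6m_twrA_lt46 u * xGL good1_E6 e6m_twrA_lt47 v =
      xGL good1_E6 e6m_twrA_lt47 v * xGL good1_E6 e6m_twrA_lt46 u :=
  (xGL_commute_of_terms_nil good2_E6 T3_E6 T4_E6 e6m_twrA_lt46 e6m_twrA_lt47 (by decide) (by decide)
    (tab_E6 ▸ e6m_twrA_terms_fast) u v).eq

/-- `⁅x_{p₂}(u), x_{p₄}(1)⁆ = x_{p₂+p₄}(-u)`. -/
theorem e6m_twrA_comm (u : K) :
    xGL good1_E6 e6m_twrA_lt46 u * xGL good1_E6 e6m_twrA_lt39 1 * (xGL good1_E6 e6m_twrA_lt46 u)⁻¹ *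
      (xGL good1_E6 e6m_twrA_lt39 1)⁻¹ = xGL good1_E6 e6m_twrA_lt47 (-u) := by
  have h := e6m_twrA_comm_single (K := K) good2_E6 T3_E6 T4_E6 e6m_twrA_st e6m_twrA_lt47 1 u
  rw [h]
  congr 1
  push_cast
  ring

/-- `x_{p₄}(1)` lies in the twisted group. -/
theorem e6m_twrA_z_mem (f : K ≃+* K) : xGL good1_E6 e6m_twrA_lt39 (1 : K) ∈ e6mG f := by
  have hc : ((3 : ℕ), (1 : ℕ)) ∈ clsE6 := by decide
  have h := clsHom_upper_one good2_E6 T3_E6 T4_E6 T19_E6 f hc (by decide) (1 : K)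
  have e : xGL good1_E6 e6m_twrA_lt39 (1 : K) = clsHom good2_E6 T3_E6 T4_E6 T19_E6 f hc (upperSL 1) := by
    rw [h]
    exact xGL_congr good2_E6 (by decide) _ _ _
  rw [e]
  exact upper_mem_twGroup good2_E6 T3_E6 T4_E6 T19_E6 f hc Adm.one

/-! ### The third reason: characteristic `2`, the root group `U 1` consists of commutators with `U 0` -/

theorem e6m_twrA_len0 : e6m_twrN_len 0 = 1 := rfl

theorem e6m_twrA_len1 : e6m_twrN_len 1 = 1 := rfl

theorem e6m_twrA_adm_eta0 (f : K ≃+* K) (m : ℕ) : Adm f m (e6m_twrA_eta0 K) := Adm.intCast _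

theorem e6m_twrA_adm_eta1 (f : K ≃+* K) (m : ℕ) : Adm f m (e6m_twrA_eta1 K) := Adm.intCast _

theorem e6m_twrA_long_cases : ∀ k < 24, e6m_twrN_len k = 1 →
    e6m_twrA_cls k = (1, 1) ∨ e6m_twrA_cls k = (3, 1) := by decide

section q4

variable (f : K ≃+* K) (U : ℕ → Subgroup ↥(e6mG f))
  (hU : ∀ k < 24, ∀ g : ↥(e6mG f),
    g ∈ U k ↔ ∃ t, Adm f (e6m_twrN_len k) t ∧ (g : GL chevE6.Idx K) = e6m_twrA_x f k t)

include hU in
/-- in characteristic `2` the root group `U 1` has the third reason. -/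
theorem e6m_twrA_base_q4 (h2 : (2 : K) = 0) : AbBase U 24 1 := by
  right; right
  have hη0 := e6m_twrA_eta0_sq (K := K)
  have hη1 := e6m_twrA_eta1_sq (K := K)
  refine ⟨0, by norm_num, by norm_num, ?_, ?_, ⟨xGL good1_E6 e6m_twrA_lt39 1, e6m_twrA_z_mem f⟩, ?_, ?_⟩
  · intro x hx y hy
    obtain ⟨t, -, e₀⟩ := (hU 0 (by norm_num) x).mp hx
    obtain ⟨u, -, e₁⟩ := (hU 1 (by norm_num) y).mp hy
    apply Subtype.ext
    rw [Subgroup.coe_mul, Subgroup.coe_mul, e₀, e₁, e6m_twrA_x0, e6m_twrA_x1]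
    exact e6m_twrA_commute _ _
  · intro x hx
    obtain ⟨t, -, e₀⟩ := (hU 0 (by norm_num) x).mp hx
    apply Subtype.ext
    rw [Subgroup.coe_mul, e₀, ← e6m_twrA_x_add]
    have : t + t = 0 := by
      have : t + t = 2 * t := by ring
      rw [this, h2, zero_mul]
    rw [this, e6m_twrA_x_zero]
    rfl
  · intro x hx
    obtain ⟨t, ht, e₀⟩ := (hU 0 (by norm_num) x).mp hx
    rw [e6m_twrA_len0] at ht
    refine (hU 1 (by norm_num) _).mpr ⟨-(e6m_twrA_eta1 K * (e6m_twrA_eta0 K * t)), ?_, ?_⟩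
    · rw [e6m_twrA_len1]
      exact ((e6m_twrA_adm_eta1 f 1).mul ((e6m_twrA_adm_eta0 f 1).mul ht)).neg
    · rw [Subgroup.coe_mul, Subgroup.coe_mul, Subgroup.coe_mul, Subgroup.coe_inv, Subgroup.coe_inv, e₀,
        e6m_twrA_x0, e6m_twrA_x1]
      change xGL good1_E6 e6m_twrA_lt46 _ * xGL good1_E6 e6m_twrA_lt39 1 * (xGL good1_E6 e6m_twrA_lt46 _)⁻¹ *
        (xGL good1_E6 e6m_twrA_lt39 1)⁻¹ = _
      rw [e6m_twrA_comm]
      congr 1
      calc -(e6m_twrA_eta0 K * t) = -((e6m_twrA_eta1 K * e6m_twrA_eta1 K) * (e6m_twrA_eta0 K * t)) := by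
            rw [hη1, one_mul]
        _ = e6m_twrA_eta1 K * -(e6m_twrA_eta1 K * (e6m_twrA_eta0 K * t)) := by ring
  · intro y hy
    obtain ⟨t, ht, e₁⟩ := (hU 1 (by norm_num) y).mp hy
    rw [e6m_twrA_len1] at ht
    have hs : Adm f (e6m_twrN_len 0) (-(e6m_twrA_eta0 K * (e6m_twrA_eta1 K * t))) := by
      rw [e6m_twrA_len0]
      exact ((e6m_twrA_adm_eta0 f 1).mul ((e6m_twrA_adm_eta1 f 1).mul ht)).neg
    refine ⟨⟨e6m_twrA_x f 0 (-(e6m_twrA_eta0 K * (e6m_twrA_eta1 K * t))), e6m_twrA_x_mem f (by norm_num) hs⟩,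
      (hU 0 (by norm_num) _).mpr ⟨_, hs, rfl⟩, ?_⟩
    apply Subtype.ext
    rw [Subgroup.coe_mul, Subgroup.coe_mul, Subgroup.coe_mul, Subgroup.coe_inv, Subgroup.coe_inv, e₁,
      e6m_twrA_x1]
    change e6m_twrA_x f 0 _ * xGL good1_E6 e6m_twrA_lt39 1 * (e6m_twrA_x f 0 _)⁻¹ *
      (xGL good1_E6 e6m_twrA_lt39 1)⁻¹ = _
    rw [e6m_twrA_x0, e6m_twrA_comm]
    congr 1
    calc -(e6m_twrA_eta0 K * -(e6m_twrA_eta0 K * (e6m_twrA_eta1 K * t)))
        = (e6m_twrA_eta0 K * e6m_twrA_eta0 K) * (e6m_twrA_eta1 K * t) := by ring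
      _ = e6m_twrA_eta1 K * t := by rw [hη0, one_mul]

include hU in
/-- every long root group is conjugate into `U 1`. -/
theorem e6m_twrA_conj_long {i : ℕ} (hi : i < 24) (hlen : e6m_twrN_len i = 1) :
    ∃ g : ↥(e6mG f), ∀ x ∈ U i, g⁻¹ * x * g ∈ U 1 := by
  have h1 : (1 : ℕ) < 24 := by norm_num
  have hcls1 : e6m_twrA_cls 1 = (3, 1) := rfl
  rcases e6m_twrA_long_cases i hi hlen with hc | hc
  · -- class `{p₂}`: use the braid element `n₀ n₁`
    obtain ⟨n, hn⟩ : ∃ n : GL chevE6.Idx K, n = clsHom good2_E6 T3_E6 T4_E6 T19_E6 f e6m_concBr_c0 antiSL *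
        clsHom good2_E6 T3_E6 T4_E6 T19_E6 f e6m_concBr_c1 antiSL := ⟨_, rfl⟩
    have hnG : n ∈ e6mG f := by
      rw [hn]
      exact mul_mem (anti_mem_twGroup good2_E6 T3_E6 T4_E6 T19_E6 f e6m_concBr_c0)
        (anti_mem_twGroup good2_E6 T3_E6 T4_E6 T19_E6 f e6m_concBr_c1)
    refine ⟨⟨(e6m_twrA_tail (K := K) (i + 1))⁻¹ * n⁻¹ * e6m_twrA_tail (K := K) (1 + 1),
      mul_mem (mul_mem (inv_mem (e6m_twrA_tail_mem f _)) (inv_mem hnG)) (e6m_twrA_tail_mem f _)⟩, ?_⟩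
    intro x hx
    obtain ⟨t, ht, e⟩ := (hU i hi x).mp hx
    rw [hlen] at ht
    refine (hU 1 h1 _).mpr ⟨t, by rw [e6m_twrA_len1]; exact ht, ?_⟩
    rw [Subgroup.coe_mul, Subgroup.coe_mul, Subgroup.coe_inv, e, e6m_twrA_x_eq f hi, e6m_twrA_x_eq f h1,
      e6m_twrA_clsHom_congr good2_E6 T3_E6 T4_E6 T19_E6 f hc _ e6m_concBr_c0,
      e6m_twrA_clsHom_congr good2_E6 T3_E6 T4_E6 T19_E6 f hcls1 _ e6m_concBr_c1,
      ← e6m_concBr_01 f (upperSL t), ← hn]
    change ((e6m_twrA_tail (K := K) (i + 1))⁻¹ * n⁻¹ * e6m_twrA_tail (K := K) (1 + 1))⁻¹ * _ *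
      ((e6m_twrA_tail (K := K) (i + 1))⁻¹ * n⁻¹ * e6m_twrA_tail (K := K) (1 + 1)) = _
    group
  · -- class `{p₄}`: the same class as the position `1`
    refine ⟨⟨(e6m_twrA_tail (K := K) (i + 1))⁻¹ * e6m_twrA_tail (K := K) (1 + 1),
      mul_mem (inv_mem (e6m_twrA_tail_mem f _)) (e6m_twrA_tail_mem f _)⟩, ?_⟩
    intro x hx
    obtain ⟨t, ht, e⟩ := (hU i hi x).mp hx
    rw [hlen] at ht
    refine (hU 1 h1 _).mpr ⟨t, by rw [e6m_twrA_len1]; exact ht, ?_⟩
    rw [Subgroup.coe_mul, Subgroup.coe_mul, Subgroup.coe_inv, e, e6m_twrA_x_eq f hi, e6m_twrA_x_eq f h1,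
      e6m_twrA_clsHom_congr good2_E6 T3_E6 T4_E6 T19_E6 f hc _ e6m_concBr_c1,
      e6m_twrA_clsHom_congr good2_E6 T3_E6 T4_E6 T19_E6 f hcls1 _ e6m_concBr_c1]
    change ((e6m_twrA_tail (K := K) (i + 1))⁻¹ * e6m_twrA_tail (K := K) (1 + 1))⁻¹ * _ *
      ((e6m_twrA_tail (K := K) (i + 1))⁻¹ * e6m_twrA_tail (K := K) (1 + 1)) = _
    group

end q4

/-! ### The field `ab` -/

/-- **the field `ab` of `AbRoots ↥(e6mG f) p 24`** for `²E₆(q)`, `q ≠ 2`. -/
theorem e6m_twrA_ab [Fintype K] {q : ℕ} (hq : IsPrimePow q) (hq2 : q ≠ 2) (hK : Fintype.card K = q ^ 2)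
    {f : K ≃+* K} (hf : ∀ t, f t = t ^ q) (hf2 : ∀ t, (((f : K →+* K)) ^ 2) t = t)
    (U : ℕ → Subgroup ↥(e6mG f))
    (hU : ∀ k < 24, ∀ g : ↥(e6mG f),
      g ∈ U k ↔ ∃ t, Adm f (e6m_twrN_len k) t ∧ (g : GL chevE6.Idx K) = e6m_twrA_x f k t) :
    ∀ i < 24, AbBase U 24 i ∨
      ∃ j < 24, ∃ g : ↥(e6mG f), (∀ x ∈ U i, g⁻¹ * x * g ∈ U j) ∧ AbBase U 24 j := by
  intro i hi
  have hq3 : 3 ≤ q := by
    have := hq.two_le
    omega
  have hlen : e6m_twrN_len i = 1 ∨ e6m_twrN_len i = 2 := by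
    unfold e6m_twrN_len
    split_ifs
    · exact Or.inl rfl
    · exact Or.inr rfl
  rcases hlen with hlen | hlen
  · -- a long root group
    by_cases h5 : 5 ≤ q
    · left
      refine e6m_twrA_base_field f U hU hi ?_
      rw [hlen, e6m_twrA_card_adm_one hq.two_le hK hf]
      omega
    · have h34 : q = 3 ∨ q = 4 := by omega
      rcases h34 with rfl | rfl
      · left
        exact e6m_twrA_base_cyclic f U hU hf hi hlen
      · right
        have h2 : (2 : K) = 0 := by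
          have h16 : ((16 : ℕ) : K) = 0 := by
            have := Nat.cast_card_eq_zero K
            rw [hK] at this
            exact_mod_cast this
          have : (2 : K) ^ 4 = 0 := by
            have e : (2 : K) ^ 4 = ((16 : ℕ) : K) := by norm_num
            rw [e, h16]
          exact pow_eq_zero_iff (by norm_num) |>.mp this
        obtain ⟨g, hg⟩ := e6m_twrA_conj_long f U hU hi hlen
        exact ⟨1, by norm_num, g, hg, e6m_twrA_base_q4 f U hU h2⟩
  · -- a short root group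
    left
    refine e6m_twrA_base_field f U hU hi ?_
    rw [hlen, e6m_twrA_card_adm_two hK hf2]
    nlinarith

end Cfsg.Agent.E6M
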