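import Mathlib
import Cfsg.Agent.E6M.TwRoots
import Cfsg.Agent.E6M.NcTab
import Cfsg.Agent.Helper7.ChevTwU5
import Cfsg.Agent.Helper7.ChevRootCent
import Cfsg.Agent.Helper7.TwOutE6a

set_option autoImplicit false
set_option linter.unusedSectionVars false
set_option linter.unusedVariables false

/-!
# S2108, concrete side, package P1 (helper7): the 24 root groups of `²E₆(q)`

Instance of `E6M/TwRoots.lean` for `twGroup good2_E6 T3_E6 T4_E6 T19_E6 f` and the class word `w0clsE6` of the longest element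
(`24` letters); `e6m_twrE_x f k t`, `e6m_twrE_U f k` for `k < 24`; `e6m_twrE_cls k` = the class of fundamental roots of the position `k`
(`(1,1), (3,1)`: long, parameters in the fixed field; `(0,2), (2,2)`: short, parameters in `K`).  Everything for ANY `f : K ≃+* K`;
the hypotheses `hf : ∀ t, f t = t ^ q`, `hf2 : ∀ t, (↑f ^ 2) t = t` (what `twistedE6_eq` returns) only where needed.
-/

namespace Cfsg.Agent.E6M

open Cfsg Cfsg.Lie Matrix Cfsg.Agent.Helper7.Chev

variable {K : Type*} [Field K] (f : K ≃+* K)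

/-- the permutation of the fundamental roots of `E₆`. -/
abbrev e6m_twrE_rho : ℕ → ℕ := fun i => [5, 1, 4, 3, 2, 0].getD i 0

/-- the class of fundamental roots of the position `k`. -/
def e6m_twrE_cls (k : ℕ) : ℕ × ℕ := w0clsE6.getD k (0, 0)

/-- the parametrisation of the root group of the position `k` of `²E₆`. -/
noncomputable def e6m_twrE_x (k : ℕ) (t : K) : GL chevE6.Idx K :=
  e6m_twr_x good2_E6 T3_E6 T4_E6 T19_E6 f w0clsE6 w0clsE6_mem k t

/-- the root group of the position `k` of `²E₆`. -/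
noncomputable def e6m_twrE_U (k : ℕ) : Subgroup (GL chevE6.Idx K) :=
  e6m_twr_U good2_E6 T3_E6 T4_E6 T19_E6 f w0clsE6 w0clsE6_mem k

theorem e6m_twrE_length : w0clsE6.length = 24 := by decide

theorem e6m_twrE_cls_eq {k : ℕ} (hk : k < w0clsE6.length) : w0clsE6[k] = e6m_twrE_cls k := by
  unfold e6m_twrE_cls
  rw [List.getD_eq_getElem _ _ hk]

theorem e6m_twrE_cls_mem {k : ℕ} (hk : k < 24) : e6m_twrE_cls k ∈ clsE6 := by
  have hk' : k < w0clsE6.length := by rw [e6m_twrE_length]; exact hk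
  rw [← e6m_twrE_cls_eq hk']
  exact w0clsE6_mem _ (List.getElem_mem hk')

theorem e6m_twrE_cls_two {k : ℕ} (hk : k < 24) : (e6m_twrE_cls k).2 = 1 ∨ (e6m_twrE_cls k).2 = 2 := by
  revert k; decide

theorem e6m_twrE_pp : PrefixPos chevE6 (e6m_twr_word e6m_twrE_rho w0clsE6) := prefixPos_of_tab PPcls_E6

theorem e6m_twrE_mem_U {k : ℕ} (hk : k < 24) {g : GL chevE6.Idx K} :
    g ∈ e6m_twrE_U f k ↔ ∃ t : K, Adm f (e6m_twrE_cls k).2 t ∧ g = e6m_twrE_x f k t := by
  have hk' : k < w0clsE6.length := by rw [e6m_twrE_length]; exact hk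
  rw [← e6m_twrE_cls_eq hk']
  exact e6m_twr_mem_U good2_E6 T3_E6 T4_E6 T19_E6 f w0clsE6_mem hk'

theorem e6m_twrE_x_add (k : ℕ) (t u : K) :
    e6m_twrE_x f k (t + u) = e6m_twrE_x f k t * e6m_twrE_x f k u :=
  e6m_twr_x_add good2_E6 T3_E6 T4_E6 T19_E6 f w0clsE6_mem k t u

theorem e6m_twrE_x_inj {k : ℕ} (hk : k < 24) {t u : K} (e : e6m_twrE_x f k t = e6m_twrE_x f k u) : t = u := by
  have hk' : k < w0clsE6.length := by rw [e6m_twrE_length]; exact hk
  exact e6m_twr_x_inj good2_E6 T0_E6 T3_E6 T4_E6 T7_E6 T8_E6 T19_E6 T20_E6 f w0clsE6_mem hk' e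

theorem e6m_twrE_U_le (k : ℕ) : e6m_twrE_U f k ≤ twGroup good2_E6 T3_E6 T4_E6 T19_E6 f :=
  e6m_twr_U_le good2_E6 T3_E6 T4_E6 T19_E6 f w0clsE6_mem k

/-- **the root groups generate `U ⊓ G¹`.** -/
theorem e6m_twrE_iSup :
    (⨆ k ∈ Finset.range 24, e6m_twrE_U f k) =
      chevE6.posUnipotent K ⊓ twGroup good2_E6 T3_E6 T4_E6 T19_E6 f := by
  have := e6m_twr_iSup_top good2_E6 T0_E6 T3_E6 T4_E6 T5_E6 T6_E6 T7_E6 T8_E6 T18_E6 T19_E6 T20_E6 f
    w0clsE6_mem e6m_twrE_pp W0cls_E6
  rw [e6m_twrE_length] at this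
  exact this

/-- **the order of the group generated by the root groups is the product of their orders.** -/
theorem e6m_twrE_card :
    Nat.card ↥(⨆ k ∈ Finset.range 24, e6m_twrE_U f k) = ∏ k ∈ Finset.range 24, Nat.card (e6m_twrE_U f k) := by
  have := e6m_twr_card good2_E6 T0_E6 T3_E6 T4_E6 T5_E6 T6_E6 T7_E6 T8_E6 T18_E6 T19_E6 T20_E6 f
    w0clsE6_mem e6m_twrE_pp
  rw [e6m_twrE_length] at this
  exact this

/-- **the one-sided commutator relations.** -/
theorem e6m_twrE_comm {i j : ℕ} (hij : i < j) (hj : j < 24) {x y : GL chevE6.Idx K}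
    (hx : x ∈ e6m_twrE_U f i) (hy : y ∈ e6m_twrE_U f j) :
    x * y * x⁻¹ * y⁻¹ ∈ ⨆ k ∈ Finset.range j, e6m_twrE_U f k := by
  have hj' : j < w0clsE6.length := by rw [e6m_twrE_length]; exact hj
  exact e6m_twr_comm good2_E6 T0_E6 T3_E6 T4_E6 T5_E6 T6_E6 T7_E6 T8_E6 T18_E6 T19_E6 T20_E6 f
    w0clsE6_mem e6m_twrE_pp hij hj' hx hy

section card

variable [Fintype K] {q : ℕ}

/-- the orders of the root groups: `q` for the long, `q ^ 2` for the short ones. -/
theorem e6m_twrE_card_U (hq : IsPrimePow q) (hK : Fintype.card K = q ^ 2) (hf : ∀ t, f t = t ^ q)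
    (hf2 : ∀ t, (((f : K →+* K)) ^ 2) t = t) {k : ℕ} (hk : k < 24) :
    Nat.card (e6m_twrE_U f k) = q ^ (e6m_twrE_cls k).2 := by
  have hk' : k < w0clsE6.length := by rw [e6m_twrE_length]; exact hk
  have h1 := e6m_twr_card_U good2_E6 T0_E6 T3_E6 T4_E6 T7_E6 T8_E6 T19_E6 T20_E6 f w0clsE6_mem hk'
  rw [e6m_twrE_cls_eq hk'] at h1
  unfold e6m_twrE_U
  rw [h1]
  rcases e6m_twrE_cls_two hk with h | h
  · rw [h, pow_one]
    exact card_adm_one hq.two_le (by norm_num) hK hf
  · rw [h, card_adm_full hf2, hK]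

end card

/-! ### the torus -/

set_option maxRecDepth 1000000 in
set_option maxHeartbeats 0 in
theorem e6m_twrE_rootfast : ∀ k < 24,
    fastE6.reflWord (e6m_twr_word e6m_twrE_rho (w0clsE6.drop (k + 1))) (e6m_nc_root.getD k 0) =
      clsRoot chevE6 e6m_twrE_rho (w0clsE6.getD k (0, 0)).1 0 := by decide +kernel

/-- the part of the word after the position `k` maps the root `e6m_nc_root[k]` of lead's table to the first root of the class. -/
theorem e6m_twrE_root : ∀ k < 24,
    (tabOf chevE6).reflWord (e6m_twr_word e6m_twrE_rho (w0clsE6.drop (k + 1))) (e6m_nc_root.getD k 0) =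
      clsRoot chevE6 e6m_twrE_rho (w0clsE6.getD k (0, 0)).1 0 := tab_E6 ▸ e6m_twrE_rootfast

theorem e6m_twrE_root_lt : ∀ k < 24, e6m_nc_root.getD k 0 < chevE6.nroots := by decide

/-- **the action of a torus element `torusHom c` of the twisted group on the root group of the position `k`**: through the
character `∏_l c_l ^ ⟨r_k, α_l^∨⟩` of lead's `NcTab`. -/
theorem e6m_twrE_torus {k : ℕ} (hk : k < 24) (c : Fin chevE6.rank → Kˣ)
    (hc : torusHom chevE6 K c ∈ twGroup good2_E6 T3_E6 T4_E6 T19_E6 f) {t : K}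
    (ht : Adm f (e6m_twrE_cls k).2 t) :
    Adm f (e6m_twrE_cls k).2
        (((((List.range 6).map fun l => extu chevE6.rank c l ^ e6m_nc_cart k l).prod : Kˣ) : K) * t) ∧
      torusHom chevE6 K c * e6m_twrE_x f k t * (torusHom chevE6 K c)⁻¹ =
        e6m_twrE_x f k
          (((((List.range 6).map fun l => extu chevE6.rank c l ^ e6m_nc_cart k l).prod : Kˣ) : K) * t) := by
  have hk' : k < w0clsE6.length := by rw [e6m_twrE_length]; exact hk
  have hr := e6m_twrE_root_lt k hk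
  have hrw := e6m_twrE_root k hk
  have hD : torusHom chevE6 K c ∈ chevE6.diagonalSubgroup K := by
    rw [← torusHom_range good2_E6.toGood1]; exact ⟨c, rfl⟩
  have hscal : ((List.range chevE6.rank).map
        (fun i => extc chevE6.rank c i ^ chevE6.cartan i (e6m_nc_root.getD k 0))).prod =
      ((((List.range 6).map fun l => extu chevE6.rank c l ^ e6m_nc_cart k l).prod : Kˣ) : K) := by
    have h6 : List.range chevE6.rank = List.range 6 := rfl
    rw [← Units.coeHom_apply, map_list_prod, List.map_map, h6]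
    congr 1
    apply List.map_congr_left
    intro l hl
    rw [List.mem_range] at hl
    simp only [Function.comp_apply, Units.coeHom_apply]
    rw [Units.val_zpow_eq_zpow_val, extu_coe, e6m_nc_cart_eq k hk l hl]
  have hχ : ∀ u : K, torusHom chevE6 K c * xGL good2_E6.toGood1 hr u * (torusHom chevE6 K c)⁻¹ =
      xGL good2_E6.toGood1 hr
        (((((List.range 6).map fun l => extu chevE6.rank c l ^ e6m_nc_cart k l).prod : Kˣ) : K) * u) := by
    intro u
    rw [mul_inv_eq_iff_eq_mul]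
    apply Units.ext
    rw [Units.val_mul, Units.val_mul, torusHom_apply, tGL_coe, xGL_coe, xGL_coe,
      tMat_mul_x good2_E6 _ (fun i _ => extc_ne_zero c i) hr u, hscal]
  have hk'' : w0clsE6[k] = w0clsE6.getD k (0, 0) := (List.getD_eq_getElem _ _ hk').symm
  have ht' : Adm f (w0clsE6[k]).2 t := by rw [hk'']; exact ht
  have hrw' : (tabOf chevE6).reflWord (e6m_twr_word e6m_twrE_rho (w0clsE6.drop (k + 1)))
      (e6m_nc_root.getD k 0) = clsRoot chevE6 e6m_twrE_rho (w0clsE6[k]).1 0 := by rw [hk'']; exact hrw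
  have := e6m_twr_torus good2_E6 T0_E6 T3_E6 T4_E6 T5_E6 T7_E6 T8_E6 T18_E6 T19_E6 T20_E6 f
    w0clsE6_mem hk' hD hc hr hrw' hχ ht'
  rw [hk''] at this
  exact this

/-! ### all scalars -/

set_option maxRecDepth 1000000 in
set_option maxHeartbeats 0 in
theorem e6m_twrE_linkedfast_ba :
    LinkedT fastE6 chevE6 (fun i => [5, 1, 4, 3, 2, 0].getD i 0) (3, 1) (1, 1) := by decide +kernel

set_option maxRecDepth 1000000 in
set_option maxHeartbeats 0 in
theorem e6m_twrE_linkedfast_DC :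
    LinkedT fastE6 chevE6 (fun i => [5, 1, 4, 3, 2, 0].getD i 0) (0, 2) (2, 2) := by decide +kernel

theorem e6m_twrE_linked_ba : Linked chevE6 e6m_twrE_rho (3, 1) (1, 1) :=
  linked_of_linkedT (tab_E6 ▸ e6m_twrE_linkedfast_ba)

theorem e6m_twrE_linked_DC : Linked chevE6 e6m_twrE_rho (0, 2) (2, 2) :=
  linked_of_linkedT (tab_E6 ▸ e6m_twrE_linkedfast_DC)

/-- every class of fundamental roots has a linked class with the same field of parameters. -/
theorem e6m_twrE_exists_linked {c : ℕ × ℕ} (hc : c ∈ clsE6) :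
    ∃ c' ∈ clsE6, c'.2 = c.2 ∧ Linked chevE6 e6m_twrE_rho c' c := by
  have h : c = (1, 1) ∨ c = (3, 1) ∨ c = (0, 2) ∨ c = (2, 2) := by simpa using hc
  rcases h with rfl | rfl | rfl | rfl
  · exact ⟨(3, 1), by decide, rfl, e6m_twrE_linked_ba⟩
  · exact ⟨(1, 1), by decide, rfl, linked_E6_ab⟩
  · exact ⟨(2, 2), by decide, rfl, linked_E6_CD⟩
  · exact ⟨(0, 2), by decide, rfl, e6m_twrE_linked_DC⟩

/-- **all scalars**: every admissible non-zero `a` is the scalar of an element of `H¹` on the root group of the position `k`. -/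
theorem e6m_twrE_scal {k : ℕ} (hk : k < 24) {a : K} (ha : a ≠ 0) (hadm : Adm f (e6m_twrE_cls k).2 a) :
    ∃ h : GL chevE6.Idx K, h ∈ chevE6.diagonalSubgroup K ∧ h ∈ twGroup good2_E6 T3_E6 T4_E6 T19_E6 f ∧
      ∀ t : K, h * e6m_twrE_x f k t * h⁻¹ = e6m_twrE_x f k (a * t) := by
  have hk' : k < w0clsE6.length := by rw [e6m_twrE_length]; exact hk
  obtain ⟨c', hc', h2, hlink⟩ := e6m_twrE_exists_linked (e6m_twrE_cls_mem hk)
  rw [← e6m_twrE_cls_eq hk'] at hlink h2 hadm
  rw [← h2] at hadm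
  exact e6m_twr_scal good2_E6 T3_E6 T4_E6 T19_E6 f w0clsE6_mem hk' hc' hlink ha hadm

end Cfsg.Agent.E6M
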