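import Mathlib
import Cfsg.Agent.E6M.TwRootsE6
import Cfsg.Agent.E6M.TwTor
import Cfsg.Agent.E6M.ConcRk1

set_option autoImplicit false
set_option linter.unusedSectionVars false
set_option linter.unusedVariables false

/-!
# S2108, concrete side: the 24 root groups as subgroups of `↥(e6mG f)` (file `Cfsg/Agent/E6M/TwRootsSub.lean`, helper7)

`e6m_twrS_U f k = (e6m_twrE_U f k).subgroupOf (e6mG f)`: THE root groups of the instance of `AbRoots ↥(e6mG f) p 24`.
The fields `comm` (`e6m_twrS_comm`) and `card` (`e6m_twrS_card`) verbatim, the transport of suprema `e6m_twrS_iSup`,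
the order `e6m_twrS_card_U`, and `e6m_twrS_top : ⨆ k ∈ range 24, U k = (posUnipotent ⊓ G¹).subgroupOf G¹`.
-/

namespace Cfsg.Agent.E6M

open Cfsg Cfsg.Lie Matrix Cfsg.Agent.Helper7.Chev

variable {K : Type*} [Field K] (f : K ≃+* K)

/-- the root group of the position `k` as a subgroup of `²E₆`. -/
noncomputable def e6m_twrS_U (k : ℕ) : Subgroup ↥(e6mG f) := (e6m_twrE_U f k).subgroupOf (e6mG f)

theorem e6m_twrS_mem_U {k : ℕ} (hk : k < 24) (g : ↥(e6mG f)) :
    g ∈ e6m_twrS_U f k ↔ ∃ t : K, Adm f (e6m_twrE_cls k).2 t ∧ (g : GL chevE6.Idx K) = e6m_twrE_x f k t := by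
  unfold e6m_twrS_U
  rw [Subgroup.mem_subgroupOf]
  exact e6m_twrE_mem_U f hk

/-- the root elements with admissible parameters lie in `²E₆`. -/
theorem e6m_twrS_x_mem {k : ℕ} (hk : k < 24) {t : K} (ht : Adm f (e6m_twrE_cls k).2 t) :
    e6m_twrE_x f k t ∈ e6mG f :=
  e6m_twrE_U_le f k ((e6m_twrE_mem_U f hk).mpr ⟨t, ht, rfl⟩)

/-- `subgroupOf` commutes with the suprema over `Finset.range j`. -/
theorem e6m_twrS_iSup (j : ℕ) :
    (⨆ k ∈ Finset.range j, e6m_twrS_U f k) =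
      (⨆ k ∈ Finset.range j, e6m_twrE_U f k).subgroupOf (e6mG f) := by
  unfold e6m_twrS_U
  rw [e6m_tor_subgroupOf_iSup (e6mG f) (fun k => ⨆ (_ : k ∈ Finset.range j), e6m_twrE_U f k)
    (fun k => iSup_le fun _ => e6m_twrE_U_le f k)]
  apply iSup_congr
  intro k
  rw [e6m_tor_subgroupOf_iSup (e6mG f) (fun _ : k ∈ Finset.range j => e6m_twrE_U f k)
    (fun _ => e6m_twrE_U_le f k)]

theorem e6m_twrS_iSup_le (j : ℕ) : (⨆ k ∈ Finset.range j, e6m_twrE_U f k) ≤ e6mG f :=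
  iSup_le fun k => iSup_le fun _ => e6m_twrE_U_le f k

/-- **the field `comm` of `AbRoots`**: the one-sided commutator relations. -/
theorem e6m_twrS_comm : ∀ i j, i < j → j < 24 → ∀ x ∈ e6m_twrS_U f i, ∀ y ∈ e6m_twrS_U f j,
    x * y * x⁻¹ * y⁻¹ ∈ ⨆ k ∈ Finset.range j, e6m_twrS_U f k := by
  intro i j hij hj x hx y hy
  rw [e6m_twrS_iSup, Subgroup.mem_subgroupOf]
  unfold e6m_twrS_U at hx hy
  rw [Subgroup.mem_subgroupOf] at hx hy
  have := e6m_twrE_comm f hij hj hx hy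
  simpa using this

/-- the order of the root groups does not change. -/
theorem e6m_twrS_card_eq (k : ℕ) : Nat.card (e6m_twrS_U f k) = Nat.card (e6m_twrE_U f k) :=
  e6m_tor_card_subgroupOf (e6m_twrE_U_le f k)

/-- **the field `card` of `AbRoots`.** -/
theorem e6m_twrS_card :
    Nat.card ↥(⨆ k ∈ Finset.range 24, e6m_twrS_U f k) = ∏ k ∈ Finset.range 24, Nat.card (e6m_twrS_U f k) := by
  rw [e6m_twrS_iSup, e6m_tor_card_subgroupOf (e6m_twrS_iSup_le f 24), e6m_twrE_card]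
  exact Finset.prod_congr rfl fun k _ => (e6m_twrS_card_eq f k).symm

/-- the root groups generate `(U ⊓ G¹)` inside `G¹`. -/
theorem e6m_twrS_top :
    (⨆ k ∈ Finset.range 24, e6m_twrS_U f k) =
      (chevE6.posUnipotent K ⊓ twGroup good2_E6 T3_E6 T4_E6 T19_E6 f).subgroupOf (e6mG f) := by
  rw [e6m_twrS_iSup, e6m_twrE_iSup]

section card

variable [Fintype K] {q : ℕ}

/-- the orders of the root groups: `q` for the long, `q ^ 2` for the short ones. -/
theorem e6m_twrS_card_U (hq : IsPrimePow q) (hK : Fintype.card K = q ^ 2) (hf : ∀ t, f t = t ^ q)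
    (hf2 : ∀ t, (((f : K →+* K)) ^ 2) t = t) {k : ℕ} (hk : k < 24) :
    Nat.card (e6m_twrS_U f k) = q ^ (e6m_twrE_cls k).2 := by
  rw [e6m_twrS_card_eq, e6m_twrE_card_U f hq hK hf hf2 hk]

/-- the order of the group generated by the root groups. -/
theorem e6m_twrS_card_top (hq : IsPrimePow q) (hK : Fintype.card K = q ^ 2) (hf : ∀ t, f t = t ^ q)
    (hf2 : ∀ t, (((f : K →+* K)) ^ 2) t = t) :
    Nat.card ↥(⨆ k ∈ Finset.range 24, e6m_twrS_U f k) = q ^ 36 := by
  rw [e6m_twrS_card]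
  have h : ∀ k ∈ Finset.range 24, Nat.card (e6m_twrS_U f k) = q ^ (e6m_twrE_cls k).2 := fun k hk =>
    e6m_twrS_card_U f hq hK hf hf2 (Finset.mem_range.mp hk)
  rw [Finset.prod_congr rfl h, Finset.prod_pow_eq_pow_sum]
  congr 1

end card

end Cfsg.Agent.E6M
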