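import Mathlib
import Cfsg.Agent.E6M.TwRootsAb
import Cfsg.Agent.E6M.TwRootsSub

set_option autoImplicit false
set_option linter.unusedSectionVars false
set_option linter.unusedVariables false

/-!
# S2108, package P5, instance (file `Cfsg/Agent/E6M/TwRootsAbS.lean`): the field `ab` of `AbRoots` for the canonical root groups
`e6m_twrS_U f k` of `E6M/TwRootsSub.lean`.  Prefix `e6m_twrA_`.
-/

namespace Cfsg.Agent.E6M

open Cfsg Cfsg.Lie Matrix Cfsg.Agent.Helper7.Chev Cfsg.Agent.F4M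

universe u

variable {K : Type u} [Field K]

/-- the membership characterisation of the canonical root groups in the shape of `E6M/TwRootsNC.lean`. -/
theorem e6m_twrA_hU_S (f : K ≃+* K) : ∀ k < 24, ∀ g : ↥(e6mG f),
    g ∈ e6m_twrS_U f k ↔ ∃ t, Adm f (e6m_twrN_len k) t ∧ (g : GL chevE6.Idx K) = e6m_twrA_x f k t := by
  intro k hk g
  rw [e6m_twrS_mem_U f hk g, e6m_twrN_len_eq k hk]
  exact Iff.rfl

/-- **the field `ab` of `AbRoots ↥(e6mG f) p 24`** for the canonical root groups `e6m_twrS_U f`. -/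
theorem e6m_twrA_ab_S [Fintype K] {q : ℕ} (hq : IsPrimePow q) (hq2 : q ≠ 2) (hK : Fintype.card K = q ^ 2)
    {f : K ≃+* K} (hf : ∀ t, f t = t ^ q) (hf2 : ∀ t, (((f : K →+* K)) ^ 2) t = t) :
    ∀ i < 24, AbBase (e6m_twrS_U f) 24 i ∨
      ∃ j < 24, ∃ g : ↥(e6mG f), (∀ x ∈ e6m_twrS_U f i, g⁻¹ * x * g ∈ e6m_twrS_U f j) ∧
        AbBase (e6m_twrS_U f) 24 j :=
  e6m_twrA_ab hq hq2 hK hf hf2 (e6m_twrS_U f) (e6m_twrA_hU_S f)

end Cfsg.Agent.E6M
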