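import Mathlib
import Cfsg.Agent.E6M.TwRootsNC

set_option autoImplicit false
set_option linter.unusedSectionVars false
set_option linter.unusedVariables false

/-!
# S2108, packages P3/P4 (bridge), second half: (NC) and `norm` when the torus action is known on ADMISSIBLE parameters only

Same as `E6M/TwRootsNC.lean` with the weaker hypothesis `TwrActA f x` (the action formula
`torusHom c * x k t * (torusHom c)⁻¹ = x k (χ_k(c) * t)` only for admissible `t`; this is what `e6m_twr_torus` of `E6M/TwRoots.lean` gives).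
Prefix `e6m_twrNA_`.
-/

namespace Cfsg.Agent.E6M

open Cfsg Cfsg.Lie Cfsg.Agent.Helper7.Chev

variable {K : Type*} [Field K]

/-- the hypotheses on the parametrisations `x k` of the 24 root groups, torus action on admissible parameters. -/
structure TwrActA (f : K ≃+* K) (x : ℕ → K → GL chevE6.Idx K) : Prop where
  x_zero : ∀ k < 24, x k 0 = 1
  x_inj : ∀ k < 24, ∀ t t' : K, x k t = x k t' → t = t'
  act : ∀ k < 24, ∀ c : Fin chevE6.rank → Kˣ, sigC T18_E6 f c = c → ∀ t : K, Adm f (e6m_twrN_len k) t →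
    torusHom chevE6 K c * x k t * (torusHom chevE6 K c)⁻¹ = x k ((e6m_twrN_chi k c : K) * t)

theorem TwrAct.toA {f : K ≃+* K} {x : ℕ → K → GL chevE6.Idx K} (h : TwrAct f x) : TwrActA f x :=
  ⟨h.x_zero, h.x_inj, fun k hk c hc t _ => h.act k hk c hc t⟩

section fields

variable (f : K ≃+* K) {x : ℕ → K → GL chevE6.Idx K} (hA : TwrActA f x) (U : ℕ → Subgroup ↥(e6mG f))
  (hU : ∀ k < 24, ∀ g : ↥(e6mG f),
    g ∈ U k ↔ ∃ t, Adm f (e6m_twrN_len k) t ∧ (g : GL chevE6.Idx K) = x k t)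

include hA hU in
/-- `H¹` normalizes every root group. -/
theorem e6m_twrNA_norm (hf2 : ∀ t, (((f : K →+* K)) ^ 2) t = t) :
    ∀ i < 24, ∀ h ∈ e6m_twrN_H f, ∀ y ∈ U i, h * y * h⁻¹ ∈ U i := by
  intro i hi h hh y hy
  obtain ⟨c, hc, e⟩ := e6m_twrN_exists_par f hf2 h hh
  obtain ⟨t, ht, ey⟩ := (hU i hi y).mp hy
  refine (hU i hi _).mpr ⟨(e6m_twrN_chi i c : K) * t, e6m_twrN_adm_chi f hf2 hi hc ht, ?_⟩
  rw [Subgroup.coe_mul, Subgroup.coe_mul, Subgroup.coe_inv, e, ey]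
  exact hA.act i hi c hc t ht

include hA hU in
/-- a torus element with `χ_j(c) = 1` centralizes `U j`. -/
theorem e6m_twrNA_cent {j : ℕ} (hj : j < 24) {c : Fin chevE6.rank → Kˣ} (hc : sigC T18_E6 f c = c)
    (hχ : e6m_twrN_chi j c = 1) (h : ↥(e6mG f)) (e : (h : GL chevE6.Idx K) = torusHom chevE6 K c) :
    ∀ y ∈ U j, h * y = y * h := by
  intro y hy
  obtain ⟨t, ht, ey⟩ := (hU j hj y).mp hy
  apply Subtype.ext
  rw [Subgroup.coe_mul, Subgroup.coe_mul, e, ey]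
  have h1 := hA.act j hj c hc t ht
  rw [hχ, Units.val_one, one_mul] at h1
  exact mul_inv_eq_iff_eq_mul.mp h1

include hA hU in
/-- a torus element with `χ_i(c) ≠ 1` acts fixed-point-freely on `U i`. -/
theorem e6m_twrNA_free {i : ℕ} (hi : i < 24) {c : Fin chevE6.rank → Kˣ} (hc : sigC T18_E6 f c = c)
    (hχ : e6m_twrN_chi i c ≠ 1) (h : ↥(e6mG f)) (e : (h : GL chevE6.Idx K) = torusHom chevE6 K c) :
    ∀ y ∈ U i, h * y = y * h → y = 1 := by
  intro y hy hcomm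
  obtain ⟨t, ht, ey⟩ := (hU i hi y).mp hy
  have h0 := congrArg (Subtype.val : ↥(e6mG f) → GL chevE6.Idx K) hcomm
  rw [Subgroup.coe_mul, Subgroup.coe_mul, e, ey] at h0
  have h1 := hA.act i hi c hc t ht
  have h2 : x i ((e6m_twrN_chi i c : K) * t) = x i t := by
    rw [← h1, h0]
    group
  have h3 := hA.x_inj i hi _ _ h2
  have hχ' : (e6m_twrN_chi i c : K) ≠ 1 := fun h => hχ (Units.ext h)
  have ht0 : t = 0 := by
    have h4 : ((e6m_twrN_chi i c : K) - 1) * t = 0 := by rw [sub_mul, h3, one_mul, sub_self]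
    rcases mul_eq_zero.mp h4 with h5 | h5
    · exact absurd (sub_eq_zero.mp h5) hχ'
    · exact h5
  apply Subtype.ext
  rw [ey, ht0, hA.x_zero i hi]
  rfl

end fields

section nc

variable [Fintype K] {q : ℕ}

/-- **(NC)** for `²E₆(q)`, `q ≥ 3`. -/
theorem e6m_twrNA_nc (hq : 3 ≤ q) (hK : Fintype.card K = q ^ 2) {f : K ≃+* K} (hf : ∀ t, f t = t ^ q)
    {x : ℕ → K → GL chevE6.Idx K} (hA : TwrActA f x) (U : ℕ → Subgroup ↥(e6mG f))
    (hU : ∀ k < 24, ∀ g : ↥(e6mG f),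
      g ∈ U k ↔ ∃ t, Adm f (e6m_twrN_len k) t ∧ (g : GL chevE6.Idx K) = x k t) :
    ∀ i < 24, ∀ j < 24, i ≠ j → ∃ h ∈ e6m_twrN_H f,
      (∀ y ∈ U i, h * y = y * h → y = 1) ∧ ∀ y ∈ U j, h * y = y * h := by
  intro i hi j hj hij
  obtain ⟨u, hu⟩ := e6m_twrN_exists_gen (K := K) hK
  have hq2 : 1 ≤ q ^ 2 := Nat.one_le_pow _ _ (by omega)
  have hu' : u ^ (q ^ 2) = u := by
    have h1 : u ^ (q ^ 2 - 1) = 1 := by rw [← hu]; exact pow_orderOf_eq_one u
    calc u ^ (q ^ 2) = u ^ (q ^ 2 - 1 + 1) := by rw [Nat.sub_add_cancel hq2]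
      _ = u := by rw [pow_succ, h1, one_mul]
  obtain ⟨hc1, hc2⟩ := e6m_nc_main hq u hu i hi j hj hij
  have hfix := e6m_twrN_par_fixed hf u hu' (e6m_nc_wit i j)
  obtain ⟨h, hh, e⟩ := e6m_twrN_torus_mem f hfix
  refine ⟨h, hh, ?_, ?_⟩
  · exact e6m_twrNA_free f hA U hU hi hfix (by rw [e6m_twrN_chi_par]; exact hc2) h e
  · exact e6m_twrNA_cent f hA U hU hj hfix (by rw [e6m_twrN_chi_par]; exact hc1) h e

end nc

end Cfsg.Agent.E6M
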