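import Mathlib
import Cfsg.Agent.E6M.TwRootsNCA
import Cfsg.Agent.E6M.TwRootsE6

set_option autoImplicit false
set_option linter.unusedSectionVars false
set_option linter.unusedVariables false

/-!
# S2108, packages P3/P4: the fields `H_comm`, `H_cop`, `norm`, `nc` of `AbRoots` for the 24 root groups of `²E₆(q)`

Instance of `E6M/TwRootsNCA.lean` for the root groups `e6m_twrE_U f k` of `E6M/TwRootsE6.lean`, as subgroups
`e6m_twrNE_U f k = (e6m_twrE_U f k).subgroupOf (e6mG f)` of `↥(e6mG f)`, and the torus `e6m_twrN_H f`.  Prefix `e6m_twrNE_`.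
-/

namespace Cfsg.Agent.E6M

open Cfsg Cfsg.Lie Cfsg.Agent.Helper7.Chev

variable {K : Type*} [Field K] (f : K ≃+* K)

/-- the root group of the position `k` as a subgroup of `²E₆`. -/
noncomputable def e6m_twrNE_U (k : ℕ) : Subgroup ↥(e6mG f) := (e6m_twrE_U f k).subgroupOf (e6mG f)

theorem e6m_twrNE_len (k : ℕ) (hk : k < 24) : e6m_twrN_len k = (e6m_twrE_cls k).2 :=
  e6m_twrN_len_eq k hk

theorem e6m_twrNE_mem_U {k : ℕ} (hk : k < 24) (g : ↥(e6mG f)) :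
    g ∈ e6m_twrNE_U f k ↔ ∃ t, Adm f (e6m_twrN_len k) t ∧ (g : GL chevE6.Idx K) = e6m_twrE_x f k t := by
  unfold e6m_twrNE_U
  rw [Subgroup.mem_subgroupOf, e6m_twrE_mem_U f hk, e6m_twrNE_len k hk]

theorem e6m_twrNE_x_zero (k : ℕ) : e6m_twrE_x f k 0 = 1 := by
  have h := e6m_twrE_x_add f k 0 0
  rw [add_zero] at h
  exact (mul_eq_left.mp h.symm)

/-- the parametrisations of `E6M/TwRootsE6.lean` satisfy the hypotheses of `E6M/TwRootsNCA.lean`. -/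
theorem e6m_twrNE_act : TwrActA f (e6m_twrE_x f) where
  x_zero := fun k _ => e6m_twrNE_x_zero f k
  x_inj := fun k hk t t' e => e6m_twrE_x_inj f hk e
  act := by
    intro k hk c hc t ht
    have hm : torusHom chevE6 K c ∈ twGroup good2_E6 T3_E6 T4_E6 T19_E6 f :=
      torusHom_mem_twGroup good2_E6 T3_E6 T4_E6 T18_E6 T19_E6 f clsperm_E6 hc
    rw [e6m_twrNE_len k hk] at ht
    exact (e6m_twrE_torus f hk c hm ht).2

/-- `H¹` normalizes the 24 root groups. -/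
theorem e6m_twrNE_norm (hf2 : ∀ t, (((f : K →+* K)) ^ 2) t = t) :
    ∀ i < 24, ∀ h ∈ e6m_twrN_H f, ∀ y ∈ e6m_twrNE_U f i, h * y * h⁻¹ ∈ e6m_twrNE_U f i :=
  e6m_twrNA_norm f (e6m_twrNE_act f) (e6m_twrNE_U f) (fun k hk g => e6m_twrNE_mem_U f hk g) hf2

/-- **(NC)** for the 24 root groups of `²E₆(q)`, `q ≥ 3`. -/
theorem e6m_twrNE_nc [Fintype K] {q : ℕ} (hq : 3 ≤ q) (hK : Fintype.card K = q ^ 2) (hf : ∀ t, f t = t ^ q) :
    ∀ i < 24, ∀ j < 24, i ≠ j → ∃ h ∈ e6m_twrN_H f,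
      (∀ y ∈ e6m_twrNE_U f i, h * y = y * h → y = 1) ∧ ∀ y ∈ e6m_twrNE_U f j, h * y = y * h :=
  e6m_twrNA_nc hq hK hf (e6m_twrNE_act f) (e6m_twrNE_U f) (fun k hk g => e6m_twrNE_mem_U f hk g)

end Cfsg.Agent.E6M
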