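import Mathlib
import Cfsg.Agent.E6M.PartIAb
import Cfsg.Agent.E6M.ConcDefs
import Cfsg.Agent.E6M.TwRootsNCE
import Cfsg.Agent.E6M.TwRootsSub
import Cfsg.Agent.E6M.TwRootsAbS
import Cfsg.Agent.Helper7.ChevTwO6

set_option autoImplicit false
set_option linter.unusedSectionVars false
set_option linter.unusedVariables false

/-!
# S2108, Part I, concrete side (helper2): the record `AbRoots ↥(e6G f) p 24` for `²E₆(q)`, `q ≠ 2`

Assembly of the fields proved in `E6M/TwRootsNC.lean`, `E6M/TwRootsNCE.lean` (torus, `norm`, `nc`), `E6M/TwRootsSub.lean`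
(`comm`, `card`), `E6M/TwRootsAbS.lean` (`ab`) and the index `idx` (from the order formula `twE6_card`).
Prefix `e6m_concRoots_`; final statement `e6m_conc_roots`.
-/

namespace Cfsg.Agent.E6M

open Cfsg Cfsg.Lie Cfsg.Agent.Helper7.Chev

universe u

variable {K : Type u} [Field K] [Fintype K] {q : ℕ}

/-- the characteristic divides `q`. -/
theorem e6m_concRoots_dvd {p : ℕ} (hp : p.Prime) (hpK : (p : K) = 0) (hK : Fintype.card K = q ^ 2) : p ∣ q := by
  have h1 : ringChar K ∣ p := ringChar.dvd hpK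
  have hc : CharP K (ringChar K) := ringChar.charP K
  have h2 : (ringChar K).Prime := CharP.char_is_prime K (ringChar K)
  have h3 : ringChar K = p := ((Nat.prime_dvd_prime_iff_eq h2 hp).mp h1)
  obtain ⟨n, -, hn⟩ := FiniteField.card K (ringChar K)
  rw [h3, hK] at hn
  have h4 : p ∣ q ^ 2 := by
    rw [hn]
    exact dvd_pow_self p n.ne_zero
  exact hp.dvd_of_dvd_pow h4

theorem e6m_concRoots_cop_succ {p : ℕ} (hp : p.Prime) (hpq : p ∣ q) (k : ℕ) (hk : k ≠ 0) : ¬ p ∣ q ^ k + 1 := by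
  intro h
  have h1 : p ∣ q ^ k := dvd_pow hpq hk
  have h2 : p ∣ 1 := (Nat.dvd_add_right h1).mp h
  exact hp.one_lt.ne' (Nat.dvd_one.mp h2)

theorem e6m_concRoots_cop_pred {p : ℕ} (hp : p.Prime) (hpq : p ∣ q) (hq : 1 ≤ q) (k : ℕ) (hk : k ≠ 0) :
    ¬ p ∣ q ^ k - 1 := by
  intro h
  have h1 : p ∣ q ^ k := dvd_pow hpq hk
  have h0 : 1 ≤ q ^ k := Nat.one_le_pow _ _ hq
  have h3 : q ^ k - 1 + 1 = q ^ k := Nat.sub_add_cancel h0
  have h2 : p ∣ 1 := by
    rw [← h3] at h1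
    exact (Nat.dvd_add_right h).mp h1
  exact hp.one_lt.ne' (Nat.dvd_one.mp h2)

/-- **the field `idx`:** `p ∤ |²E₆(q) : U|`. -/
theorem e6m_concRoots_idx {f : K ≃+* K} {p : ℕ} (hp : p.Prime) (hpq : p ∣ q) (hq : IsPrimePow q)
    (hK : Fintype.card K = q ^ 2) (hf : ∀ t, f t = t ^ q) (hf2 : ∀ t, (((f : K →+* K)) ^ 2) t = t) :
    ¬ p ∣ (⨆ k ∈ Finset.range 24, e6m_twrS_U f k).index := by
  intro hdvd
  have hq1 : 1 ≤ q := le_trans (by norm_num) hq.two_le
  have hcardU := e6m_twrS_card_top f hq hK hf hf2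
  have hG := twE6_card hq hK
  obtain ⟨f', hf', -, e⟩ := twistedE6_eq hq hK
  have hff : f' = f := RingEquiv.ext fun t => by rw [hf, hf']
  rw [hff] at e
  rw [e] at hG
  have hI : (⨆ k ∈ Finset.range 24, e6m_twrS_U f k).index *
      Nat.card ↥(⨆ k ∈ Finset.range 24, e6m_twrS_U f k) = Nat.card ↥(e6mG f) :=
    Subgroup.index_mul_card _
  rw [hcardU] at hI
  have hG' : Nat.card ↥(e6mG f) = Nat.card ↥(twGroup good2_E6 T3_E6 T4_E6 T19_E6 f) := rfl
  rw [← hG', ← hI] at hG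
  have hpos : 0 < q ^ 36 := Nat.pos_of_ne_zero (pow_ne_zero _ (by omega))
  have hcanc : Nat.gcd 3 (q + 1) * (⨆ k ∈ Finset.range 24, e6m_twrS_U f k).index =
      (q ^ 2 - 1) * (q ^ 5 + 1) * (q ^ 6 - 1) * (q ^ 8 - 1) * (q ^ 9 + 1) * (q ^ 12 - 1) := by
    apply Nat.eq_of_mul_eq_mul_left hpos
    have h5 : ∀ a b c d e g h : ℕ, a * b * c * d * e * g * h = a * (b * c * d * e * g * h) := fun a b c d e g h => by
      ring
    rw [← h5, ← hG]
    ring
  have hd : p ∣ (q ^ 2 - 1) * (q ^ 5 + 1) * (q ^ 6 - 1) * (q ^ 8 - 1) * (q ^ 9 + 1) * (q ^ 12 - 1) := by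
    rw [← hcanc]
    exact Dvd.dvd.mul_left hdvd _
  rcases (Nat.Prime.dvd_mul hp).mp hd with hd | hd
  · rcases (Nat.Prime.dvd_mul hp).mp hd with hd | hd
    · rcases (Nat.Prime.dvd_mul hp).mp hd with hd | hd
      · rcases (Nat.Prime.dvd_mul hp).mp hd with hd | hd
        · rcases (Nat.Prime.dvd_mul hp).mp hd with hd | hd
          · exact e6m_concRoots_cop_pred hp hpq hq1 2 (by norm_num) hd
          · exact e6m_concRoots_cop_succ hp hpq 5 (by norm_num) hd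
        · exact e6m_concRoots_cop_pred hp hpq hq1 6 (by norm_num) hd
      · exact e6m_concRoots_cop_pred hp hpq hq1 8 (by norm_num) hd
    · exact e6m_concRoots_cop_succ hp hpq 9 (by norm_num) hd
  · exact e6m_concRoots_cop_pred hp hpq hq1 12 (by norm_num) hd

/-- **Part I data for `²E₆(q)`, `q ≠ 2`.** -/
theorem e6m_conc_roots {f : K ≃+* K} {p : ℕ} [hp : Fact p.Prime] (hpK : (p : K) = 0) (hq : IsPrimePow q)
    (hK : Fintype.card K = q ^ 2) (hq2 : q ≠ 2) (hf : ∀ t, f t = t ^ q)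
    (hf2 : ∀ t, (((f : K →+* K)) ^ 2) t = t) : Nonempty (AbRoots ↥(e6G f) p 24) := by
  have hpq : p ∣ q := e6m_concRoots_dvd hp.out hpK hK
  have hq3 : 3 ≤ q := by
    have := hq.two_le
    omega
  exact ⟨{
    H := e6m_twrN_H f
    U := e6m_twrS_U f
    hn := by norm_num
    H_comm := e6m_twrN_H_comm f hf2
    H_cop := e6m_twrN_H_cop hq hK hf hf2 hp.out hpq
    norm := e6m_twrNE_norm f hf2
    nc := e6m_twrNE_nc f hq3 hK hf
    comm := e6m_twrS_comm f
    card := e6m_twrS_card f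
    idx := e6m_concRoots_idx hp.out hpq hq hK hf hf2
    ab := e6m_twrA_ab_S hq hq2 hK hf hf2 }⟩

end Cfsg.Agent.E6M
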