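import Mathlib

set_option autoImplicit false

/-!
Two commuting rank one pairs of root elements in an abstract group, twisted by a field automorphism: the
elements `h_a(t) h_b(f t)` lie in the derived subgroup of any subgroup containing the twisted root elements
`x_a(t) x_b(f t)` and `y_a(t) y_b(f t)`.
-/

namespace Cfsg.Agent.E6M

variable {G : Type*} [Group G] {K : Type*} [Field K]

/-- Two rank one pairs `(xa, ya)`, `(xb, yb)` of one parameter families commuting with each other, with their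
elements `ha t`, `hb t` acting on them by squares. -/
structure e6m_exist_Pair (xa ya xb yb ha hb : K → G) : Prop where
  xa_add : ∀ t u, xa t * xa u = xa (t + u)
  ya_add : ∀ t u, ya t * ya u = ya (t + u)
  xb_add : ∀ t u, xb t * xb u = xb (t + u)
  yb_add : ∀ t u, yb t * yb u = yb (t + u)
  c1 : ∀ t u, Commute (xa t) (xb u)
  c2 : ∀ t u, Commute (xa t) (yb u)
  c3 : ∀ t u, Commute (ya t) (xb u)
  c4 : ∀ t u, Commute (ya t) (yb u)
  ha_def : ∀ t, ha t = (xa t * ya (-t⁻¹) * xa t) * (xa (-1) * ya (-(-1 : K)⁻¹) * xa (-1))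
  hb_def : ∀ t, hb t = (xb t * yb (-t⁻¹) * xb t) * (xb (-1) * yb (-(-1 : K)⁻¹) * xb (-1))
  ha_x : ∀ t, t ≠ 0 → ∀ u, ha t * xa u * (ha t)⁻¹ = xa (t ^ 2 * u)
  ha_y : ∀ t, t ≠ 0 → ∀ u, ha t * ya u * (ha t)⁻¹ = ya ((t ^ 2)⁻¹ * u)
  hb_x : ∀ t, t ≠ 0 → ∀ u, hb t * xb u * (hb t)⁻¹ = xb (t ^ 2 * u)
  hb_y : ∀ t, t ≠ 0 → ∀ u, hb t * yb u * (hb t)⁻¹ = yb ((t ^ 2)⁻¹ * u)

namespace e6m_exist_Pair

variable {xa ya xb yb ha hb : K → G} (P : e6m_exist_Pair xa ya xb yb ha hb) (f : K ≃+* K)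

include P

theorem xa_zero : xa 0 = 1 := by
  have := P.xa_add 0 0
  rw [add_zero] at this
  exact mul_eq_left.mp this

theorem ya_zero : ya 0 = 1 := by
  have := P.ya_add 0 0
  rw [add_zero] at this
  exact mul_eq_left.mp this

theorem xb_zero : xb 0 = 1 := by
  have := P.xb_add 0 0
  rw [add_zero] at this
  exact mul_eq_left.mp this

theorem yb_zero : yb 0 = 1 := by
  have := P.yb_add 0 0
  rw [add_zero] at this
  exact mul_eq_left.mp this

theorem X_add (t u : K) :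
    xa t * xb (f t) * (xa u * xb (f u)) = xa (t + u) * xb (f (t + u)) := by
  rw [Commute.mul_mul_mul_comm (P.c1 u (f t)).symm, P.xa_add, P.xb_add, map_add]

theorem Y_add (t u : K) :
    ya t * yb (f t) * (ya u * yb (f u)) = ya (t + u) * yb (f (t + u)) := by
  rw [Commute.mul_mul_mul_comm (P.c4 u (f t)).symm, P.ya_add, P.yb_add, map_add]

theorem X_inv (u : K) : (xa u * xb (f u))⁻¹ = xa (-u) * xb (f (-u)) := by
  rw [inv_eq_iff_mul_eq_one, P.X_add f, add_neg_cancel, map_zero, P.xa_zero, P.xb_zero, mul_one]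

theorem Y_inv (u : K) : (ya u * yb (f u))⁻¹ = ya (-u) * yb (f (-u)) := by
  rw [inv_eq_iff_mul_eq_one, P.Y_add f, add_neg_cancel, map_zero, P.ya_zero, P.yb_zero, mul_one]

theorem hb_comm_xa (w u : K) : Commute (hb w) (xa u) := by
  rw [P.hb_def]
  have h1 : ∀ v, Commute (xb v) (xa u) := fun v => (P.c1 u v).symm
  have h2 : ∀ v, Commute (yb v) (xa u) := fun v => (P.c2 u v).symm
  exact (((h1 _).mul_left (h2 _)).mul_left (h1 _)).mul_left (((h1 _).mul_left (h2 _)).mul_left (h1 _))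

theorem hb_comm_ya (w u : K) : Commute (hb w) (ya u) := by
  rw [P.hb_def]
  have h1 : ∀ v, Commute (xb v) (ya u) := fun v => (P.c3 u v).symm
  have h2 : ∀ v, Commute (yb v) (ya u) := fun v => (P.c4 u v).symm
  exact (((h1 _).mul_left (h2 _)).mul_left (h1 _)).mul_left (((h1 _).mul_left (h2 _)).mul_left (h1 _))

theorem ha_comm_xb (w u : K) : Commute (ha w) (xb u) := by
  rw [P.ha_def]
  have h1 : ∀ v, Commute (xa v) (xb u) := fun v => P.c1 v u
  have h2 : ∀ v, Commute (ya v) (xb u) := fun v => P.c3 v u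
  exact (((h1 _).mul_left (h2 _)).mul_left (h1 _)).mul_left (((h1 _).mul_left (h2 _)).mul_left (h1 _))

theorem ha_comm_yb (w u : K) : Commute (ha w) (yb u) := by
  rw [P.ha_def]
  have h1 : ∀ v, Commute (xa v) (yb u) := fun v => P.c2 v u
  have h2 : ∀ v, Commute (ya v) (yb u) := fun v => P.c4 v u
  exact (((h1 _).mul_left (h2 _)).mul_left (h1 _)).mul_left (((h1 _).mul_left (h2 _)).mul_left (h1 _))

/-- `h(t) X(u) h(t)⁻¹ = X(t² u)`. -/
theorem H_conj_X {t : K} (ht : t ≠ 0) (u : K) :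
    ha t * hb (f t) * (xa u * xb (f u)) * (ha t * hb (f t))⁻¹ =
      xa (t ^ 2 * u) * xb (f (t ^ 2 * u)) := by
  have hft : f t ≠ 0 := (map_ne_zero f).mpr ht
  have e : ha t * hb (f t) * (xa u * xb (f u)) * (ha t * hb (f t))⁻¹ =
      (ha t * (hb (f t) * xa u * (hb (f t))⁻¹) * (ha t)⁻¹) *
        (ha t * (hb (f t) * xb (f u) * (hb (f t))⁻¹) * (ha t)⁻¹) := by group
  rw [e, P.hb_x _ hft, (P.hb_comm_xa (f t) u).eq, mul_inv_cancel_right, P.ha_x _ ht,
    (P.ha_comm_xb t _).eq, mul_inv_cancel_right, map_mul, map_pow]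

/-- `h(t) Y(u) h(t)⁻¹ = Y(t⁻² u)`. -/
theorem H_conj_Y {t : K} (ht : t ≠ 0) (u : K) :
    ha t * hb (f t) * (ya u * yb (f u)) * (ha t * hb (f t))⁻¹ =
      ya ((t ^ 2)⁻¹ * u) * yb (f ((t ^ 2)⁻¹ * u)) := by
  have hft : f t ≠ 0 := (map_ne_zero f).mpr ht
  have e : ha t * hb (f t) * (ya u * yb (f u)) * (ha t * hb (f t))⁻¹ =
      (ha t * (hb (f t) * ya u * (hb (f t))⁻¹) * (ha t)⁻¹) *
        (ha t * (hb (f t) * yb (f u) * (hb (f t))⁻¹) * (ha t)⁻¹) := by group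
  rw [e, P.hb_y _ hft, (P.hb_comm_ya (f t) u).eq, mul_inv_cancel_right, P.ha_y _ ht,
    (P.ha_comm_yb t _).eq, mul_inv_cancel_right, map_mul, map_inv₀, map_pow]

/-- The elements `h_a(t) h_b(f t)` lie in every subgroup containing the twisted root elements. -/
theorem H_mem (M : Subgroup G) (hX : ∀ t, xa t * xb (f t) ∈ M) (hY : ∀ t, ya t * yb (f t) ∈ M)
    (t : K) : ha t * hb (f t) ∈ M := by
  have hW : ∀ s : K,
      (xa s * ya (-s⁻¹) * xa s) * (xb (f s) * yb (-(f s)⁻¹) * xb (f s)) ∈ M := by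
    intro s
    have e : (xa s * xb (f s)) * (ya (-s⁻¹) * yb (f (-s⁻¹))) * (xa s * xb (f s)) =
        (xa s * ya (-s⁻¹) * xa s) * (xb (f s) * yb (-(f s)⁻¹) * xb (f s)) := by
      rw [Commute.mul_mul_mul_comm (P.c3 (-s⁻¹) (f s)).symm,
        Commute.mul_mul_mul_comm (((P.c1 s (f s)).symm).mul_left ((P.c2 s _).symm)),
        map_neg, map_inv₀]
    rw [← e]
    exact mul_mem (mul_mem (hX s) (hY _)) (hX s)
  have cA : ∀ (p p' : K) (g : G), (∀ w, Commute (xa w) g) → (∀ w, Commute (ya w) g) →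
      Commute (xa p * ya p' * xa p) g := fun p p' g h1 h2 => ((h1 _).mul_left (h2 _)).mul_left (h1 _)
  have cB : ∀ (p p' r r' : K), Commute (xa p * ya p' * xa p) (xb r * yb r' * xb r) := by
    intro p p' r r'
    apply cA
    · intro w
      exact ((P.c1 w r).mul_right (P.c2 w r')).mul_right (P.c1 w r)
    · intro w
      exact ((P.c3 w r).mul_right (P.c4 w r')).mul_right (P.c3 w r)
  have h1 := hW t
  have h2 := hW (-1)
  rw [map_neg, map_one] at h2
  rw [P.ha_def, P.hb_def, Commute.mul_mul_mul_comm (cB _ _ _ _)]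
  exact mul_mem h1 h2

/-- The elements `h_a(t) h_b(f t)` lie in the derived subgroup of every subgroup containing the twisted root
elements, if the field has an element `s ≠ 0` with `s² ≠ 1`. -/
theorem core (Γs : Subgroup G) (hX : ∀ t, xa t * xb (f t) ∈ Γs) (hY : ∀ t, ya t * yb (f t) ∈ Γs)
    {s : K} (hs0 : s ≠ 0) (hs1 : s ^ 2 ≠ 1) (t : K) : ha t * hb (f t) ∈ ⁅Γs, Γs⁆ := by
  have hH : ha s * hb (f s) ∈ Γs := P.H_mem f Γs hX hY s
  have hXN : ∀ v, xa v * xb (f v) ∈ ⁅Γs, Γs⁆ := by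
    intro v
    have hd : s ^ 2 - 1 ≠ 0 := sub_ne_zero.mpr hs1
    obtain ⟨u, rfl⟩ : ∃ u, v = (s ^ 2 - 1) * u := ⟨v / (s ^ 2 - 1), by field_simp⟩
    have hc := Subgroup.commutator_mem_commutator hH (hX u)
    rw [commutatorElement_def, P.H_conj_X f hs0 u, P.X_inv f, P.X_add f] at hc
    have e2 : s ^ 2 * u + -u = (s ^ 2 - 1) * u := by ring
    rw [e2] at hc
    exact hc
  have hYN : ∀ v, ya v * yb (f v) ∈ ⁅Γs, Γs⁆ := by
    intro v
    have hd : (s ^ 2)⁻¹ - 1 ≠ 0 := by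
      apply sub_ne_zero.mpr
      intro h
      exact hs1 (inv_eq_one.mp h)
    obtain ⟨u, rfl⟩ : ∃ u, v = ((s ^ 2)⁻¹ - 1) * u := ⟨v / ((s ^ 2)⁻¹ - 1), by field_simp⟩
    have hc := Subgroup.commutator_mem_commutator hH (hY u)
    rw [commutatorElement_def, P.H_conj_Y f hs0 u, P.Y_inv f, P.Y_add f] at hc
    have e2 : (s ^ 2)⁻¹ * u + -u = ((s ^ 2)⁻¹ - 1) * u := by ring
    rw [e2] at hc
    exact hc
  exact P.H_mem f ⁅Γs, Γs⁆ hXN hYN t

end e6m_exist_Pair

end Cfsg.Agent.E6M
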