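import Mathlib
import Cfsg.Agent.E6M.ExistCore
import Cfsg.Agent.S1079
import Cfsg.Agent.Helper7.StZ
import Cfsg.Agent.Helper7.StEmbE
import Cfsg.Agent.Helper7.StEmbE6
import Cfsg.Agent.Helper7.ChevT17
import Cfsg.Agent.Helper7.StCertAll
import Cfsg.Agent.Helper7.ChevTwHE6
import Cfsg.Agent.Helper7.ChevMono
import Cfsg.Agent.Helper7.StP
import Cfsg.Prelude.Def_KGroupFacts

set_option autoImplicit false
set_option linter.unusedSectionVars false
set_option linter.unusedVariables false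

/-!
Existence of a finite stem extension of `²E₆(q)` with kernel cyclic of order `3`, for `3 ∣ q + 1`: the full
preimage of `²E₆(q)` in the group given by Steinberg's presentation of type `E₆` over the field with `q²`
elements.
-/

namespace Cfsg.Agent.E6M

open Cfsg Cfsg.Lie Matrix Cfsg.Agent.Helper7 Cfsg.Agent.Helper7.Chev Cfsg.Agent.Helper7.St

universe u

theorem e6m_exist_h7 : chevE6 ∈ [chevG2, chevB2, chevD4, chevF4, chevE6, chevE7, chevE8] := by simp

set_option maxRecDepth 1000000 in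
theorem e6m_exist_ortho05 : Ortho chevE6 (chevE6.simple 0) (chevE6.simple 5) := by decide +kernel

set_option maxRecDepth 1000000 in
theorem e6m_exist_ortho24 : Ortho chevE6 (chevE6.simple 2) (chevE6.simple 4) := by decide +kernel

theorem e6m_exist_simple0 : chevE6.simple 0 = e6p1 := by decide
theorem e6m_exist_simple2 : chevE6.simple 2 = e6p3 := by decide
theorem e6m_exist_simple4 : chevE6.simple 4 = e6p5 := by decide
theorem e6m_exist_simple5 : chevE6.simple 5 = e6p6 := by decide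

section pair

variable {K : Type*} [Field K]

/-- The two rank one pairs of two orthogonal fundamental roots in the presented group. -/
theorem e6m_exist_pair {i j : ℕ} (hi : i < chevE6.rank) (hj : j < chevE6.rank)
    (ho : Ortho chevE6 (chevE6.simple i) (chevE6.simple j)) :
    e6m_exist_Pair (K := K)
      (fun t => (stS e6m_exist_h7 K).xb (chevE6.simple i) t)
      (fun t => (stS e6m_exist_h7 K).xb (chevE6.neg (chevE6.simple i)) t)
      (fun t => (stS e6m_exist_h7 K).xb (chevE6.simple j) t)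
      (fun t => (stS e6m_exist_h7 K).xb (chevE6.neg (chevE6.simple j)) t)
      (fun t => (stS e6m_exist_h7 K).hb i t) (fun t => (stS e6m_exist_h7 K).hb j t) := by
  have h7 := e6m_exist_h7
  have hG3 := good3_of_mem chevE6 h7
  have hG := hG3.toGood2
  have hG1 := hG.toGood1
  obtain ⟨wit, h27⟩ := T37_of_mem chevE6 h7
  have ha := hG1.simple_lt hi
  have hb := hG1.simple_lt hj
  have hna := hG1.neg_lt ha
  have hnb := hG1.neg_lt hb
  obtain ⟨S, hS⟩ : ∃ S : StD chevE6 K (chevE6.SteinbergGroup K), S = stS e6m_exist_h7 K := ⟨_, rfl⟩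
  rw [← hS]
  have comm0 : ∀ {r s : ℕ}, r < chevE6.nroots → s < chevE6.nroots → s ≠ r → s ≠ chevE6.neg r →
      (tabOf chevE6).commTerms r s = [] → ∀ t u : K, Commute (S.xb r t) (S.xb s u) := by
    intro r s hr hs hsr hsn hterms t u
    have hc := S.comm r s hr hs hsr hsn t u
    unfold ChevalleyDatum.commWord at hc
    rw [← commTerms_eq, hterms, List.map_nil, List.map_nil, List.prod_nil, mul_one] at hc
    exact hc.symm
  exact
    { xa_add := fun t u => S.add _ ha t u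
      ya_add := fun t u => S.add _ hna t u
      xb_add := fun t u => S.add _ hb t u
      yb_add := fun t u => S.add _ hnb t u
      c1 := fun t u => comm0 ha hb ho.ne1.symm ho.ne3 ho.t1 t u
      c2 := fun t u => comm0 ha hnb ho.ne2.symm ho.ne4.symm ho.t2 t u
      c3 := fun t u => comm0 hna hb ho.ne3 (by rw [hG1.neg_neg ha]; exact ho.ne1.symm) ho.t3 t u
      c4 := fun t u => comm0 hna hnb ho.ne4.symm (by rw [hG1.neg_neg ha]; exact ho.ne2.symm)
        ho.t4 t u
      ha_def := fun t => rfl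
      hb_def := fun t => rfl
      ha_x := fun t ht u => S.hb_conj_x hG (T0_of_mem _ h7) (T5_of_mem _ h7) (T5m_of_mem _ h7)
        (T6_of_mem _ h7) (T7_of_mem _ h7) (T7m_of_mem _ h7) (T8_of_mem _ h7) h27 hi ht u
      ha_y := fun t ht u => S.hb_conj_y hG (T0_of_mem _ h7) (T5_of_mem _ h7) (T5m_of_mem _ h7)
        (T6_of_mem _ h7) (T7_of_mem _ h7) (T7m_of_mem _ h7) (T8_of_mem _ h7) h27 hi ht u
      hb_x := fun t ht u => S.hb_conj_x hG (T0_of_mem _ h7) (T5_of_mem _ h7) (T5m_of_mem _ h7)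
        (T6_of_mem _ h7) (T7_of_mem _ h7) (T7m_of_mem _ h7) (T8_of_mem _ h7) h27 hj ht u
      hb_y := fun t ht u => S.hb_conj_y hG (T0_of_mem _ h7) (T5_of_mem _ h7) (T5m_of_mem _ h7)
        (T6_of_mem _ h7) (T7_of_mem _ h7) (T7m_of_mem _ h7) (T8_of_mem _ h7) h27 hj ht u }

/-- The product of two root elements of the presented group whose word is one of the generating words
lies in the preimage of the twisted group. -/
theorem e6m_exist_word_mem (q : ℕ) {a b : ℕ} (ha : a < chevE6.nroots) (hb : b < chevE6.nroots) (t : K)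
    (hw : [(a, t), (b, t ^ q)] ∈ e6Words K q) :
    (stS e6m_exist_h7 K).xb a t * (stS e6m_exist_h7 K).xb b (t ^ q) ∈
      (twistedE6 K q).comap (stS e6m_exist_h7 K).π := by
  rw [Subgroup.mem_comap]
  change _ ∈ Subgroup.closure _
  apply Subgroup.subset_closure
  refine ⟨_, hw, ?_⟩
  rw [map_mul, Units.val_mul, (stS e6m_exist_h7 K).hπ a ha, (stS e6m_exist_h7 K).hπ b hb]
  unfold ChevalleyDatum.wordMat
  rw [List.map_cons, List.map_cons, List.map_nil, List.prod_cons, List.prod_cons, List.prod_nil,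
    mul_one]

/-- The twisted group lies in the Chevalley group. -/
theorem e6m_exist_le_group (q : ℕ) : twistedE6 K q ≤ chevE6.group K := by
  have hG1 := (good3_of_mem chevE6 e6m_exist_h7).toGood1
  change Subgroup.closure _ ≤ _
  rw [Subgroup.closure_le]
  rintro g ⟨w, _, hg⟩
  exact wordMat_mem_group hG1 w hg

end pair

section main

variable {K : Type*} [Field K]

theorem e6m_exist_hpr_eq {Γ : Type*} [Group Γ] (S : StD chevE6 K Γ) (c : ℕ → K) :
    S.hpr c = S.hb 0 (c 0) * (S.hb 1 (c 1) * (S.hb 2 (c 2) * (S.hb 3 (c 3) *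
      (S.hb 4 (c 4) * (S.hb 5 (c 5) * 1))))) := rfl

theorem e6m_exist_zeta [Fintype K] {q : ℕ} (hK : Fintype.card K = q ^ 2) (h3 : 3 ∣ q + 1) :
    ∃ ζ : Kˣ, ζ ^ 3 = 1 ∧ ζ ≠ 1 := by
  have : Fact (Nat.Prime 3) := ⟨Nat.prime_three⟩
  have hd : 3 ∣ Nat.card Kˣ := by
    rw [Nat.card_units, Nat.card_eq_fintype_card, hK]
    have := Nat.sq_sub_sq q 1
    rw [one_pow] at this
    rw [this]
    exact Dvd.dvd.mul_right h3 _
  obtain ⟨ζ, hζ⟩ := exists_prime_orderOf_dvd_card' (G := Kˣ) 3 hd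
  refine ⟨ζ, ?_, ?_⟩
  · rw [← hζ]; exact pow_orderOf_eq_one ζ
  · rintro rfl
    rw [orderOf_one] at hζ
    omega

theorem e6m_exist_pow_q {z : K} (hz : z ^ 3 = 1) {q : ℕ} (h3 : 3 ∣ q + 1) : z ^ q = z ^ 2 := by
  obtain ⟨k, hk⟩ := h3
  have : q = 3 * (k - 1) + 2 := by omega
  rw [this, pow_add, pow_mul, hz, one_pow, one_mul]

end main

/-- **Existence**: for `3 ∣ q + 1` the group `²E₆(q)` has a finite stem extension with kernel cyclic of
order `3`. -/
theorem e6m_exist {K : Type u} [Field K] [Fintype K] {q : ℕ} (hq : IsPrimePow q)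
    (hK : Fintype.card K = q ^ 2) (h3 : 3 ∣ q + 1) :
    ∃ (Γ : Type u) (_ : Group Γ) (_ : Finite Γ) (σ : Γ →* ↥(Cfsg.Lie.twistedE6 K q)),
      Cfsg.IsStemExtension σ ∧ Nonempty (σ.ker ≃* Multiplicative (ZMod 3)) := by
  classical
  have h7 := e6m_exist_h7
  have h8 : chevE8 ∈ [chevG2, chevB2, chevD4, chevF4, chevE6, chevE7, chevE8] := by simp
  have hG := good3_of_mem chevE6 h7
  have hG2 := hG.toGood2
  have hG1 := hG2.toGood1
  have : Fact (Nat.Prime 3) := ⟨Nat.prime_three⟩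
  obtain ⟨f, hf, -⟩ := exists_frobEquiv hq hK
  obtain ⟨ζ, hζ3, hζ1⟩ := e6m_exist_zeta hK h3
  -- the presented group and its homomorphism onto the Chevalley group
  have hkill : ∀ g ∈ chevE6.steinbergRels K, liftX hG.toGood1 g = 1 :=
    fun g hg => liftX_rels hG hg
  have hAB : chevE6.steinbergRelsAB K ⊆ chevE6.steinbergRels K := fun g hg => Or.inl hg
  obtain ⟨θ, hθ⟩ : ∃ θ : chevE6.SteinbergGroup K →* ↥(chevE6.group K),
      θ = toChev hG (chevE6.steinbergRels K) hkill := ⟨_, rfl⟩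
  have hθs : Function.Surjective θ := by rw [hθ]; exact toChev_surjective hG _ hkill
  have hθc : θ.ker ≤ Subgroup.center (chevE6.SteinbergGroup K) := by
    intro x hx
    rw [MonoidHom.mem_ker, hθ] at hx
    exact (toChev_ker_mem h7 (chevE6.steinbergRels K) hAB hkill hx).2
  have hker : θ.ker = Subgroup.center (chevE6.SteinbergGroup K) := by
    apply le_antisymm hθc
    intro z hz
    rw [MonoidHom.mem_ker]
    have hc : θ z ∈ Subgroup.center ↥(chevE6.group K) := by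
      rw [Subgroup.mem_center_iff] at hz ⊢
      intro g
      obtain ⟨y, rfl⟩ := hθs g
      rw [← map_mul, ← map_mul, hz y]
    rw [center_group_eq_bot h7, Subgroup.mem_bot] at hc
    exact hc
  have hcard : Nat.card ↥θ.ker = 3 := by
    rw [hker]
    have h79 : Nat.card (Subgroup.center (chevE6.SteinbergGroup K)) = Nat.gcd 3 (q ^ 2 - 1) :=
      Cfsg.Agent.S1079.result (K := K) hK (chevE6, 3) (by simp)
    have hd : 3 ∣ q ^ 2 - 1 := by
      have := Nat.sq_sub_sq q 1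
      rw [one_pow] at this
      rw [this]
      exact Dvd.dvd.mul_right h3 _
    rw [h79]
    exact Nat.gcd_eq_left hd
  have : Finite ↥θ.ker := Nat.finite_of_card_ne_zero (by rw [hcard]; norm_num)
  have : Finite (chevE6.SteinbergGroup K ⧸ θ.ker) :=
    Finite.of_equiv _ (QuotientGroup.quotientKerEquivOfSurjective θ hθs).symm.toEquiv
  have : Finite (chevE6.SteinbergGroup K) := Finite.of_subgroup_quotient θ.ker
  obtain ⟨S, hS⟩ : ∃ S : StD chevE6 K (chevE6.SteinbergGroup K), S = stS e6m_exist_h7 K :=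
    ⟨_, rfl⟩
  have hπθ : ∀ x, S.π x = ((θ x : ↥(chevE6.group K)) : GL chevE6.Idx K) := by
    intro x; rw [hS, hθ]; rfl
  -- the full preimage of the twisted group
  obtain ⟨Γs, hΓs⟩ : ∃ Γs : Subgroup (chevE6.SteinbergGroup K),
      Γs = (twistedE6 K q).comap S.π := ⟨_, rfl⟩
  have hmemΓ : ∀ x, x ∈ Γs ↔ S.π x ∈ twistedE6 K q := by
    intro x; rw [hΓs, Subgroup.mem_comap]
  have hkerΓ : θ.ker ≤ Γs := by
    intro x hx
    rw [hmemΓ, hπθ, MonoidHom.mem_ker.mp hx, Subgroup.coe_one]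
    exact one_mem _
  let σ : ↥Γs →* ↥(twistedE6 K q) :=
    (S.π.comp Γs.subtype).codRestrict (twistedE6 K q) (fun x => (hmemΓ x.1).mp x.2)
  have hσv : ∀ x : ↥Γs, ((σ x : ↥(twistedE6 K q)) : GL chevE6.Idx K) = S.π x.1 := fun x => rfl
  have hkσ : ∀ x : ↥Γs, x ∈ σ.ker ↔ (x : chevE6.SteinbergGroup K) ∈ θ.ker := by
    intro x
    rw [MonoidHom.mem_ker, MonoidHom.mem_ker, Subtype.ext_iff, Subtype.ext_iff, hσv, hπθ,
      Subgroup.coe_one, Subgroup.coe_one]
  have hσs : Function.Surjective σ := by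
    rintro ⟨h, hh⟩
    obtain ⟨x, hx⟩ := hθs ⟨h, e6m_exist_le_group q hh⟩
    have hxh : S.π x = h := by rw [hπθ, hx]
    refine ⟨⟨x, (hmemΓ x).mpr (by rw [hxh]; exact hh)⟩, ?_⟩
    apply Subtype.ext
    rw [hσv]
    exact hxh
  have hσc : σ.ker ≤ Subgroup.center ↥Γs := by
    intro x hx
    have hz := hθc ((hkσ x).mp hx)
    rw [Subgroup.mem_center_iff] at hz ⊢
    intro g
    apply Subtype.ext
    exact hz g.1
  have hcardσ : Nat.card ↥σ.ker = 3 := by
    rw [← hcard]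
    apply Nat.card_congr
    exact
      { toFun := fun x => ⟨x.1.1, (hkσ x.1).mp x.2⟩
        invFun := fun y => ⟨⟨y.1, hkerΓ y.2⟩, (hkσ _).mpr y.2⟩
        left_inv := fun x => Subtype.ext (Subtype.ext rfl)
        right_inv := fun y => Subtype.ext rfl }
  have hcyc : IsCyclic ↥σ.ker := isCyclic_of_prime_card hcardσ
  obtain ⟨e⟩ : Nonempty (Multiplicative (ZMod 3) ≃* ↥σ.ker) := by
    have e0 := zmodCyclicMulEquiv hcyc
    rw [hcardσ] at e0
    exact ⟨e0⟩
  -- the twisted root elements lie in the preimage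
  have P05 := e6m_exist_pair (K := K) (i := 0) (j := 5) (by decide) (by decide) e6m_exist_ortho05
  have P24 := e6m_exist_pair (K := K) (i := 2) (j := 4) (by decide) (by decide) e6m_exist_ortho24
  rw [← hS] at P05 P24
  have hX05 : ∀ t : K, S.xb (chevE6.simple 0) t * S.xb (chevE6.simple 5) (f t) ∈ Γs := by
    intro t
    rw [hΓs, hS, hf, e6m_exist_simple0, e6m_exist_simple5]
    exact e6m_exist_word_mem q (by decide) (by decide) t
      (Or.inr ⟨t, (e6p1, e6p6), by simp, rfl⟩)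
  have hY05 : ∀ t : K, S.xb (chevE6.neg (chevE6.simple 0)) t *
      S.xb (chevE6.neg (chevE6.simple 5)) (f t) ∈ Γs := by
    intro t
    rw [hΓs, hS, hf, e6m_exist_simple0, e6m_exist_simple5, neg_E6_p1, neg_E6_p6]
    exact e6m_exist_word_mem q (by decide) (by decide) t
      (Or.inr ⟨t, (e6m1, e6m6), by simp, rfl⟩)
  have hX24 : ∀ t : K, S.xb (chevE6.simple 2) t * S.xb (chevE6.simple 4) (f t) ∈ Γs := by
    intro t
    rw [hΓs, hS, hf, e6m_exist_simple2, e6m_exist_simple4]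
    exact e6m_exist_word_mem q (by decide) (by decide) t
      (Or.inr ⟨t, (e6p3, e6p5), by simp, rfl⟩)
  have hY24 : ∀ t : K, S.xb (chevE6.neg (chevE6.simple 2)) t *
      S.xb (chevE6.neg (chevE6.simple 4)) (f t) ∈ Γs := by
    intro t
    rw [hΓs, hS, hf, e6m_exist_simple2, e6m_exist_simple4, neg_E6_p3, neg_E6_p5]
    exact e6m_exist_word_mem q (by decide) (by decide) t
      (Or.inr ⟨t, (e6m3, e6m5), by simp, rfl⟩)
  -- the cube root of unity
  have hs0 : (ζ : K) ≠ 0 := Units.ne_zero ζ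
  have hz3 : (ζ : K) ^ 3 = 1 := by rw [← Units.val_pow_eq_pow_val, hζ3, Units.val_one]
  have hz1 : (ζ : K) ≠ 1 := fun h => hζ1 (Units.ext h)
  have hs1 : (ζ : K) ^ 2 ≠ 1 := by
    intro h
    apply hz1
    have h' : (ζ : K) ^ 3 = (ζ : K) ^ 2 * ζ := pow_succ _ 2
    rw [hz3, h, one_mul] at h'
    exact h'.symm
  have hfz : f (ζ : K) = (ζ : K) ^ 2 := by rw [hf]; exact e6m_exist_pow_q hz3 h3
  have hfz2 : f ((ζ : K) ^ 2) = (ζ : K) := by
    rw [map_pow, hfz, ← pow_mul]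
    have h' : (ζ : K) ^ (2 * 2) = (ζ : K) ^ 3 * ζ := pow_succ _ 3
    rw [h', hz3, one_mul]
  have hA : S.hb 0 (ζ : K) * S.hb 5 ((ζ : K) ^ 2) ∈ ⁅Γs, Γs⁆ := by
    have h := P05.core f Γs hX05 hY05 hs0 hs1 (ζ : K)
    beta_reduce at h
    rw [hfz] at h
    exact h
  have hB : S.hb 2 ((ζ : K) ^ 2) * S.hb 4 (ζ : K) ∈ ⁅Γs, Γs⁆ := by
    have h := P24.core f Γs hX24 hY24 hs0 hs1 ((ζ : K) ^ 2)
    beta_reduce at h
    rw [hfz2] at h
    exact h
  -- the central element
  obtain ⟨c, hc⟩ : ∃ c : ℕ → K, c = extc chevE6.rank (patE6 ζ) := ⟨_, rfl⟩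
  have hc0 : c 0 = ζ := by rw [hc]; exact extc_val (patE6 ζ) ⟨0, by decide⟩
  have hc1 : c 1 = 1 := by rw [hc]; exact extc_val (patE6 ζ) ⟨1, by decide⟩
  have hc2 : c 2 = (ζ : K) ^ 2 := by
    rw [hc]; exact (extc_val (patE6 ζ) ⟨2, by decide⟩).trans (Units.val_pow_eq_pow_val ζ 2)
  have hc3 : c 3 = 1 := by rw [hc]; exact extc_val (patE6 ζ) ⟨3, by decide⟩
  have hc4 : c 4 = ζ := by rw [hc]; exact extc_val (patE6 ζ) ⟨4, by decide⟩
  have hc5 : c 5 = (ζ : K) ^ 2 := by
    rw [hc]; exact (extc_val (patE6 ζ) ⟨5, by decide⟩).trans (Units.val_pow_eq_pow_val ζ 2)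
  have hcne : ∀ i, c i ≠ 0 := by rw [hc]; exact extc_ne_zero _
  obtain ⟨z₀, hz₀⟩ : ∃ z₀, z₀ = S.hpr c := ⟨_, rfl⟩
  have hz₀π : S.π z₀ = 1 := by
    apply Units.ext
    have e1 := stS_π_hpr e6m_exist_h7 c hcne
    rw [← hS, ← hz₀] at e1
    rw [e1, hc, ← tGL_coe, ← torusHom_apply, patE6_ker hζ3]
  have hz₀ne : z₀ ≠ 1 := by
    intro h1
    have hone : S.hpr (fun _ => (1 : K)) = 1 := by
      unfold StD.hpr
      apply List.prod_eq_one
      intro x hx
      rw [List.mem_map] at hx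
      obtain ⟨i, hi, rfl⟩ := hx
      exact S.hb_one hG2 (List.mem_range.mp hi)
    have heq : (stS e6m_exist_h7 K).hpr c = (stS e6m_exist_h7 K).hpr (fun _ => (1 : K)) := by
      rw [← hS, ← hz₀, h1, hone]
    have h0 := hpr_inj_of_emb e6m_exist_h7 h8 emb_E6 emb_simple_E6 (by decide) T17_E8 (by decide)
      hcne (fun _ => one_ne_zero) heq 0 (by decide)
    rw [hc0] at h0
    exact hz1 h0
  have hR3 := stS_R3 (K := K) e6m_exist_h7
  rw [← hS] at hR3
  obtain ⟨wit, h27⟩ := T37_of_mem chevE6 e6m_exist_h7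
  have hHc := S.Hb_comm hG2 (T0_of_mem _ h7) (T5_of_mem _ h7) (T5m_of_mem _ h7) (T6_of_mem _ h7)
    (T7_of_mem _ h7) (T7m_of_mem _ h7) (T8_of_mem _ h7) h27 hR3
  have hz₀N : z₀ ∈ ⁅Γs, Γs⁆ := by
    have hz2 : (ζ : K) ^ 2 ≠ 0 := pow_ne_zero 2 hs0
    have hcomm : S.hb 5 ((ζ : K) ^ 2) * (S.hb 2 ((ζ : K) ^ 2) * S.hb 4 (ζ : K)) =
        (S.hb 2 ((ζ : K) ^ 2) * S.hb 4 (ζ : K)) * S.hb 5 ((ζ : K) ^ 2) :=
      hHc _ (S.hb_mem_Hb (by decide) hz2) _
        (mul_mem (S.hb_mem_Hb (by decide) hz2) (S.hb_mem_Hb (by decide) hs0))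
    have e2 : z₀ = (S.hb 0 (ζ : K) * S.hb 5 ((ζ : K) ^ 2)) *
        (S.hb 2 ((ζ : K) ^ 2) * S.hb 4 (ζ : K)) := by
      rw [hz₀, e6m_exist_hpr_eq, hc0, hc1, hc2, hc3, hc4, hc5, S.hb_one hG2 (by decide : 1 < chevE6.rank),
        S.hb_one hG2 (by decide : 3 < chevE6.rank), one_mul, one_mul, mul_one,
        mul_assoc (S.hb 0 (ζ : K)), hcomm, mul_assoc (S.hb 2 ((ζ : K) ^ 2))]
    rw [e2]
    exact mul_mem hA hB
  -- the kernel lies in the derived subgroup
  have hσd : σ.ker ≤ commutator ↥Γs := by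
    have hz₀m : z₀ ∈ (commutator ↥Γs).map Γs.subtype := by
      rw [Subgroup.map_subtype_commutator]; exact hz₀N
    obtain ⟨g, hg, hgz⟩ := Subgroup.mem_map.mp hz₀m
    have hgz' : (g : chevE6.SteinbergGroup K) = z₀ := hgz
    have hgk : g ∈ σ.ker := by
      rw [hkσ, MonoidHom.mem_ker]
      apply Subtype.ext
      rw [← hπθ, hgz', hz₀π]
      rfl
    have hg1 : (⟨g, hgk⟩ : ↥σ.ker) ≠ 1 := by
      intro h
      apply hz₀ne
      have h' : g = 1 := congrArg Subtype.val h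
      rw [← hgz', h']
      rfl
    have htop := zpowers_eq_top_of_prime_card hcardσ hg1
    intro x hx
    have hxm : (⟨x, hx⟩ : ↥σ.ker) ∈ Subgroup.zpowers (⟨g, hgk⟩ : ↥σ.ker) := by
      rw [htop]; exact Subgroup.mem_top _
    obtain ⟨k, hk⟩ := Subgroup.mem_zpowers_iff.mp hxm
    have hxg : x = g ^ k := by
      have h' := congrArg Subtype.val hk
      rw [SubgroupClass.coe_zpow] at h'
      exact h'.symm
    rw [hxg]
    exact zpow_mem hg k
  exact ⟨↥Γs, inferInstance, inferInstance, σ, ⟨hσs, hσc, hσd⟩, ⟨e.symm⟩⟩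

end Cfsg.Agent.E6M
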