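import Mathlib
import Cfsg.Agent.E6M.PartIAb
import Cfsg.Agent.E6M.BnEnd
import Cfsg.Agent.F4M.Rk1Lift
import Cfsg.Agent.CtRecT.TLiftP
import Cfsg.Agent.CtRecT.TMain
import Cfsg.Agent.Helper5.StemPH

set_option autoImplicit false

/-!
# S2108, final abstract assembly (helper9)

`E6Full G p n d` = everything the concrete side delivers for `G = ²E₆(q)`: the data `AbRoots G p n` of Part I, the data `BnDat (Fin 4) G` of the
`BN`-lifting with its axioms for the Coxeter matrix `F₄`, for every fundamental index a rank-one system of type `SL₂` over a finite field of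
characteristic `p` (`Rk1Input`), and the defect `∏ |T_i| = d · |H|` of the torus.
`e6m_card_ker_dvd`: the kernel of every finite stem extension of `G` has order dividing `d`.
`e6m_final`: with a finite stem extension whose kernel is cyclic of order `d`, the Schur multiplier of `G` is cyclic of order `d`;
`e6m_final_one`: for `d = 1` no such extension is needed.
-/

namespace Cfsg.Agent.E6M

open Cfsg.Agent.CtRecT Cfsg.Agent.CtRecM Cfsg.Agent.F4M

universe u

/-- the rank-one datum `R` comes from a rank-one system of type `SL₂` over a finite field of characteristic `p` which is faithful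
(`hB`, `hW`: the Bruhat cells of `SL₂` do not meet the kernel). -/
def Rk1Input {G : Type u} [Group G] (p : ℕ) (R : R1 G) : Prop :=
  ∃ (F : Type u) (_ : Field F) (_ : Finite F) (S : Rk1 F G), ((p : F) = 0) ∧
    (∀ u t : F, t ≠ 0 → S.xp u * S.h t = 1 → u = 0 ∧ t = 1) ∧
    (∀ u t v : F, t ≠ 0 → S.xp u * S.h t * S.w 1 * S.xp v ≠ 1) ∧ R.X = rk1Xp S ∧ R.Y = rk1Xm S

/-- everything the concrete side delivers. -/
structure E6Full (G : Type u) [Group G] (p n d : ℕ) where
  /-- the data of Part I -/
  roots : AbRoots G p n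
  /-- the data of Part II -/
  D : BnDat (Fin 4) G
  ok : D.Ok CoxeterMatrix.F₄
  hU : IsPGroup p D.U
  rk1 : ∀ i, Rk1Input p (D.R i)
  defect : ∏ i, Nat.card (D.R i).T = d * Nat.card D.H

variable {G : Type u} [Group G] [Finite G] {p n d : ℕ} [Fact p.Prime]

/-- the order of the kernel of a finite stem extension divides the defect of the torus. -/
theorem e6m_card_ker_dvd (F : E6Full G p n d) (Γ : Type u) [Group Γ] [Finite Γ] (σ : Γ →* G)
    (hσ : Cfsg.IsStemExtension σ) : Nat.card σ.ker ∣ d := by
  have hodd : (Nat.card σ.ker).Coprime p := e6m_partI F.roots Γ σ hσ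
  obtain ⟨hs, hc, hk⟩ := hσ
  obtain ⟨L⟩ := exists_PLift σ hs hc p hodd
  have inj : ∀ i, ∀ e ∈ (F.D.R i).Lt L, σ e = 1 → e = 1 := by
    intro i
    obtain ⟨K, _, _, S, hp, hB, hW, hX, hY⟩ := F.rk1 i
    exact f4m_rk1_inj L hp S hB hW (F.D.R i) hX hY
  have h := e6m_card_ker_mul_dvd F.D CoxeterMatrix.F₄ L ⟨F.ok, F.hU, inj⟩ hs hc hk
  rw [F.defect] at h
  exact Nat.dvd_of_mul_dvd_mul_right Nat.card_pos h

/-- the Schur multiplier is cyclic of order `d`, given a finite stem extension with cyclic kernel of order `d`. -/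
theorem e6m_final (F : E6Full G p n d) (hd : d ≠ 0)
    (hex : ∃ (Γ : Type u) (_ : Group Γ) (_ : Finite Γ) (σ : Γ →* G),
      Cfsg.IsStemExtension σ ∧ Nonempty (σ.ker ≃* Multiplicative (ZMod d))) :
    Cfsg.HasCyclicSchurMultiplier G d := by
  haveI : NeZero d := ⟨hd⟩
  refine Cfsg.Agent.Helper5.StemP.hasSchurMultiplier_of_exists_of_card_le hex ?_
  intro Γ _ _ σ hσ
  have h := e6m_card_ker_dvd F Γ σ hσ
  have hc : Nat.card (Multiplicative (ZMod d)) = d := by
    rw [Nat.card_eq_fintype_card, Fintype.card_multiplicative, ZMod.card]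
  rw [hc]
  exact Nat.le_of_dvd (Nat.pos_of_ne_zero hd) h

/-- the Schur multiplier is trivial if the defect of the torus is `1`. -/
theorem e6m_final_one (F : E6Full G p n 1) : Cfsg.HasCyclicSchurMultiplier G 1 := by
  apply hasCyclicSchurMultiplier_one_of
  intro Γ _ _ σ hσ
  have h := e6m_card_ker_dvd F Γ σ hσ
  have h1 : Nat.card σ.ker = 1 := Nat.dvd_one.mp h
  exact (Subgroup.card_eq_one).mp h1

end Cfsg.Agent.E6M
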