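import Mathlib
import Cfsg.Agent.E6M.ConcOk
import Cfsg.Agent.E6M.ConcRoots
import Cfsg.Agent.E6M.Final
import Cfsg.Agent.E6M.Exist

set_option autoImplicit false
set_option linter.unusedSectionVars false
set_option linter.unusedVariables false

/-!
# S2108: the final assembly for the concrete `²E₆(q)`, `q ≠ 2`

`e6m_conc_E6Full`: the record `E6Full ↥(e6G f) p 24 (gcd 3 (q + 1))` from Part I (`e6m_conc_roots`), the axioms of Part II
(`e6m_concOk`), the rank-one inputs (`e6mR_input`) and the defect of the torus (`e6m_concH_defect`);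
`e6m_conc_main`: the Schur multiplier of `²E₆(q)` is cyclic of order `gcd 3 (q + 1)`.
-/

namespace Cfsg.Agent.E6M

open Cfsg Cfsg.Lie Cfsg.Agent.Helper7.Chev Cfsg.Agent.CtRecM Cfsg.Agent.CtRecT Cfsg.Agent.F4M

universe u

variable {K : Type u} [Field K] [Fintype K]

/-- a finite field of order a power of the prime `p` has characteristic `p`. -/
theorem e6m_conc_char {p n : ℕ} (hp : p.Prime) (h : Fintype.card K = p ^ n) : (p : K) = 0 := by
  obtain ⟨r, hr⟩ := CharP.exists K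
  haveI := hr
  obtain ⟨m, hrp, hm⟩ := FiniteField.card K r
  have h1 : r ∣ p ^ n := by
    rw [← h, hm]
    exact dvd_pow_self r m.ne_zero
  have h2 : r = p := (Nat.prime_dvd_prime_iff_eq hrp hp).mp (hrp.dvd_of_dvd_pow h1)
  subst h2
  exact CharP.cast_eq_zero K r

/-- everything the concrete side delivers, for `²E₆(q)`, `q ≠ 2`. -/
theorem e6m_conc_E6Full (f : K ≃+* K) {q p : ℕ} [Fact p.Prime] (hp : (p : K) = 0) (hq : IsPrimePow q)
    (hK : Fintype.card K = q ^ 2) (h2 : q ≠ 2) (hf : ∀ t, f t = t ^ q)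
    (hf2 : ∀ t, (((f : K →+* K)) ^ 2) t = t) : Nonempty (E6Full ↥(e6G f) p 24 (Nat.gcd 3 (q + 1))) := by
  obtain ⟨R⟩ := e6m_conc_roots (f := f) hp hq hK h2 hf hf2
  exact ⟨{ roots := R
           D := e6D f
           ok := e6m_concOk f hf2
           hU := e6m_okC_hU f hp
           rk1 := fun i => e6mR_input f hp i
           defect := e6m_concH_defect f hq hK hf hf2 }⟩

/-- **the Schur multiplier of `²E₆(q)`, `q ≠ 2`, is cyclic of order `gcd 3 (q + 1)`.** -/
theorem e6m_conc_main {q : ℕ} (hq : IsPrimePow q) (hK : Fintype.card K = q ^ 2) (h2 : q ≠ 2) :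
    Cfsg.HasCyclicSchurMultiplier ↥(Cfsg.Lie.twistedE6 K q) (Nat.gcd 3 (q + 1)) := by
  obtain ⟨f, hf, hf2, e⟩ := twistedE6_eq hq hK
  have hex := fun h3 : 3 ∣ q + 1 => e6m_exist hq hK h3
  obtain ⟨p, k, hp, hk, hpk⟩ := id hq
  have hpP : p.Prime := Nat.prime_iff.mpr hp
  haveI : Fact p.Prime := ⟨hpP⟩
  have hpK : (p : K) = 0 := by
    refine e6m_conc_char (n := k * 2) hpP ?_
    rw [hK, ← hpk, pow_mul]
  revert hex
  rw [e]
  intro hex
  obtain ⟨F⟩ := e6m_conc_E6Full f hpK hq hK h2 hf hf2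
  haveI : Finite ↥(e6G f) := inferInstance
  by_cases h3 : 3 ∣ q + 1
  · have hg : Nat.gcd 3 (q + 1) = 3 := Nat.gcd_eq_left h3
    rw [hg] at F ⊢
    exact e6m_final F (by norm_num) (hex h3)
  · have hg : Nat.gcd 3 (q + 1) = 1 := (Nat.Prime.coprime_iff_not_dvd Nat.prime_three).mpr h3
    rw [hg] at F ⊢
    exact e6m_final_one F

end Cfsg.Agent.E6M
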