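import Mathlib
import Cfsg.Agent.E6M.ConcDefs
import Cfsg.Agent.E6M.ConcOkG

set_option autoImplicit false
set_option linter.unusedSectionVars false
set_option linter.unusedVariables false

/-!
# S2108, package P8-A (helper6): the fields `dec`, `n_Uc`, `dich` of `BnDat.Ok (e6D f) CoxeterMatrix.F₄`, and `H ≤ H¹`, `N ≤ N¹`

Statements verbatim from `notes/S2108_stubfiles/ConcOkA.lean.txt` (helper9).  The `GL`-level facts are in `E6M/ConcOkG.lean`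
(from helper7's `twB_decomp_cls`, `ncls_conj_mem_twU`, `tadi_dich_gen`).  The fields `H_U`, `H_X`, `H_Y`, `T_comm`, `n_T` are helper2's
(`E6M/ConcOkB.lean`), the fields `X_le`, `Uc_le`, `U_inf_H`, `B_inf_N` and `hU` helper5's (`E6M/ConcOkC.lean`).
-/

namespace Cfsg.Agent.E6M

open Cfsg Cfsg.Lie Cfsg.Agent.Helper7.Chev Cfsg.Agent.CtRecM Cfsg.Agent.CtRecT Cfsg.Agent.F4M

variable {K : Type*} [Field K] [Finite K] (f : K ≃+* K)

/-- `H = ⨆ T_i` lies in `H¹`. -/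
theorem e6m_okA_H_le : (e6D f).H ≤ (e6H f).subgroupOf (e6G f) := by
  unfold BnDat.H
  apply iSup_le
  intro i g hg
  obtain ⟨a, ha, hadm, e⟩ := (mem_e6D_T f i g).mp hg
  rw [Subgroup.mem_subgroupOf, mem_twH]
  refine ⟨?_, g.2⟩
  rw [e]
  exact clsHom_diag_mem good2_E6 T3_E6 T4_E6 T19_E6 f (e6mCls_mem i) ha

/-- `N = ⟨H, n_i⟩` lies in `N¹`. -/
theorem e6m_okA_N_le : (e6D f).N ≤ (e6N f).subgroupOf (e6G f) := by
  unfold BnDat.N
  rw [Subgroup.closure_le]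
  rintro g (hg | ⟨i, rfl⟩)
  · have h1 := e6m_okA_H_le f hg
    rw [Subgroup.mem_subgroupOf] at h1
    exact Subgroup.mem_subgroupOf.mpr (twH_le_twN good2_E6 T3_E6 T4_E6 T19_E6 f h1)
  · change ((e6D f).R i).n ∈ (e6N f).subgroupOf (e6G f)
    rw [Subgroup.mem_subgroupOf, mem_twN]
    refine ⟨?_, (((e6D f).R i).n).2⟩
    rw [e6D_n]
    exact ncls_mem_monomial good2_E6 T3_E6 T4_E6 T19_E6 f (e6mCls_mem i)

/-- **`dec`**: `U = U_i X_i`. -/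
theorem e6m_okA_dec (i : Fin 4) : ∀ u ∈ (e6D f).U, ∃ v ∈ (e6D f).Uc i, ∃ x ∈ ((e6D f).R i).X, u = v * x := by
  intro u hu
  rw [e6D_U, Subgroup.mem_subgroupOf] at hu
  obtain ⟨v, hv, hvG, t, ht, e⟩ := e6m_okG_dec f (e6mCls_mem i) hu
  have hxG : e6Phi f i (upperSL t) ∈ e6G f :=
    upper_mem_twGroup good2_E6 T3_E6 T4_E6 T19_E6 f (e6mCls_mem i) ht
  refine ⟨⟨v, hvG⟩, ?_, ⟨e6Phi f i (upperSL t), hxG⟩, ?_, ?_⟩
  · rw [e6D_Uc, Subgroup.mem_subgroupOf]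
    exact ⟨hv, hvG⟩
  · exact (mem_e6D_X f i _).mpr ⟨t, ht, rfl⟩
  · apply Subtype.ext
    rw [Subgroup.coe_mul]
    exact e

/-- **`n_Uc`**: `n_i U_i n_i⁻¹ ≤ U`. -/
theorem e6m_okA_n_Uc (i : Fin 4) : ∀ v ∈ (e6D f).Uc i, ((e6D f).R i).n * v * ((e6D f).R i).n⁻¹ ∈ (e6D f).U := by
  intro v hv
  rw [e6D_Uc, Subgroup.mem_subgroupOf] at hv
  rw [e6D_U, Subgroup.mem_subgroupOf, Subgroup.coe_mul, Subgroup.coe_mul, Subgroup.coe_inv, e6D_n]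
  exact e6m_okG_n_conj f (e6mCls_mem i) hv.1 hv.2

/-- **`dich`**: the dichotomy for the elements of `N`. -/
theorem e6m_okA_dich (i : Fin 4) : ∀ n ∈ (e6D f).N, (∀ x ∈ ((e6D f).R i).X, n⁻¹ * x * n ∈ (e6D f).U) ∨
    (∀ x ∈ ((e6D f).R i).X, (((e6D f).R i).n⁻¹ * n)⁻¹ * x * (((e6D f).R i).n⁻¹ * n) ∈ (e6D f).U) := by
  intro n hn
  have hn' := e6m_okA_N_le f hn
  rw [Subgroup.mem_subgroupOf] at hn'
  rcases e6m_okG_dich f (e6mCls_mem i) hn' with h | h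
  · left
    intro x hx
    obtain ⟨t, ht, e⟩ := (mem_e6D_X f i x).mp hx
    rw [e6D_U, Subgroup.mem_subgroupOf]
    simp only [Subgroup.coe_mul, Subgroup.coe_inv, e]
    exact h t ht
  · right
    intro x hx
    obtain ⟨t, ht, e⟩ := (mem_e6D_X f i x).mp hx
    rw [e6D_U, Subgroup.mem_subgroupOf]
    simp only [Subgroup.coe_mul, Subgroup.coe_inv, e, e6D_n]
    exact h t ht

end Cfsg.Agent.E6M
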