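import Mathlib
import Cfsg.Agent.E6M.ConcRk1
import Cfsg.Agent.E6M.ConcDefs
import Cfsg.Agent.E6M.Final

set_option autoImplicit false
set_option linter.unusedSectionVars false
set_option linter.unusedVariables false

/-!
# S2108, package P7 for the `BnDat` of `E6M/ConcDefs.lean`: the field `rk1` of `E6Full`

`e6m_concRk1D_input f hp i : Rk1Input p ((e6D f).R i)`: since `(e6D f).R i = e6mR f i` (`E6M/ConcDefs.lean`), this is `e6mR_input` of
`E6M/ConcRk1.lean`.  Also `|T_i| = |F_i| - 1`.  Prefix `e6m_concRk1D_`.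
-/

namespace Cfsg.Agent.E6M

open Cfsg Cfsg.Lie Cfsg.Agent.Helper7.Chev Cfsg.Agent.CtRecM Cfsg.Agent.CtRecT Cfsg.Agent.F4M

universe u

variable {K : Type u} [Field K] [Finite K] (f : K ≃+* K)

/-- **the field `rk1` of `E6Full` for `e6D f`.** -/
theorem e6m_concRk1D_input {p : ℕ} (hp : (p : K) = 0) (i : Fin 4) : Rk1Input p ((e6D f).R i) :=
  e6mR_input f hp i

/-- the order of the rank-one torus `T_i` of `e6D f`. -/
theorem e6m_concRk1D_card_T (i : Fin 4) :
    Nat.card ((e6D f).R i).T = Nat.card ↥(admField f (e6mCls i).2) - 1 :=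
  e6mR_card_T f i

end Cfsg.Agent.E6M
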