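import Mathlib
import Cfsg.Agent.E6M.NcTab
import Cfsg.Agent.E6M.TwRoots
import Cfsg.Agent.Helper7.ChevTwE6
import Cfsg.Agent.Helper7.ChevTwHE6
import Cfsg.Agent.Helper7.ChevRootCent
import Cfsg.Agent.Helper7.ChevCardH

set_option autoImplicit false
set_option linter.unusedSectionVars false
set_option linter.unusedVariables false

/-!
# S2108, concrete side (lead): the roots of the 24 root groups of `²E₆(q)` and the action of the torus

Bridge between `E6M/NcTab.lean` (the arithmetic of the characters) and `E6M/TwRoots.lean` (the root groups along `w0clsE6`).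
* `e6m_ncr_tab`: the root `e6m_nc_root[k]` is the one which the part of `w0clsE6` after the position `k` maps to the first root of
  the class of the position `k` (the hypothesis `hrw` of `e6m_twr_torus`);
* `e6m_ncr_conj_xGL`: `torusHom c` acts on `x_r(u)` through `∏_l c_l ^ ⟨r, α_l^∨⟩`;
* `e6m_ncr_chi c k`, `e6m_ncr_torus`: the action of `torusHom c ∈ G¹` on the root group of the position `k`.
Prefix `e6m_ncr_`.
-/

namespace Cfsg.Agent.E6M

open Cfsg Cfsg.Lie Matrix Cfsg.Agent.Helper7.Chev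

set_option maxRecDepth 1000000 in
set_option maxHeartbeats 0 in
theorem e6m_ncr_fast : ∀ k < 24,
    fastE6.reflWord (e6m_twr_word (fun i => [5, 1, 4, 3, 2, 0].getD i 0) (w0clsE6.drop (k + 1)))
      (e6m_nc_root.getD k 0) =
      clsRoot chevE6 (fun i => [5, 1, 4, 3, 2, 0].getD i 0) (w0clsE6.getD k (0, 0)).1 0 := by decide +kernel

theorem e6m_ncr_length : w0clsE6.length = 24 := by decide

/-- the root of the position `k`: the hypothesis `hrw` of `e6m_twr_torus`. -/
theorem e6m_ncr_tab (k : ℕ) (hk : k < w0clsE6.length) :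
    (tabOf chevE6).reflWord (e6m_twr_word (fun i => [5, 1, 4, 3, 2, 0].getD i 0) (w0clsE6.drop (k + 1)))
      (e6m_nc_root.getD k 0) =
      clsRoot chevE6 (fun i => [5, 1, 4, 3, 2, 0].getD i 0) (w0clsE6[k]).1 0 := by
  have h := e6m_ncr_fast k (by rw [← e6m_ncr_length]; exact hk)
  rw [List.getD_eq_getElem _ _ hk] at h
  rw [tab_E6]
  exact h

theorem e6m_ncr_lt : ∀ k < 24, e6m_nc_root.getD k 0 < chevE6.nroots := by decide

theorem e6m_ncr_rank : chevE6.rank = 6 := by decide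

variable {K : Type*} [Field K]

/-- `torusHom c` acts on `x_r(u)` through the character `∏_l c_l ^ ⟨r, α_l^∨⟩`. -/
theorem e6m_ncr_conj_xGL {D : ChevalleyDatum} (hG : Good2 D) (c : Fin D.rank → Kˣ) {r : ℕ} (hr : r < D.nroots)
    (u : K) :
    torusHom D K c * xGL hG.toGood1 hr u * (torusHom D K c)⁻¹ =
      xGL hG.toGood1 hr (((List.range D.rank).map (fun i => extc D.rank c i ^ D.cartan i r)).prod * u) := by
  rw [mul_inv_eq_iff_eq_mul]
  apply Units.ext
  rw [Units.val_mul, Units.val_mul, xGL_coe, xGL_coe, torusHom_apply, tGL_coe]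
  exact tMat_mul_x hG (extc D.rank c) (fun i _ => extc_ne_zero c i) hr u

/-- the character of the root group of the position `k` on the torus element with parameters `c`. -/
noncomputable def e6m_ncr_chi (c : Fin chevE6.rank → Kˣ) (k : ℕ) : Kˣ :=
  ((List.range 6).map (fun l => (if h : l < chevE6.rank then c ⟨l, h⟩ else 1) ^ e6m_nc_cart k l)).prod

theorem e6m_ncr_chi_coe (c : Fin chevE6.rank → Kˣ) {k : ℕ} (hk : k < 24) :
    ((e6m_ncr_chi c k : Kˣ) : K) =
      ((List.range chevE6.rank).map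
        (fun i => extc chevE6.rank c i ^ chevE6.cartan i (e6m_nc_root.getD k 0))).prod := by
  unfold e6m_ncr_chi
  have hr : List.range chevE6.rank = List.range 6 := by rw [e6m_ncr_rank]
  rw [hr]
  rw [← Units.coeHom_apply, map_list_prod, List.map_map]
  apply congrArg
  apply List.map_congr_left
  intro l hl
  have hl6 : l < 6 := List.mem_range.mp hl
  have hlr : l < chevE6.rank := by rw [e6m_ncr_rank]; exact hl6
  rw [e6m_nc_cart_eq k hk l hl6]
  simp only [Function.comp_apply, Units.coeHom_apply, Units.val_zpow_eq_zpow_val]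
  congr 1
  unfold extc
  rw [dif_pos hlr, dif_pos hlr]

/-- **the action of the torus element with parameters `c` on the root group of the position `k`.** -/
theorem e6m_ncr_torus (f : K ≃+* K) {k : ℕ} (hk : k < w0clsE6.length) (c : Fin chevE6.rank → Kˣ)
    (hmem : torusHom chevE6 K c ∈ twGroup good2_E6 T3_E6 T4_E6 T19_E6 f) {t : K}
    (ht : Adm f (w0clsE6[k]).2 t) :
    Adm f (w0clsE6[k]).2 (((e6m_ncr_chi c k : Kˣ) : K) * t) ∧
      torusHom chevE6 K c * e6m_twr_x good2_E6 T3_E6 T4_E6 T19_E6 f w0clsE6 w0clsE6_mem k t *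
          (torusHom chevE6 K c)⁻¹ =
        e6m_twr_x good2_E6 T3_E6 T4_E6 T19_E6 f w0clsE6 w0clsE6_mem k (((e6m_ncr_chi c k : Kˣ) : K) * t) := by
  have hk24 : k < 24 := by rw [← e6m_ncr_length]; exact hk
  have hr : e6m_nc_root.getD k 0 < chevE6.nroots := e6m_ncr_lt k hk24
  have hD : torusHom chevE6 K c ∈ chevE6.diagonalSubgroup K := by
    rw [torusHom_apply]; exact tGL_mem good2_E6.toGood1 c
  refine e6m_twr_torus good2_E6 T0_E6 T3_E6 T4_E6 T5_E6 T7_E6 T8_E6 T18_E6 T19_E6 T20_E6 f w0clsE6_mem hk hD hmem hr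
    (e6m_ncr_tab k hk) ?_ ht
  intro u
  rw [e6m_ncr_chi_coe c hk24]
  exact e6m_ncr_conj_xGL good2_E6 c hr u

/-- membership of the torus elements with fixed parameters. -/
theorem e6m_ncr_mem (f : K ≃+* K) {c : Fin chevE6.rank → Kˣ} (hc : sigC T18_E6 f c = c) :
    torusHom chevE6 K c ∈ twGroup good2_E6 T3_E6 T4_E6 T19_E6 f :=
  torusHom_mem_twGroup good2_E6 T3_E6 T4_E6 T18_E6 T19_E6 f clsperm_E6 hc

/-- the parameter vector of `NcTab` as a tuple of units. -/
noncomputable def e6m_ncr_par (u : Kˣ) (q : ℕ) (v : ℕ → ℤ) : Fin chevE6.rank → Kˣ :=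
  fun l => e6m_nc_par u q v l.val

theorem e6m_ncr_chi_par (u : Kˣ) (q : ℕ) (v : ℕ → ℤ) (k : ℕ) :
    e6m_ncr_chi (e6m_ncr_par u q v) k =
      ((List.range 6).map (fun l => e6m_nc_par u q v l ^ e6m_nc_cart k l)).prod := by
  unfold e6m_ncr_chi
  apply congrArg
  apply List.map_congr_left
  intro l hl
  have hlr : l < chevE6.rank := by rw [e6m_ncr_rank]; exact List.mem_range.mp hl
  rw [dif_pos hlr]
  rfl

/-- the parameter vector of `NcTab` is fixed by the twisting automorphism. -/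
theorem e6m_ncr_par_fixed (f : K ≃+* K) {q : ℕ} (hf : ∀ t, f t = t ^ q) (u : Kˣ) (hu : u ^ (q ^ 2) = u)
    (v : ℕ → ℤ) : sigC T18_E6 f (e6m_ncr_par u q v) = e6m_ncr_par u q v := by
  obtain ⟨h0, h2, h5, h4, h1, h3⟩ := e6m_nc_par_frob u hu v
  funext ⟨i, hi⟩
  have hi6 : i < 6 := by rw [← e6m_ncr_rank]; exact hi
  apply Units.ext
  rw [sigC_apply, hf, ← Units.val_pow_eq_pow_val]
  apply congrArg
  unfold e6m_ncr_par
  interval_cases i
  · exact h5
  · exact h1
  · exact h4
  · exact h3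
  · exact h2
  · exact h0

/-- the torus element of the parameter vector of `NcTab` lies in the twisted group. -/
theorem e6m_ncr_par_mem (f : K ≃+* K) {q : ℕ} (hf : ∀ t, f t = t ^ q) (u : Kˣ) (hu : u ^ (q ^ 2) = u)
    (v : ℕ → ℤ) : torusHom chevE6 K (e6m_ncr_par u q v) ∈ twGroup good2_E6 T3_E6 T4_E6 T19_E6 f :=
  e6m_ncr_mem f (e6m_ncr_par_fixed f hf u hu v)

/-- **NC, concretely**: for `i ≠ j` a torus element of the twisted group which centralizes the root group of the position `j` and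
acts on the root group of the position `i` through a scalar `≠ 1`. -/
theorem e6m_ncr_nc (f : K ≃+* K) {q : ℕ} (hq : 3 ≤ q) (hf : ∀ t, f t = t ^ q) (u : Kˣ)
    (hu : orderOf u = q ^ 2 - 1) {i j : ℕ} (hi : i < w0clsE6.length) (hj : j < w0clsE6.length) (hij : i ≠ j) :
    ∃ h : GL chevE6.Idx K, h ∈ chevE6.diagonalSubgroup K ∧ h ∈ twGroup good2_E6 T3_E6 T4_E6 T19_E6 f ∧
      ∃ χ : K, χ ≠ 1 ∧
        (∀ t : K, Adm f (w0clsE6[i]).2 t →
          h * e6m_twr_x good2_E6 T3_E6 T4_E6 T19_E6 f w0clsE6 w0clsE6_mem i t * h⁻¹ =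
            e6m_twr_x good2_E6 T3_E6 T4_E6 T19_E6 f w0clsE6 w0clsE6_mem i (χ * t)) ∧
        ∀ t : K, Adm f (w0clsE6[j]).2 t →
          h * e6m_twr_x good2_E6 T3_E6 T4_E6 T19_E6 f w0clsE6 w0clsE6_mem j t * h⁻¹ =
            e6m_twr_x good2_E6 T3_E6 T4_E6 T19_E6 f w0clsE6 w0clsE6_mem j t := by
  have hi24 : i < 24 := by rw [← e6m_ncr_length]; exact hi
  have hj24 : j < 24 := by rw [← e6m_ncr_length]; exact hj
  have hq2 : 1 ≤ q ^ 2 := Nat.one_le_pow _ _ (by omega)
  have hu2 : u ^ (q ^ 2) = u := by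
    have h1 : u ^ (q ^ 2 - 1) = 1 := by rw [← hu]; exact pow_orderOf_eq_one u
    have h2 : q ^ 2 = (q ^ 2 - 1) + 1 := by omega
    rw [h2, pow_succ, h1, one_mul]
  obtain ⟨h1, h2⟩ := e6m_nc_main hq u hu i hi24 j hj24 hij
  set c := e6m_ncr_par u q (e6m_nc_wit i j) with hc
  have hmem : torusHom chevE6 K c ∈ twGroup good2_E6 T3_E6 T4_E6 T19_E6 f := e6m_ncr_par_mem f hf u hu2 _
  have hD : torusHom chevE6 K c ∈ chevE6.diagonalSubgroup K := by
    rw [torusHom_apply]; exact tGL_mem good2_E6.toGood1 c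
  rw [← e6m_ncr_chi_par] at h1 h2
  refine ⟨torusHom chevE6 K c, hD, hmem, ((e6m_ncr_chi c i : Kˣ) : K), ?_, ?_, ?_⟩
  · intro h
    exact h2 (Units.ext h)
  · intro t ht
    exact (e6m_ncr_torus f hi c hmem ht).2
  · intro t ht
    have := (e6m_ncr_torus f hj c hmem ht).2
    rw [h1, Units.val_one, one_mul] at this
    exact this

end Cfsg.Agent.E6M
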