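import Mathlib
import Cfsg.Agent.F4M.OctDefs
import Cfsg.Agent.CtRecT.TAmbA

set_option autoImplicit false
set_option linter.unusedSectionVars false
set_option linter.unusedVariables false

/-!
# S2108: the rank-one datum of a homomorphism `SL₂(F) → G` (helper9; generic)

For any homomorphism `φ : SL(2, F) →* G`: the rank-one system `e6mRk1 φ : Rk1 F G` (`xp t = φ (upperSL t)`, `xm t = φ (lowerSL t)`), the rank-one
datum `e6mR1 φ : R1 G` (`X`, `Y` the images of the unitriangular groups, `T` the image of the diagonal torus, `n = φ antiSL`) and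
`e6m_sl2_ok φ : (e6mR1 φ).Ok`: all the axioms of a rank-one datum are identities in `SL₂` pushed through `φ`.  Prefix `e6m_sl2_`.
-/

namespace Cfsg.Agent.E6M

open Cfsg.Agent.Helper7.Chev Cfsg.Agent.CtRecM Cfsg.Agent.CtRecT Cfsg.Agent.F4M Matrix

variable {F : Type*} [Field F]

/-! ### identities in `SL₂` -/

theorem e6m_sl2_diag_mul {a b : F} (ha : a ≠ 0) (hb : b ≠ 0) :
    diagSL a ha * diagSL b hb = diagSL (a * b) (mul_ne_zero ha hb) := by
  apply Subtype.ext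
  rw [Matrix.SpecialLinearGroup.coe_mul]
  change !![a, 0; 0, a⁻¹] * !![b, 0; 0, b⁻¹] = !![a * b, 0; 0, (a * b)⁻¹]
  ext i j
  fin_cases i <;> fin_cases j <;> simp [Matrix.mul_apply, Fin.sum_univ_two, mul_comm]

theorem e6m_sl2_diag_one : diagSL (1 : F) one_ne_zero = 1 := by
  apply Subtype.ext
  change !![(1 : F), 0; 0, (1 : F)⁻¹] = 1
  ext i j
  fin_cases i <;> fin_cases j <;> simp

/-- the diagonal torus of `SL₂`. -/
noncomputable def e6mDiag (F : Type*) [Field F] : Fˣ →* Matrix.SpecialLinearGroup (Fin 2) F where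
  toFun a := diagSL (a : F) a.ne_zero
  map_one' := e6m_sl2_diag_one
  map_mul' a b := by
    rw [e6m_sl2_diag_mul a.ne_zero b.ne_zero]
    rfl

theorem e6mDiag_apply (a : Fˣ) : e6mDiag F a = diagSL (a : F) a.ne_zero := rfl

theorem e6m_sl2_anti_upper (t : F) : antiSL * upperSL t * (antiSL : Matrix.SpecialLinearGroup (Fin 2) F)⁻¹ = lowerSL (-t) := by
  rw [mul_inv_eq_iff_eq_mul]
  apply Subtype.ext
  rw [Matrix.SpecialLinearGroup.coe_mul, Matrix.SpecialLinearGroup.coe_mul]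
  change !![0, 1; -1, 0] * !![1, t; 0, 1] = !![1, 0; -t, 1] * !![0, 1; -1, 0]
  ext i j
  fin_cases i <;> fin_cases j <;> simp [Matrix.mul_apply, Fin.sum_univ_two]

theorem e6m_sl2_anti_lower (t : F) : antiSL * lowerSL t * (antiSL : Matrix.SpecialLinearGroup (Fin 2) F)⁻¹ = upperSL (-t) := by
  rw [mul_inv_eq_iff_eq_mul]
  apply Subtype.ext
  rw [Matrix.SpecialLinearGroup.coe_mul, Matrix.SpecialLinearGroup.coe_mul]
  change !![0, 1; -1, 0] * !![1, 0; t, 1] = !![1, -t; 0, 1] * !![0, 1; -1, 0]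
  ext i j
  fin_cases i <;> fin_cases j <;> simp [Matrix.mul_apply, Fin.sum_univ_two]

theorem e6m_sl2_anti_sq : (antiSL : Matrix.SpecialLinearGroup (Fin 2) F) * antiSL =
    diagSL (-1 : F) (neg_ne_zero.mpr one_ne_zero) := by
  apply Subtype.ext
  rw [Matrix.SpecialLinearGroup.coe_mul]
  change !![0, 1; -1, 0] * !![0, 1; -1, 0] = !![(-1 : F), 0; 0, (-1 : F)⁻¹]
  ext i j
  fin_cases i <;> fin_cases j <;> simp [Matrix.mul_apply, Fin.sum_univ_two]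

theorem e6m_sl2_anti_diag {a : F} (ha : a ≠ 0) :
    antiSL * diagSL a ha * (antiSL : Matrix.SpecialLinearGroup (Fin 2) F)⁻¹ = diagSL a⁻¹ (inv_ne_zero ha) := by
  rw [mul_inv_eq_iff_eq_mul]
  apply Subtype.ext
  rw [Matrix.SpecialLinearGroup.coe_mul, Matrix.SpecialLinearGroup.coe_mul]
  change !![0, 1; -1, 0] * !![a, 0; 0, a⁻¹] = !![a⁻¹, 0; 0, a⁻¹⁻¹] * !![0, 1; -1, 0]
  ext i j
  fin_cases i <;> fin_cases j <;> simp [Matrix.mul_apply, Fin.sum_univ_two]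

/-- the Bruhat decomposition of a lower unitriangular matrix. -/
theorem e6m_sl2_bruhat {t : F} (ht : t ≠ 0) :
    lowerSL (-t) = upperSL (-t⁻¹) * diagSL t⁻¹ (inv_ne_zero ht) * antiSL * upperSL (-t⁻¹) := by
  apply Subtype.ext
  rw [Matrix.SpecialLinearGroup.coe_mul, Matrix.SpecialLinearGroup.coe_mul, Matrix.SpecialLinearGroup.coe_mul]
  change !![1, 0; -t, 1] = !![1, -t⁻¹; 0, 1] * !![t⁻¹, 0; 0, t⁻¹⁻¹] * !![0, 1; -1, 0] * !![1, -t⁻¹; 0, 1]
  ext i j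
  fin_cases i <;> fin_cases j <;> simp [Matrix.mul_apply, Fin.sum_univ_two, ht]

theorem e6m_sl2_upper_zero : upperSL (0 : F) = 1 := by
  apply Subtype.ext
  change !![(1 : F), 0; 0, 1] = 1
  ext i j
  fin_cases i <;> fin_cases j <;> simp

/-! ### the rank-one data of a homomorphism -/

variable {G : Type*} [Group G] (φ : Matrix.SpecialLinearGroup (Fin 2) F →* G)

/-- the rank-one system of a homomorphism `SL₂(F) → G`. -/
noncomputable def e6mRk1 : Rk1 F G where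
  xp t := φ (upperSL t)
  xm t := φ (lowerSL t)
  xp_add t u := by rw [← map_mul, ta_upperSL_mul]
  xm_add t u := by rw [← map_mul, ta_lowerSL_mul]
  conj_xp t ht u := ta_hom_conj φ ht u

theorem e6mRk1_xp (t : F) : (e6mRk1 φ).xp t = φ (upperSL t) := rfl

theorem e6mRk1_xm (t : F) : (e6mRk1 φ).xm t = φ (lowerSL t) := rfl

/-- the rank-one torus of a homomorphism `SL₂(F) → G`. -/
noncomputable def e6mTor : Subgroup G := (φ.comp (e6mDiag F)).range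

theorem mem_e6mTor {g : G} : g ∈ e6mTor φ ↔ ∃ a : Fˣ, φ (diagSL (a : F) a.ne_zero) = g := Iff.rfl

/-- the rank-one datum of a homomorphism `SL₂(F) → G`. -/
noncomputable def e6mR1 : R1 G where
  X := rk1Xp (e6mRk1 φ)
  Y := rk1Xm (e6mRk1 φ)
  T := e6mTor φ
  x₁ := φ (upperSL 1)
  y₀ := φ (lowerSL (-1))
  x₂ := φ (upperSL 1)

theorem mem_e6mR1_X {g : G} : g ∈ (e6mR1 φ).X ↔ ∃ t : F, φ (upperSL t) = g := Iff.rfl

theorem mem_e6mR1_Y {g : G} : g ∈ (e6mR1 φ).Y ↔ ∃ t : F, φ (lowerSL t) = g := Iff.rfl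

theorem e6m_sl2_n : (e6mR1 φ).n = φ antiSL := by
  unfold R1.n e6mR1
  rw [← map_mul, ← map_mul, ← antiSL_eq]

theorem e6m_sl2_w {t : F} (ht : t ≠ 0) : (e6mRk1 φ).w t = φ (diagSL t ht * antiSL) := by
  unfold Rk1.w
  rw [e6mRk1_xp, e6mRk1_xm, ← map_mul, ← map_mul, diagSL_mul_antiSL ht]

theorem e6m_sl2_w_one : (e6mRk1 φ).w 1 = φ antiSL := by
  rw [e6m_sl2_w φ one_ne_zero, e6m_sl2_diag_one, one_mul]

theorem e6m_sl2_h {t : F} (ht : t ≠ 0) : (e6mRk1 φ).h t = φ (diagSL t ht) := by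
  unfold Rk1.h
  rw [e6m_sl2_w φ ht, e6m_sl2_w φ (neg_ne_zero.mpr (one_ne_zero : (1 : F) ≠ 0)), ← map_mul]
  congr 1
  apply Subtype.ext
  rw [Matrix.SpecialLinearGroup.coe_mul, Matrix.SpecialLinearGroup.coe_mul,
    Matrix.SpecialLinearGroup.coe_mul]
  change (!![t, 0; 0, t⁻¹] * !![0, 1; -1, 0]) * (!![-1, 0; 0, (-1 : F)⁻¹] * !![0, 1; -1, 0]) =
    !![t, 0; 0, t⁻¹]
  ext i j
  fin_cases i <;> fin_cases j <;> simp [Matrix.mul_apply, Fin.sum_univ_two]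

/-- all the axioms of a rank-one datum hold for the datum of a homomorphism `SL₂(F) → G`. -/
theorem e6m_sl2_ok : (e6mR1 φ).Ok where
  hx₁ := ⟨1, rfl⟩
  hy₀ := ⟨-1, rfl⟩
  hx₂ := ⟨1, rfl⟩
  conj_X := by
    rintro _ ⟨t, rfl⟩
    rw [e6m_sl2_n]
    refine ⟨-t, ?_⟩
    change φ (lowerSL (-t)) = φ antiSL * φ (upperSL t) * (φ antiSL)⁻¹
    rw [← map_inv, ← map_mul, ← map_mul, e6m_sl2_anti_upper]
  conj_Y := by
    rintro _ ⟨t, rfl⟩
    rw [e6m_sl2_n]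
    refine ⟨-t, ?_⟩
    change φ (upperSL (-t)) = φ antiSL * φ (lowerSL t) * (φ antiSL)⁻¹
    rw [← map_inv, ← map_mul, ← map_mul, e6m_sl2_anti_lower]
  sq := by
    rw [e6m_sl2_n, ← map_mul, e6m_sl2_anti_sq]
    exact ⟨Units.mk0 (-1) (neg_ne_zero.mpr one_ne_zero), rfl⟩
  T_le := by
    rintro _ ⟨a, rfl⟩
    change φ (diagSL (a : F) a.ne_zero) ∈ (e6mR1 φ).X ⊔ (e6mR1 φ).Y
    rw [← e6m_sl2_h φ a.ne_zero]
    have hw : ∀ t : F, (e6mRk1 φ).w t ∈ (e6mR1 φ).X ⊔ (e6mR1 φ).Y := by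
      intro t
      unfold Rk1.w
      exact mul_mem (mul_mem (Subgroup.mem_sup_left ⟨t, rfl⟩) (Subgroup.mem_sup_right ⟨-t⁻¹, rfl⟩))
        (Subgroup.mem_sup_left ⟨t, rfl⟩)
    unfold Rk1.h
    exact mul_mem (hw _) (hw _)
  n_T := by
    rintro _ ⟨a, rfl⟩
    rw [e6m_sl2_n]
    change φ antiSL * φ (diagSL (a : F) a.ne_zero) * (φ antiSL)⁻¹ ∈ e6mTor φ
    rw [← map_inv, ← map_mul, ← map_mul, e6m_sl2_anti_diag]
    exact ⟨a⁻¹, by simp [e6mDiag_apply]⟩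
  bruhat := by
    rintro _ ⟨t, rfl⟩ hx
    have ht : t ≠ 0 := by
      rintro rfl
      apply hx
      change φ (upperSL 0) = 1
      rw [e6m_sl2_upper_zero, map_one]
    rw [e6m_sl2_n]
    refine ⟨φ (upperSL (-t⁻¹)), ⟨_, rfl⟩, φ (diagSL t⁻¹ (inv_ne_zero ht)), ⟨Units.mk0 t⁻¹ (inv_ne_zero ht), rfl⟩,
      φ (upperSL (-t⁻¹)), ⟨_, rfl⟩, ?_⟩
    change φ antiSL * φ (upperSL t) * (φ antiSL)⁻¹ = _
    rw [← map_inv, ← map_mul, ← map_mul, e6m_sl2_anti_upper, e6m_sl2_bruhat ht, map_mul, map_mul, map_mul]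

end Cfsg.Agent.E6M
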