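import Mathlib
import Cfsg.Agent.E6M.TwRootsE6
import Cfsg.Agent.Helper7.ChevTwO6

set_option autoImplicit false
set_option linter.unusedSectionVars false
set_option linter.unusedVariables false

/-!
# S2108, package P6: the field `idx` of `AbRoots` for the 24 root groups of `²E₆`

The root groups are helper7's `e6m_twrE_U f k` (`E6M/TwRootsE6.lean`), seen in the twisted group `twGroup good2_E6 T3_E6 T4_E6 T19_E6 f` by
`subgroupOf` (this is `e6m_twrS_U f k` of `E6M/TwRootsSub.lean`, by definition).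
* `e6m_twrC_subgroupOf_biSup`, `e6m_twrC_card_subgroupOf`: generalities on `subgroupOf`;
* `e6m_twrC_iSup`: the 24 root groups generate `U¹ = (U ⊓ G¹).subgroupOf G¹`;
* `e6m_twrC_eq`: the twisted group of the `q`-Frobenius is `twistedE6 K q`;
* `e6m_twrC_idx_gen`, `e6m_twrC_idx`: the index of `U¹` is prime to `p` for a prime `p ∣ q`;
* `e6m_twrC_dvd_of_char`: `(p : K) = 0` gives `p ∣ q`.
Prefix `e6m_twrC_`.
-/

namespace Cfsg.Agent.E6M

open Cfsg Cfsg.Lie Matrix Cfsg.Agent.Helper7.Chev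

/-! ### generalities -/

/-- `subgroupOf` commutes with a bounded supremum of subgroups below. -/
theorem e6m_twrC_subgroupOf_biSup {G : Type*} [Group G] (H : Subgroup G) (T : ℕ → Subgroup G) (s : Finset ℕ)
    (h : ∀ k, T k ≤ H) :
    (⨆ k ∈ s, T k).subgroupOf H = ⨆ k ∈ s, (T k).subgroupOf H := by
  apply Subgroup.map_injective H.subtype_injective
  rw [Subgroup.map_subgroupOf_eq_of_le (iSup₂_le fun k _ => h k)]
  simp_rw [Subgroup.map_iSup, Subgroup.map_subgroupOf_eq_of_le (h _)]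

/-- the order of a subgroup below `H`, seen in `H`. -/
theorem e6m_twrC_card_subgroupOf {G : Type*} [Group G] {T H : Subgroup G} (h : T ≤ H) :
    Nat.card (T.subgroupOf H) = Nat.card T :=
  Nat.card_congr (Subgroup.subgroupOfEquivOfLe h).toEquiv

theorem e6m_twrC_not_dvd_sub {p q k : ℕ} (hp : p.Prime) (hpq : p ∣ q) (hk : k ≠ 0) (hq : 1 ≤ q) :
    ¬ p ∣ q ^ k - 1 := by
  intro h
  have h1 : p ∣ q ^ k := dvd_pow hpq hk
  have h2 : 1 ≤ q ^ k := Nat.one_le_pow _ _ hq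
  have h3 : q ^ k = (q ^ k - 1) + 1 := by omega
  rw [h3] at h1
  have h4 : p ∣ 1 := (Nat.dvd_add_right h).mp h1
  exact hp.one_lt.ne' (Nat.dvd_one.mp h4)

theorem e6m_twrC_not_dvd_add {p q k : ℕ} (hp : p.Prime) (hpq : p ∣ q) (hk : k ≠ 0) :
    ¬ p ∣ q ^ k + 1 := by
  intro h
  have h1 : p ∣ q ^ k := dvd_pow hpq hk
  have h4 : p ∣ 1 := (Nat.dvd_add_right h1).mp h
  exact hp.one_lt.ne' (Nat.dvd_one.mp h4)

/-- the characteristic divides `q`. -/
theorem e6m_twrC_dvd_of_char {K : Type*} [Field K] [Fintype K] {q p : ℕ} (hK : Fintype.card K = q ^ 2)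
    (hp : p.Prime) (hpK : (p : K) = 0) : p ∣ q := by
  have h1 : ringChar K ∣ p := (CharP.cast_eq_zero_iff K (ringChar K) p).mp hpK
  have h2 : ringChar K = p := by
    rcases (Nat.dvd_prime hp).mp h1 with h | h
    · exact absurd h (CharP.ringChar_ne_one)
    · exact h
  have h3 : ((Fintype.card K : ℕ) : K) = 0 := Nat.cast_card_eq_zero K
  have h4 : ringChar K ∣ Fintype.card K := (CharP.cast_eq_zero_iff K (ringChar K) _).mp h3
  rw [h2, hK] at h4
  exact hp.dvd_of_dvd_pow h4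

/-! ### the 24 root groups -/

variable {K : Type*} [Field K] (f : K ≃+* K)

/-- the bounded suprema of the root groups, in the twisted group. -/
theorem e6m_twrC_biSup (s : Finset ℕ) :
    (⨆ k ∈ s, (e6m_twrE_U f k).subgroupOf (twGroup good2_E6 T3_E6 T4_E6 T19_E6 f)) =
      (⨆ k ∈ s, e6m_twrE_U f k).subgroupOf (twGroup good2_E6 T3_E6 T4_E6 T19_E6 f) :=
  (e6m_twrC_subgroupOf_biSup _ _ s (e6m_twrE_U_le f)).symm

/-- the root groups generate `U¹`, in the twisted group. -/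
theorem e6m_twrC_iSup :
    (⨆ k ∈ Finset.range 24, (e6m_twrE_U f k).subgroupOf (twGroup good2_E6 T3_E6 T4_E6 T19_E6 f)) =
      (chevE6.posUnipotent K ⊓ twGroup good2_E6 T3_E6 T4_E6 T19_E6 f).subgroupOf
        (twGroup good2_E6 T3_E6 T4_E6 T19_E6 f) := by
  rw [e6m_twrC_biSup, e6m_twrE_iSup]

section count

variable [Fintype K] {q : ℕ}

/-- the twisted group of the `q`-Frobenius is `²E₆(q)`. -/
theorem e6m_twrC_eq (hq : IsPrimePow q) (hK : Fintype.card K = q ^ 2) {f : K ≃+* K}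
    (hf : ∀ t, f t = t ^ q) : twistedE6 K q = twGroup good2_E6 T3_E6 T4_E6 T19_E6 f := by
  obtain ⟨f', hf', -, e⟩ := twistedE6_eq hq hK
  have : f' = f := RingEquiv.ext fun t => by rw [hf', hf]
  rw [← this]
  exact e

/-- the index of `U¹` in `²E₆(q)` is prime to the characteristic. -/
theorem e6m_twrC_idx_gen (hq : IsPrimePow q) (hK : Fintype.card K = q ^ 2) {f : K ≃+* K}
    (hf : ∀ t, f t = t ^ q) {p : ℕ} (hp : p.Prime) (hpq : p ∣ q)
    (V : Subgroup ↥(twGroup good2_E6 T3_E6 T4_E6 T19_E6 f))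
    (hV : V = (chevE6.posUnipotent K ⊓ twGroup good2_E6 T3_E6 T4_E6 T19_E6 f).subgroupOf
        (twGroup good2_E6 T3_E6 T4_E6 T19_E6 f)) :
    ¬ p ∣ V.index := by
  intro hdvd
  have e := e6m_twrC_eq hq hK hf
  have hU := twE6_card_U hq hK
  have hG := twE6_card hq hK
  rw [e] at hU hG
  have hVc : Nat.card ↥V = q ^ 36 := by
    rw [hV, e6m_twrC_card_subgroupOf inf_le_right, hU]
  have hmul := Subgroup.card_mul_index V
  rw [hVc] at hmul
  have hq0 : 0 < q := hq.pos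
  have h1 : q ^ 36 * (Nat.gcd 3 (q + 1) * V.index) =
      q ^ 36 * ((q ^ 2 - 1) * (q ^ 5 + 1) * (q ^ 6 - 1) * (q ^ 8 - 1) * (q ^ 9 + 1) * (q ^ 12 - 1)) := by
    calc q ^ 36 * (Nat.gcd 3 (q + 1) * V.index)
        = Nat.gcd 3 (q + 1) * (q ^ 36 * V.index) := by ring
      _ = Nat.gcd 3 (q + 1) * Nat.card ↥(twGroup good2_E6 T3_E6 T4_E6 T19_E6 f) := by rw [hmul]
      _ = _ := by rw [hG]; ring
  have h2 := Nat.eq_of_mul_eq_mul_left (pow_pos hq0 36) h1
  have h3 : p ∣ (q ^ 2 - 1) * (q ^ 5 + 1) * (q ^ 6 - 1) * (q ^ 8 - 1) * (q ^ 9 + 1) * (q ^ 12 - 1) := by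
    rw [← h2]
    exact Dvd.dvd.mul_left hdvd _
  have hq1 : 1 ≤ q := hq0
  rcases hp.dvd_mul.mp h3 with h3 | h3
  · rcases hp.dvd_mul.mp h3 with h3 | h3
    · rcases hp.dvd_mul.mp h3 with h3 | h3
      · rcases hp.dvd_mul.mp h3 with h3 | h3
        · rcases hp.dvd_mul.mp h3 with h3 | h3
          · exact e6m_twrC_not_dvd_sub hp hpq (by norm_num) hq1 h3
          · exact e6m_twrC_not_dvd_add hp hpq (by norm_num) h3
        · exact e6m_twrC_not_dvd_sub hp hpq (by norm_num) hq1 h3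
      · exact e6m_twrC_not_dvd_sub hp hpq (by norm_num) hq1 h3
    · exact e6m_twrC_not_dvd_add hp hpq (by norm_num) h3
  · exact e6m_twrC_not_dvd_sub hp hpq (by norm_num) hq1 h3

/-- the field `idx` of `AbRoots`: the index of the group generated by the 24 root groups is prime to the characteristic. -/
theorem e6m_twrC_idx (hq : IsPrimePow q) (hK : Fintype.card K = q ^ 2) {f : K ≃+* K}
    (hf : ∀ t, f t = t ^ q) {p : ℕ} (hp : p.Prime) (hpq : p ∣ q) :
    ¬ p ∣ (⨆ k ∈ Finset.range 24,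
      (e6m_twrE_U f k).subgroupOf (twGroup good2_E6 T3_E6 T4_E6 T19_E6 f)).index :=
  e6m_twrC_idx_gen hq hK hf hp hpq _ (e6m_twrC_iSup f)

end count

end Cfsg.Agent.E6M
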