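import Mathlib
import Cfsg.Agent.E6M.TwRootsE6
import Cfsg.Agent.E6M.TwRootsNC
import Cfsg.Agent.E6M.PartIAb
import Cfsg.Agent.Helper7.ChevPerfect

set_option autoImplicit false
set_option linter.unusedSectionVars false
set_option linter.unusedVariables false

/-!
# S2108, concrete side: the `ab` field of `AbRoots` for the LONG root groups of `²E₆(q)` in characteristic `2` (needed for `q = 4`)

The twelve long root groups of `E6M/TwRootsE6.lean` are root groups `{x_r(t) | t ∈ F_q}` of `τ`-fixed roots `r` of `E₆`.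
* `e6m_twrQ_comm_nil`, `e6m_twrQ_comm_single`: the commutator formula for root elements of the ambient group (no term / one term);
* `e6m_twrQ_x_single`: the explicit form `x k t = x_r(η t)` of the parametrisation of a position `k` whose class is a singleton;
* eight of the twelve long roots are sums `r_a + r_b` of two positive long roots: alternative (Q) of `AbBase` with `z₀ = x_b(1)`;
  the four others (`p₂`, `p₄`, `p₃+p₄+p₅`, `p₁+p₃+p₄+p₅+p₆`) are conjugate to one of the eight under a fundamental `n_S`.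
Prefix `e6m_twrQ_`.
-/

namespace Cfsg.Agent.E6M

open Cfsg Cfsg.Lie Matrix Cfsg.Agent.Helper7.Chev

section generic

variable {D : ChevalleyDatum} {K : Type*} [Field K] (hG : Good2 D) (h3 : (tabOf D).T3)

include h3 in
/-- root elements of two roots without commutator terms commute. -/
theorem e6m_twrQ_comm_nil {N : ℕ} (h4 : (tabOf D).T4 N) {r s : ℕ} (hr : r < D.nroots) (hs : s < D.nroots) (hsr : s ≠ r)
    (hsn : s ≠ D.neg r) (hct : (tabOf D).commTerms r s = []) (t u : K) :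
    xGL hG.toGood1 hs u * xGL hG.toGood1 hr t = xGL hG.toGood1 hr t * xGL hG.toGood1 hs u := by
  have hcomm : Comm D K r s := comm_all hG h3 h4 hr hs hsr hsn
  have hW : D.commWord K r s t u = [] := by
    rw [commWord_eq]
    unfold Tab.commMono
    rw [hct]
    rfl
  have hf := hcomm t u
  rw [hW, wordMat_nil, mul_one] at hf
  apply Units.ext
  rw [Units.val_mul, Units.val_mul, xGL_coe, xGL_coe]
  exact hf

include h3 in
/-- the commutator formula with a single term: `x_s(u) x_r(t) = x_r(t) x_s(u) x_q(-c t u)`. -/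
theorem e6m_twrQ_comm_single {N : ℕ} (h4 : (tabOf D).T4 N) {q r s : ℕ} {c : ℤ} (hr : r < D.nroots) (hs : s < D.nroots)
    (hsr : s ≠ r) (hsn : s ≠ D.neg r) (hct : (tabOf D).commTerms r s = [(q, c, 1, 1)]) (hq : q < D.nroots) (t u : K) :
    xGL hG.toGood1 hs u * xGL hG.toGood1 hr t =
      xGL hG.toGood1 hr t * xGL hG.toGood1 hs u * xGL hG.toGood1 hq (-(c : K) * t * u) := by
  have hcomm : Comm D K r s := comm_all hG h3 h4 hr hs hsr hsn
  have hW : D.commWord K r s t u = [(q, -(c : K) * t * u)] := by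
    rw [commWord_eq]
    unfold Tab.commMono
    rw [hct]
    simp only [List.map_cons, List.map_nil, Mono.eval]
    congr 2
    push_cast
    ring
  have hf := hcomm t u
  rw [hW, wordMat_cons, wordMat_nil, mul_one] at hf
  apply Units.ext
  rw [Units.val_mul, Units.val_mul, Units.val_mul, xGL_coe, xGL_coe, xGL_coe]
  exact hf

end generic

section xform

variable {D : ChevalleyDatum} {K : Type*} [Field K] (hG : Good2 D) (h3 : (tabOf D).T3) (h4 : (tabOf D).T4 60)
  {ρ σ : ℕ → ℕ} {cls : List (ℕ × ℕ)} (h19 : T19 D ρ σ cls) (f : K ≃+* K)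

/-- the explicit form of the parametrisation of a position whose class is a singleton: a root element of the ambient group. -/
theorem e6m_twrQ_x_single {L : List (ℕ × ℕ)} (hL : ∀ c ∈ L, c ∈ cls) {k : ℕ} (hk : k < L.length) (hc1 : (L[k]).2 = 1)
    {r : ℕ} (hr : r < D.nroots)
    (hrw : (tabOf D).reflWord (e6m_twr_word ρ (L.drop (k + 1))) r = clsRoot D ρ (L[k]).1 0) (t : K) :
    e6m_twr_x hG h3 h4 h19 f L hL k t =
      xGL hG.toGood1 hr ((((tabOf D).etaWord (e6m_twr_word ρ (L.drop (k + 1))) r : ℤ) : K) * t) := by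
  have hG1 := hG.toGood1
  have hc : L[k] ∈ cls := hL _ (List.getElem_mem hk)
  obtain ⟨hm0, _, hlt⟩ := h19.orbit _ hc
  have hp0 : clsRoot D ρ (L[k]).1 0 < D.nroots := hG1.simple_lt (hlt 0 hm0)
  have hLd : ∀ c ∈ L.drop (k + 1), c ∈ cls := fun c hc => hL c (List.mem_of_mem_drop hc)
  have hw := e6m_twr_word_lt h19 hLd
  have hη := etaWord_cast_mul_self (F := K) hG hw hr
  have hconj : ∀ u : K, e6m_twr_tail hG ρ L (k + 1) * xGL hG1 hr u * (e6m_twr_tail hG ρ L (k + 1))⁻¹ =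
      xGL hG1 hp0 ((((tabOf D).etaWord (e6m_twr_word ρ (L.drop (k + 1))) r : ℤ) : K) * u) := by
    intro u
    unfold e6m_twr_tail
    rw [nWordGL_conj hG hw hr u]
    exact xGL_congr hG hrw _ _ _
  have hup : clsHom hG h3 h4 h19 f hc (upperSL t) = xGL hG1 hp0 t := by
    rw [clsHom_upper, xiHom_apply, hc1]
    have h2 : ((1 : K →+* K)) t = t := rfl
    simp only [List.range_one, List.map_cons, List.map_nil, List.prod_cons, List.prod_nil, mul_one, toAdd_ofAdd, pow_zero, h2]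
    exact xGL'_of_lt hG1 hp0 t
  unfold e6m_twr_x
  rw [dif_pos hk, hup]
  have e1 : xGL hG1 hp0 t = e6m_twr_tail hG ρ L (k + 1) *
      xGL hG1 hr ((((tabOf D).etaWord (e6m_twr_word ρ (L.drop (k + 1))) r : ℤ) : K) * t) *
      (e6m_twr_tail hG ρ L (k + 1))⁻¹ := by
    rw [hconj, ← mul_assoc, hη, one_mul]
  rw [e1]
  group

end xform

/-! ### the instance `²E₆` in characteristic `2` -/

section e6

variable {K : Type*} [Field K] [CharP K 2] (f : K ≃+* K)

theorem e6m_twrQ_cast_pm {η : ℤ} (h : η * η = 1) : ((η : ℤ) : K) = 1 := by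
  rcases Int.eq_one_or_neg_one_of_mul_eq_one h with h1 | h1
  · rw [h1, Int.cast_one]
  · rw [h1, Int.cast_neg, Int.cast_one, CharTwo.neg_eq]

theorem e6m_twrQ_long_len : ∀ k < 24, e6m_nc_long k = true → (w0clsE6.getD k (0, 0)).2 = 1 := by decide

/-- the explicit form of the long root elements in characteristic `2`. -/
theorem e6m_twrQ_xE {k : ℕ} (hk : k < 24) (hl : e6m_nc_long k = true) (t : K) :
    e6m_twrE_x f k t = xGL good2_E6.toGood1 (e6m_twrE_root_lt k hk) t := by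
  have hk' : k < w0clsE6.length := by rw [e6m_twrE_length]; exact hk
  have hc1 : (w0clsE6[k]).2 = 1 := by
    rw [e6m_twrE_cls_eq hk']
    exact e6m_twrQ_long_len k hk hl
  have hrw : (tabOf chevE6).reflWord (e6m_twr_word e6m_twrE_rho (w0clsE6.drop (k + 1))) (e6m_nc_root.getD k 0) =
      clsRoot chevE6 e6m_twrE_rho (w0clsE6[k]).1 0 := by
    rw [e6m_twrE_cls_eq hk']
    exact e6m_twrE_root k hk
  unfold e6m_twrE_x
  rw [e6m_twrQ_x_single good2_E6 T3_E6 T4_E6 T19_E6 f w0clsE6_mem hk' hc1 (e6m_twrE_root_lt k hk) hrw t]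
  have hLd : ∀ c ∈ w0clsE6.drop (k + 1), c ∈ clsE6 := fun c hc => w0clsE6_mem c (List.mem_of_mem_drop hc)
  have hw := e6m_twr_word_lt T19_E6 hLd
  rw [e6m_twrQ_cast_pm (etaWord_sq good2_E6 hw (e6m_twrE_root_lt k hk)), one_mul]

theorem e6m_twrQ_grp {Γ : Type*} [Group Γ] {a z j : Γ} (h1 : a * z = z * a * j) (h2 : a * j = j * a) (h3 : z * j = j * z) :
    a * z * a⁻¹ * z⁻¹ = j := by
  calc a * z * a⁻¹ * z⁻¹ = z * a * j * a⁻¹ * z⁻¹ := by rw [h1]
    _ = z * (a * j) * a⁻¹ * z⁻¹ := by group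
    _ = z * (j * a) * a⁻¹ * z⁻¹ := by rw [h2]
    _ = (z * j) * z⁻¹ := by group
    _ = j := by rw [h3]; group

theorem e6m_twrQ_len_long {k : ℕ} (hl : e6m_nc_long k = true) : e6m_twrN_len k = 1 := by
  unfold e6m_twrN_len
  rw [if_pos hl]

theorem e6m_twrQ_x_zero {k : ℕ} (hk : k < 24) (hl : e6m_nc_long k = true) : e6m_twrE_x f k 0 = 1 := by
  have h := e6m_twrE_x_add f k 0 0
  rw [add_zero] at h
  exact (mul_eq_left.mp h.symm)

/-- alternative (Q) of `AbBase` for a long root `r_j = r_a + r_b` with `a`, `b` long. -/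
theorem e6m_twrQ_base (U : ℕ → Subgroup ↥(e6mG f))
    (hU : ∀ k < 24, ∀ g : ↥(e6mG f), g ∈ U k ↔
      ∃ t, Adm f (e6m_twrN_len k) t ∧ (g : GL chevE6.Idx K) = e6m_twrE_x f k t)
    {j a b : ℕ} (hj : j < 24) (ha : a < 24) (hb : b < 24) (hlj : e6m_nc_long j = true) (hla : e6m_nc_long a = true)
    (hlb : e6m_nc_long b = true) (haj : a ≠ j) {c : ℤ} (hc : c * c = 1)
    (hab1 : e6m_nc_root.getD a 0 ≠ e6m_nc_root.getD b 0)
    (hab2 : e6m_nc_root.getD a 0 ≠ chevE6.neg (e6m_nc_root.getD b 0))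
    (hct : (tabOf chevE6).commTerms (e6m_nc_root.getD b 0) (e6m_nc_root.getD a 0) = [(e6m_nc_root.getD j 0, c, 1, 1)])
    (haj1 : e6m_nc_root.getD j 0 ≠ e6m_nc_root.getD a 0)
    (haj2 : e6m_nc_root.getD j 0 ≠ chevE6.neg (e6m_nc_root.getD a 0))
    (hctaj : (tabOf chevE6).commTerms (e6m_nc_root.getD a 0) (e6m_nc_root.getD j 0) = [])
    (hbj1 : e6m_nc_root.getD j 0 ≠ e6m_nc_root.getD b 0)
    (hbj2 : e6m_nc_root.getD j 0 ≠ chevE6.neg (e6m_nc_root.getD b 0))
    (hctbj : (tabOf chevE6).commTerms (e6m_nc_root.getD b 0) (e6m_nc_root.getD j 0) = []) :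
    ∃ a' < 24, a' ≠ j ∧ (∀ x ∈ U a', ∀ y ∈ U j, x * y = y * x) ∧ (∀ x ∈ U a', x * x = 1) ∧
      ∃ z₀ : ↥(e6mG f), (∀ x ∈ U a', x * z₀ * x⁻¹ * z₀⁻¹ ∈ U j) ∧
        ∀ y ∈ U j, ∃ x ∈ U a', x * z₀ * x⁻¹ * z₀⁻¹ = y := by
  have hG1 := good2_E6.toGood1
  have hra := e6m_twrE_root_lt a ha
  have hrb := e6m_twrE_root_lt b hb
  have hrj := e6m_twrE_root_lt j hj
  -- the three commutation facts
  have c_aj : ∀ t u : K, xGL hG1 hra t * xGL hG1 hrj u = xGL hG1 hrj u * xGL hG1 hra t := fun t u =>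
    (e6m_twrQ_comm_nil good2_E6 T3_E6 T4_E6 hra hrj haj1 haj2 hctaj t u).symm
  have c_bj : ∀ t u : K, xGL hG1 hrb t * xGL hG1 hrj u = xGL hG1 hrj u * xGL hG1 hrb t := fun t u =>
    (e6m_twrQ_comm_nil good2_E6 T3_E6 T4_E6 hrb hrj hbj1 hbj2 hctbj t u).symm
  have c_ab : ∀ u : K, xGL hG1 hra u * xGL hG1 hrb 1 = xGL hG1 hrb 1 * xGL hG1 hra u * xGL hG1 hrj u := by
    intro u
    have h := e6m_twrQ_comm_single good2_E6 T3_E6 T4_E6 hrb hra hab1 hab2 hct hrj (1 : K) u
    have e : -(c : K) * 1 * u = u := by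
      rw [e6m_twrQ_cast_pm hc, CharTwo.neg_eq, one_mul, one_mul]
    rw [e] at h
    exact h
  have key : ∀ u : K, xGL hG1 hra u * xGL hG1 hrb 1 * (xGL hG1 hra u)⁻¹ * (xGL hG1 hrb 1)⁻¹ = xGL hG1 hrj u :=
    fun u => e6m_twrQ_grp (c_ab u) (c_aj u u) (c_bj 1 u)
  -- `z₀`
  have hzmem : e6m_twrE_x f b 1 ∈ e6mG f :=
    e6m_twrE_U_le f b ((e6m_twrE_mem_U f hb).mpr ⟨1, Adm.one, rfl⟩)
  have hla1 := e6m_twrQ_len_long hla
  have hlj1 := e6m_twrQ_len_long hlj
  refine ⟨a, ha, haj, ?_, ?_, ⟨e6m_twrE_x f b 1, hzmem⟩, ?_, ?_⟩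
  · intro x hx y hy
    obtain ⟨t, -, ex⟩ := (hU a ha x).mp hx
    obtain ⟨u, -, ey⟩ := (hU j hj y).mp hy
    apply Subtype.ext
    rw [Subgroup.coe_mul, Subgroup.coe_mul, ex, ey, e6m_twrQ_xE f ha hla, e6m_twrQ_xE f hj hlj]
    exact c_aj t u
  · intro x hx
    obtain ⟨t, -, ex⟩ := (hU a ha x).mp hx
    apply Subtype.ext
    rw [Subgroup.coe_mul, ex, ← e6m_twrE_x_add, CharTwo.add_self_eq_zero, Subgroup.coe_one]
    exact e6m_twrQ_x_zero f ha hla
  · intro x hx
    obtain ⟨t, ht, ex⟩ := (hU a ha x).mp hx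
    refine (hU j hj _).mpr ⟨t, ?_, ?_⟩
    · rw [hlj1]; rw [hla1] at ht; exact ht
    · simp only [Subgroup.coe_mul, Subgroup.coe_inv, ex]
      rw [e6m_twrQ_xE f ha hla, e6m_twrQ_xE f hb hlb, e6m_twrQ_xE f hj hlj]
      exact key t
  · intro y hy
    obtain ⟨u, hu, ey⟩ := (hU j hj y).mp hy
    have hxm : e6m_twrE_x f a u ∈ e6mG f :=
      e6m_twrE_U_le f a ((e6m_twrE_mem_U f ha).mpr ⟨u, by
        have : (e6m_twrE_cls a).2 = 1 := e6m_twrQ_long_len a ha hla
        rw [this]; rw [hlj1] at hu; exact hu, rfl⟩)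
    refine ⟨⟨e6m_twrE_x f a u, hxm⟩, (hU a ha _).mpr ⟨u, by rw [hla1]; rw [hlj1] at hu; exact hu, rfl⟩, ?_⟩
    apply Subtype.ext
    simp only [Subgroup.coe_mul, Subgroup.coe_inv]
    rw [ey, e6m_twrQ_xE f ha hla, e6m_twrQ_xE f hb hlb, e6m_twrQ_xE f hj hlj]
    exact key u

/-- transport of a long root group to another one by the element of `N` of a word in the classes. -/
theorem e6m_twrQ_transport (U : ℕ → Subgroup ↥(e6mG f))
    (hU : ∀ k < 24, ∀ g : ↥(e6mG f), g ∈ U k ↔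
      ∃ t, Adm f (e6m_twrN_len k) t ∧ (g : GL chevE6.Idx K) = e6m_twrE_x f k t)
    {i j : ℕ} (hi : i < 24) (hj : j < 24) (hli : e6m_nc_long i = true) (hlj : e6m_nc_long j = true)
    (L : List (ℕ × ℕ)) (hL : ∀ c ∈ L, c ∈ clsE6)
    (hrw : (tabOf chevE6).reflWord (L.flatMap (clsWord e6m_twrE_rho)) (e6m_nc_root.getD i 0) = e6m_nc_root.getD j 0) :
    ∃ g : ↥(e6mG f), ∀ x ∈ U i, g⁻¹ * x * g ∈ U j := by
  have hG1 := good2_E6.toGood1
  have hmem : nWordGL good2_E6 (L.flatMap (clsWord e6m_twrE_rho)) ∈ e6mG f :=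
    nWordGL_flatMap_mem good2_E6 T3_E6 T4_E6 T19_E6 f hL
  have hw : ∀ a ∈ L.flatMap (clsWord e6m_twrE_rho), a < chevE6.rank := by
    intro a ha
    rw [List.mem_flatMap] at ha
    obtain ⟨c, hc, hac⟩ := ha
    exact clsWord_lt T19_E6 (hL c hc) a hac
  refine ⟨⟨nWordGL good2_E6 (L.flatMap (clsWord e6m_twrE_rho)), hmem⟩⁻¹, ?_⟩
  intro x hx
  obtain ⟨t, ht, ex⟩ := (hU i hi x).mp hx
  refine (hU j hj _).mpr ⟨t, ?_, ?_⟩
  · rw [e6m_twrQ_len_long hlj]; rw [e6m_twrQ_len_long hli] at ht; exact ht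
  · simp only [Subgroup.coe_mul, Subgroup.coe_inv, inv_inv, ex]
    rw [e6m_twrQ_xE f hi hli, e6m_twrQ_xE f hj hlj, nWordGL_conj good2_E6 hw (e6m_twrE_root_lt i hi) t,
      e6m_twrQ_cast_pm (etaWord_sq good2_E6 hw (e6m_twrE_root_lt i hi)), one_mul]
    exact xGL_congr good2_E6 hrw _ _ _

theorem e6m_twrQ_long_cases : ∀ k < 24, e6m_nc_long k = true →
    k = 0 ∨ k = 1 ∨ k = 4 ∨ k = 5 ∨ k = 8 ∨ k = 9 ∨ k = 12 ∨ k = 13 ∨ k = 16 ∨ k = 17 ∨ k = 20 ∨ k = 21 := by decide

theorem e6m_twrQ_base_1 (U : ℕ → Subgroup ↥(e6mG f))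
    (hU : ∀ k < 24, ∀ g : ↥(e6mG f), g ∈ U k ↔
      ∃ t, Adm f (e6m_twrN_len k) t ∧ (g : GL chevE6.Idx K) = e6m_twrE_x f k t) : AbBase U 24 1 :=
  Or.inr (Or.inr (e6m_twrQ_base f U hU (j := 1) (a := 0) (b := 4) (by decide) (by decide) (by decide) (by decide) (by decide)
      (by decide) (by decide) (c := 1) (by decide) (by decide +kernel) (by decide +kernel)
      (by rw [tab_E6]; decide +kernel) (by decide +kernel) (by decide +kernel) (by rw [tab_E6]; decide +kernel)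
      (by decide +kernel) (by decide +kernel) (by rw [tab_E6]; decide +kernel)))

theorem e6m_twrQ_base_5 (U : ℕ → Subgroup ↥(e6mG f))
    (hU : ∀ k < 24, ∀ g : ↥(e6mG f), g ∈ U k ↔
      ∃ t, Adm f (e6m_twrN_len k) t ∧ (g : GL chevE6.Idx K) = e6m_twrE_x f k t) : AbBase U 24 5 :=
  Or.inr (Or.inr (e6m_twrQ_base f U hU (j := 5) (a := 1) (b := 16) (by decide) (by decide) (by decide) (by decide) (by decide)
      (by decide) (by decide) (c := -1) (by decide) (by decide +kernel) (by decide +kernel)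
      (by rw [tab_E6]; decide +kernel) (by decide +kernel) (by decide +kernel) (by rw [tab_E6]; decide +kernel)
      (by decide +kernel) (by decide +kernel) (by rw [tab_E6]; decide +kernel)))

theorem e6m_twrQ_base_8 (U : ℕ → Subgroup ↥(e6mG f))
    (hU : ∀ k < 24, ∀ g : ↥(e6mG f), g ∈ U k ↔
      ∃ t, Adm f (e6m_twrN_len k) t ∧ (g : GL chevE6.Idx K) = e6m_twrE_x f k t) : AbBase U 24 8 :=
  Or.inr (Or.inr (e6m_twrQ_base f U hU (j := 8) (a := 0) (b := 16) (by decide) (by decide) (by decide) (by decide) (by decide)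
      (by decide) (by decide) (c := -1) (by decide) (by decide +kernel) (by decide +kernel)
      (by rw [tab_E6]; decide +kernel) (by decide +kernel) (by decide +kernel) (by rw [tab_E6]; decide +kernel)
      (by decide +kernel) (by decide +kernel) (by rw [tab_E6]; decide +kernel)))

theorem e6m_twrQ_base_9 (U : ℕ → Subgroup ↥(e6mG f))
    (hU : ∀ k < 24, ∀ g : ↥(e6mG f), g ∈ U k ↔
      ∃ t, Adm f (e6m_twrN_len k) t ∧ (g : GL chevE6.Idx K) = e6m_twrE_x f k t) : AbBase U 24 9 :=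
  Or.inr (Or.inr (e6m_twrQ_base f U hU (j := 9) (a := 0) (b := 13) (by decide) (by decide) (by decide) (by decide) (by decide)
      (by decide) (by decide) (c := -1) (by decide) (by decide +kernel) (by decide +kernel)
      (by rw [tab_E6]; decide +kernel) (by decide +kernel) (by decide +kernel) (by rw [tab_E6]; decide +kernel)
      (by decide +kernel) (by decide +kernel) (by rw [tab_E6]; decide +kernel)))

theorem e6m_twrQ_base_12 (U : ℕ → Subgroup ↥(e6mG f))
    (hU : ∀ k < 24, ∀ g : ↥(e6mG f), g ∈ U k ↔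
      ∃ t, Adm f (e6m_twrN_len k) t ∧ (g : GL chevE6.Idx K) = e6m_twrE_x f k t) : AbBase U 24 12 :=
  Or.inr (Or.inr (e6m_twrQ_base f U hU (j := 12) (a := 1) (b := 21) (by decide) (by decide) (by decide) (by decide) (by decide)
      (by decide) (by decide) (c := -1) (by decide) (by decide +kernel) (by decide +kernel)
      (by rw [tab_E6]; decide +kernel) (by decide +kernel) (by decide +kernel) (by rw [tab_E6]; decide +kernel)
      (by decide +kernel) (by decide +kernel) (by rw [tab_E6]; decide +kernel)))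

theorem e6m_twrQ_base_13 (U : ℕ → Subgroup ↥(e6mG f))
    (hU : ∀ k < 24, ∀ g : ↥(e6mG f), g ∈ U k ↔
      ∃ t, Adm f (e6m_twrN_len k) t ∧ (g : GL chevE6.Idx K) = e6m_twrE_x f k t) : AbBase U 24 13 :=
  Or.inr (Or.inr (e6m_twrQ_base f U hU (j := 13) (a := 4) (b := 17) (by decide) (by decide) (by decide) (by decide) (by decide)
      (by decide) (by decide) (c := -1) (by decide) (by decide +kernel) (by decide +kernel)
      (by rw [tab_E6]; decide +kernel) (by decide +kernel) (by decide +kernel) (by rw [tab_E6]; decide +kernel)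
      (by decide +kernel) (by decide +kernel) (by rw [tab_E6]; decide +kernel)))

theorem e6m_twrQ_base_17 (U : ℕ → Subgroup ↥(e6mG f))
    (hU : ∀ k < 24, ∀ g : ↥(e6mG f), g ∈ U k ↔
      ∃ t, Adm f (e6m_twrN_len k) t ∧ (g : GL chevE6.Idx K) = e6m_twrE_x f k t) : AbBase U 24 17 :=
  Or.inr (Or.inr (e6m_twrQ_base f U hU (j := 17) (a := 8) (b := 21) (by decide) (by decide) (by decide) (by decide) (by decide)
      (by decide) (by decide) (c := -1) (by decide) (by decide +kernel) (by decide +kernel)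
      (by rw [tab_E6]; decide +kernel) (by decide +kernel) (by decide +kernel) (by rw [tab_E6]; decide +kernel)
      (by decide +kernel) (by decide +kernel) (by rw [tab_E6]; decide +kernel)))

theorem e6m_twrQ_base_20 (U : ℕ → Subgroup ↥(e6mG f))
    (hU : ∀ k < 24, ∀ g : ↥(e6mG f), g ∈ U k ↔
      ∃ t, Adm f (e6m_twrN_len k) t ∧ (g : GL chevE6.Idx K) = e6m_twrE_x f k t) : AbBase U 24 20 :=
  Or.inr (Or.inr (e6m_twrQ_base f U hU (j := 20) (a := 0) (b := 21) (by decide) (by decide) (by decide) (by decide) (by decide)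
      (by decide) (by decide) (c := -1) (by decide) (by decide +kernel) (by decide +kernel)
      (by rw [tab_E6]; decide +kernel) (by decide +kernel) (by decide +kernel) (by rw [tab_E6]; decide +kernel)
      (by decide +kernel) (by decide +kernel) (by rw [tab_E6]; decide +kernel)))

/-- **the `ab` field of `AbRoots` for the twelve long root groups of `²E₆` in characteristic `2`.** -/
theorem e6m_twrQ_ab (U : ℕ → Subgroup ↥(e6mG f))
    (hU : ∀ k < 24, ∀ g : ↥(e6mG f), g ∈ U k ↔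
      ∃ t, Adm f (e6m_twrN_len k) t ∧ (g : GL chevE6.Idx K) = e6m_twrE_x f k t) :
    ∀ k < 24, e6m_nc_long k = true →
      AbBase U 24 k ∨ ∃ j < 24, ∃ g : ↥(e6mG f), (∀ x ∈ U k, g⁻¹ * x * g ∈ U j) ∧ AbBase U 24 j := by
  intro k hk hl
  rcases e6m_twrQ_long_cases k hk hl with rfl | rfl | rfl | rfl | rfl | rfl | rfl | rfl | rfl | rfl | rfl | rfl
  · obtain ⟨g, hg⟩ := e6m_twrQ_transport f U hU (i := 0) (j := 1) (by decide) (by decide) (by decide) (by decide)
      [((3 : ℕ), (1 : ℕ))] (by decide) (by rw [tab_E6]; decide +kernel)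
    exact Or.inr ⟨1, by decide, g, hg, e6m_twrQ_base_1 f U hU⟩
  · exact Or.inl (e6m_twrQ_base_1 f U hU)
  · obtain ⟨g, hg⟩ := e6m_twrQ_transport f U hU (i := 4) (j := 1) (by decide) (by decide) (by decide) (by decide)
      [((1 : ℕ), (1 : ℕ))] (by decide) (by rw [tab_E6]; decide +kernel)
    exact Or.inr ⟨1, by decide, g, hg, e6m_twrQ_base_1 f U hU⟩
  · exact Or.inl (e6m_twrQ_base_5 f U hU)
  · exact Or.inl (e6m_twrQ_base_8 f U hU)
  · exact Or.inl (e6m_twrQ_base_9 f U hU)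
  · exact Or.inl (e6m_twrQ_base_12 f U hU)
  · exact Or.inl (e6m_twrQ_base_13 f U hU)
  · obtain ⟨g, hg⟩ := e6m_twrQ_transport f U hU (i := 16) (j := 8) (by decide) (by decide) (by decide) (by decide)
      [((1 : ℕ), (1 : ℕ))] (by decide) (by rw [tab_E6]; decide +kernel)
    exact Or.inr ⟨8, by decide, g, hg, e6m_twrQ_base_8 f U hU⟩
  · exact Or.inl (e6m_twrQ_base_17 f U hU)
  · exact Or.inl (e6m_twrQ_base_20 f U hU)
  · obtain ⟨g, hg⟩ := e6m_twrQ_transport f U hU (i := 21) (j := 20) (by decide) (by decide) (by decide) (by decide)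
      [((1 : ℕ), (1 : ℕ))] (by decide) (by rw [tab_E6]; decide +kernel)
    exact Or.inr ⟨20, by decide, g, hg, e6m_twrQ_base_20 f U hU⟩

end e6

end Cfsg.Agent.E6M
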